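import Cfsg.Prelude.Def_Characters
import Cfsg.Agent.Lib.Char.Kernel
import Mathlib.GroupTheory.Sylow

/-!
An abstract construction of a Steinberg character: the functions on a `G`-set `X` all of whose
sums over the classes of some invariant equivalence relations vanish, under hypotheses making
them a free rank one module for a subgroup `U` fixing a point.
-/

set_option autoImplicit false

open Module Finset

namespace CfsgLib.SteinbergChar

/-- The hypotheses of the construction. -/
structure Setup (G X : Type*) [Group G] [MulAction G X] [Fintype X] where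
  U : Subgroup G
  base : X
  fix : ∀ u ∈ U, u • base = base
  ι : Type
  rel : ι → X → X → Prop
  [decRel : ∀ i, DecidableRel (rel i)]
  rel_equiv : ∀ i, Equivalence (rel i)
  rel_smul : ∀ (i : ι) (g : G) {x y : X}, rel i x y → rel i (g • x) (g • y)
  top : X
  free : ∀ u ∈ U, u • top = top → u = 1
  rank : X → ℕ
  descent : ∀ x, (¬ ∃ u ∈ U, u • top = x) → ∃ i, ∀ y, rel i x y → y ≠ x → rank y < rank x
  e : X → ℂ
  e_sum : ∀ (i : ι) (x : X), ∑ y, (if rel i x y then e y else 0) = 0
  e_supp : ∀ u ∈ U, u ≠ 1 → e (u • top) = 0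
  e_top : e top ≠ 0
  reach : ∀ f : X → ℂ, (∀ (i : ι) (x : X), ∑ y, (if rel i x y then f y else 0) = 0) →
    (∀ g : G, f (g • base) = 0) → f = 0

attribute [instance] Setup.decRel

namespace Setup

variable {G X : Type*} [Group G] [MulAction G X] [Fintype X] (S : Setup G X)

/-- The functions with vanishing class sums. -/
def space : Submodule ℂ (X → ℂ) where
  carrier := {f | ∀ (i : S.ι) (x : X), ∑ y, (if S.rel i x y then f y else 0) = 0}
  zero_mem' := fun i x => by simp
  add_mem' := fun {a b} ha hb i x => by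
    have h := congrArg₂ (· + ·) (ha i x) (hb i x)
    simp only [add_zero, ← Finset.sum_add_distrib] at h
    refine (Finset.sum_congr rfl fun y _ => ?_).trans h
    split <;> simp
  smul_mem' := fun c a ha i x => by
    have := congrArg (c * ·) (ha i x)
    simp only [mul_zero, Finset.mul_sum, mul_ite] at this
    simpa using this

theorem mem_space {f : X → ℂ} :
    f ∈ S.space ↔ ∀ (i : S.ι) (x : X), ∑ y, (if S.rel i x y then f y else 0) = 0 := Iff.rfl

theorem translate_mem {f : X → ℂ} (hf : f ∈ S.space) (g : G) :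
    (fun x => f (g⁻¹ • x)) ∈ S.space := by
  intro i x
  refine (Equiv.sum_comp (MulAction.toPerm g) _).symm.trans (Eq.trans ?_ (hf i (g⁻¹ • x)))
  refine Finset.sum_congr rfl fun y _ => ?_
  simp only [MulAction.toPerm_apply, inv_smul_smul]
  refine if_congr ⟨fun h => ?_, fun h => ?_⟩ rfl rfl
  · simpa using S.rel_smul i g⁻¹ h
  · simpa using S.rel_smul i g h

/-- The representation on the functions with vanishing class sums. -/
def rep : Representation ℂ G S.space where
  toFun g :=
    { toFun := fun f => ⟨fun x => f.1 (g⁻¹ • x), S.translate_mem f.2 g⟩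
      map_add' := fun _ _ => rfl
      map_smul' := fun _ _ => rfl }
  map_one' := by
    ext f x
    simp
  map_mul' g h := by
    ext f x
    simp [mul_smul]

@[simp] theorem rep_apply (g : G) (f : S.space) (x : X) : (S.rep g f).1 x = f.1 (g⁻¹ • x) := rfl

/-- A function in the space vanishing on the top orbit vanishes. -/
theorem eq_zero {f : S.space} (h : ∀ u ∈ S.U, f.1 (u • S.top) = 0) : f = 0 := by
  refine Subtype.ext (funext fun x => ?_)
  induction hk : S.rank x using Nat.strong_induction_on generalizing x with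
  | _ k ih =>
    by_cases hx : ∃ u ∈ S.U, u • S.top = x
    · obtain ⟨u, hu, rfl⟩ := hx
      exact h u hu
    · obtain ⟨i, hi⟩ := S.descent x hx
      have hs := f.2 i x
      rw [Finset.sum_eq_single x (fun y _ hy => ?_) (by simp), if_pos ((S.rel_equiv i).refl x)] at hs
      · exact hs
      · by_cases hr : S.rel i x y
        · rw [if_pos hr]
          exact ih _ (hk ▸ hi y hr hy) y rfl
        · rw [if_neg hr]

/-- The normalised elements: translates of `e` under `U`. -/
noncomputable def delta (u : S.U) : S.space :=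
  (S.e S.top)⁻¹ • S.rep (u : G) ⟨S.e, S.e_sum⟩

theorem delta_apply [DecidableEq S.U] (u v : S.U) :
    (S.delta u).1 ((v : G) • S.top) = if u = v then 1 else 0 := by
  simp only [delta, Submodule.coe_smul, Pi.smul_apply, rep_apply, smul_eq_mul, ← mul_smul]
  split_ifs with h
  · subst h
    rw [inv_mul_cancel, one_smul, inv_mul_cancel₀ S.e_top]
  · rw [S.e_supp _ (mul_mem (inv_mem u.2) v.2) (fun hh => h (Subtype.ext (inv_mul_eq_one.mp hh))),
      mul_zero]

/-- Restriction to the top orbit, as a linear map. -/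
def coordMap : S.space →ₗ[ℂ] (S.U → ℂ) where
  toFun f u := f.1 ((u : G) • S.top)
  map_add' _ _ := rfl
  map_smul' _ _ := rfl

theorem coordMap_apply (f : S.space) (u : S.U) : S.coordMap f u = f.1 ((u : G) • S.top) := rfl

/-- Restriction to the top orbit. -/
noncomputable def coordEquiv [Finite S.U] : S.space ≃ₗ[ℂ] (S.U → ℂ) :=
  LinearEquiv.ofBijective S.coordMap
    ⟨by
      rw [← LinearMap.ker_eq_bot, LinearMap.ker_eq_bot']
      intro f hf
      exact S.eq_zero fun u hu => congrFun hf ⟨u, hu⟩,
     by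
      classical
      have : Fintype S.U := Fintype.ofFinite _
      intro c
      refine ⟨∑ u, c u • S.delta u, funext fun v => ?_⟩
      simp [coordMap_apply, Finset.sum_apply, S.delta_apply]⟩

@[simp] theorem coordEquiv_apply [Finite S.U] (f : S.space) (u : S.U) :
    S.coordEquiv f u = f.1 ((u : G) • S.top) := rfl

theorem character_one [Finite G] : S.rep.character 1 = (Nat.card S.U : ℂ) := by
  have : Fintype S.U := Fintype.ofFinite _
  rw [Representation.char_one, S.coordEquiv.finrank_eq, Module.finrank_fintype_fun_eq_card,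
    Nat.card_eq_fintype_card]

theorem character_eq_zero [Finite G] {u : G} (hu : u ∈ S.U) (h1 : u ≠ 1) :
    S.rep.character u = 0 := by
  classical
  have : Fintype S.U := Fintype.ofFinite _
  set b := Module.Basis.ofEquivFun S.coordEquiv with hb
  show LinearMap.trace ℂ _ (S.rep u) = 0
  rw [LinearMap.trace_eq_matrix_trace ℂ b, Matrix.trace]
  refine Finset.sum_eq_zero fun v _ => ?_
  rw [Matrix.diag_apply, LinearMap.toMatrix_apply]
  rw [hb, Module.Basis.ofEquivFun_repr_apply]
  set w : S.U := ⟨u⁻¹, inv_mem hu⟩ * v with hw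
  have hne : w ≠ v := by
    intro h
    rw [hw, mul_eq_right] at h
    exact h1 (inv_eq_one.mp (congrArg Subtype.val h))
  have h2 : S.coordEquiv (Module.Basis.ofEquivFun S.coordEquiv v) w = 0 := by
    rw [Module.Basis.coe_ofEquivFun, LinearEquiv.apply_symm_apply, Pi.single_apply, if_neg hne]
  rw [coordEquiv_apply, rep_apply, ← mul_smul]
  simpa [hw] using h2

theorem irreducible [Finite G] : S.rep.IsIrreducible := by
  classical
  have : Fintype S.U := Fintype.ofFinite _
  have : Nontrivial S.space := by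
    refine ⟨S.delta 1, 0, fun h => ?_⟩
    have := S.delta_apply 1 1
    rw [h] at this
    simp at this
  -- an `U`-invariant function is determined by its value at the top point
  have huniq : ∀ f : S.space, (∀ u ∈ S.U, S.rep u f = f) → f.1 S.top = 0 → f = 0 := by
    intro f hf h0
    refine S.eq_zero fun u hu => ?_
    have := congrArg (fun f : S.space => f.1 S.top) (hf u⁻¹ (inv_mem hu))
    simpa [h0] using this
  -- every nonzero invariant submodule has a nonzero invariant function
  have hkey : ∀ W : Submodule ℂ S.space, (∀ g : G, ∀ v ∈ W, S.rep g v ∈ W) → W ≠ ⊥ →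
      ∃ f ∈ W, (∀ u ∈ S.U, S.rep u f = f) ∧ f.1 S.top ≠ 0 := by
    intro W hW hne
    obtain ⟨f, hf, hf0⟩ := Submodule.exists_mem_ne_zero_of_ne_bot hne
    obtain ⟨g, hx⟩ : ∃ g : G, f.1 (g • S.base) ≠ 0 := by
      by_contra hc
      push Not at hc
      exact hf0 (Subtype.ext (S.reach f.1 f.2 hc))
    set f' := S.rep g⁻¹ f with hf'
    refine ⟨∑ u : S.U, S.rep (u : G) f', sum_mem fun u _ => hW _ _ (hW _ _ hf), fun u hu => ?_, ?_⟩
    · rw [map_sum]
      refine Fintype.sum_equiv (Equiv.mulLeft ⟨u, hu⟩) _ _ fun v => ?_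
      simp [← Module.End.mul_apply, ← map_mul]
    · intro h0
      have hz := huniq (∑ u : S.U, S.rep (u : G) f') (fun u hu => by
        rw [map_sum]
        refine Fintype.sum_equiv (Equiv.mulLeft ⟨u, hu⟩) _ _ fun v => ?_
        simp [← Module.End.mul_apply, ← map_mul]) h0
      have h1 := congrArg (fun f : S.space => f.1 S.base) hz
      simp only [Submodule.coe_sum, Finset.sum_apply, rep_apply, hf', ZeroMemClass.coe_zero,
        Pi.zero_apply] at h1
      rw [Finset.sum_congr rfl (fun (u : S.U) _ => by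
        rw [S.fix _ (inv_mem u.2), inv_inv]), Finset.sum_const, Finset.card_univ, nsmul_eq_mul] at h1
      rcases mul_eq_zero.mp h1 with h | h
      · exact Fintype.card_ne_zero (Nat.cast_eq_zero.mp h)
      · exact hx h
  refine CharKernel.isIrreducible_of_forall _ fun W hW => ?_
  obtain ⟨W', hW', hc⟩ := CharKernel.exists_invariant_compl S.rep W hW
  by_cases hb : W = ⊥
  · exact Or.inl hb
  refine Or.inr ?_
  by_cases hb' : W' = ⊥
  · simpa [hb'] using hc.sup_eq_top
  exfalso
  obtain ⟨f, hfW, hf, hft⟩ := hkey W hW hb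
  obtain ⟨f', hfW', hf', hft'⟩ := hkey W' hW' hb'
  have hz : f'.1 S.top • f - f.1 S.top • f' = 0 := by
    refine huniq _ (fun u hu => by simp [hf u hu, hf' u hu]) ?_
    simp [mul_comm]
  rw [sub_eq_zero] at hz
  have hmem : f'.1 S.top • f ∈ W ⊓ W' :=
    ⟨W.smul_mem _ hfW, hz ▸ W'.smul_mem _ hfW'⟩
  rw [hc.inf_eq_bot, Submodule.mem_bot, smul_eq_zero] at hmem
  rcases hmem with h | h
  · exact hft' h
  · rw [h] at hft
    exact hft rfl

/-- The character of the construction is irreducible, of degree `|U|`, and vanishes on `U` off the identity. -/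
theorem exists_character [Finite G] :
    ∃ χ : G → ℂ, Cfsg.IsIrrCharacter G χ ∧ χ 1 = (Nat.card S.U : ℂ) ∧
      ∀ u ∈ S.U, u ≠ 1 → χ u = 0 := by
  have := S.irreducible
  have : FiniteDimensional ℂ S.space := inferInstance
  exact ⟨S.rep.character,
    ⟨_, CharKernel.coordRep S.rep, CharKernel.coordRep_irreducible S.rep, CharKernel.coordRep_character S.rep⟩,
    S.character_one, fun u hu h1 => S.character_eq_zero hu h1⟩

/-- A central element fixing the base point acts trivially. -/
theorem rep_eq_one {z : G} (hz : z ∈ Subgroup.center G) (hb : z • S.base = S.base) : S.rep z = 1 := by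
  refine LinearMap.ext fun f => ?_
  rw [Module.End.one_apply, ← sub_eq_zero]
  refine Subtype.ext (S.reach _ (S.rep z f - f).2 fun g => ?_)
  have h : z⁻¹ • g • S.base = g • S.base := by
    rw [← mul_smul, ← Subgroup.mem_center_iff.mp (inv_mem hz) g, mul_smul, inv_smul_eq_iff.mpr hb.symm]
  simp [h]

/-- The construction inflated to, and read on, a quotient by central elements fixing the base point. -/
theorem exists_quotient_character [Finite G] (p : ℕ) [Fact p.Prime] (P₀ : Sylow p G)
    (hP : (P₀ : Subgroup G) = S.U) {Q : Type*} [Group Q] (π : G →* Q) (hπ : Function.Surjective π)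
    (hker : ∀ z ∈ π.ker, z ∈ Subgroup.center G ∧ z • S.base = S.base) :
    ∃ χ : Q → ℂ, Cfsg.IsIrrCharacter Q χ ∧ ∀ P : Sylow p Q,
      χ 1 = (Nat.card P : ℂ) ∧ ∀ x : Q, x ∈ P → x ≠ 1 → χ x = 0 := by
  have : Finite Q := Finite.of_surjective π hπ
  let R : G →* (Module.End ℂ S.space)ˣ := MonoidHom.toHomUnits (S.rep : G →* Module.End ℂ S.space)
  have hle : π.ker ≤ R.ker := fun z hz => Units.ext (S.rep_eq_one (hker z hz).1 (hker z hz).2)
  let ρ : Representation ℂ Q S.space :=
    (Units.coeHom (Module.End ℂ S.space)).comp (MonoidHom.liftOfSurjective π hπ ⟨R, hle⟩)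
  have hρ : ∀ g, ρ (π g) = S.rep g := fun g =>
    congrArg Units.val (MonoidHom.liftOfRightInverse_comp_apply _ _ _ _ g)
  have := S.irreducible
  have : Nontrivial S.space := CharKernel.nontrivial_of_irreducible S.rep
  have : ρ.IsIrreducible := CharKernel.isIrreducible_of_forall _ fun W hW =>
    CharKernel.eq_bot_or_eq_top S.rep W fun g v hv => hρ g ▸ hW (π g) v hv
  have hchar : ∀ g, ρ.character (π g) = S.rep.character g := fun g =>
    congrArg (LinearMap.trace ℂ _) (hρ g)
  have hinj : ∀ u ∈ S.U, π u = 1 → u = 1 := fun u hu h1 => by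
    by_contra hne
    have h0 := S.character_eq_zero hu hne
    rw [← hchar, h1, ← map_one π, hchar, S.character_one] at h0
    exact Nat.card_pos.ne' (Nat.cast_eq_zero.mp h0)
  refine ⟨ρ.character,
    ⟨_, CharKernel.coordRep ρ, CharKernel.coordRep_irreducible ρ, CharKernel.coordRep_character ρ⟩,
    fun P => ?_⟩
  let P₁ : Sylow p Q := P₀.mapSurjective hπ
  have hP₁ : (P₁ : Subgroup Q) = S.U.map π := by rw [Sylow.coe_mapSurjective, hP]
  have hcard : Nat.card P₁ = Nat.card S.U := by
    show Nat.card (P₁ : Subgroup Q) = _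
    rw [hP₁]
    refine (Nat.card_congr (Equiv.ofBijective
      (fun u : S.U => (⟨π u, Subgroup.mem_map_of_mem π u.2⟩ : S.U.map π)) ⟨fun u v h => ?_, ?_⟩)).symm
    · have h' : π u = π v := congrArg Subtype.val h
      exact Subtype.ext (inv_mul_eq_one.mp (hinj _ (mul_mem (inv_mem u.2) v.2)
        (by rw [map_mul, map_inv, h', inv_mul_cancel])))
    · rintro ⟨_, u, hu, rfl⟩
      exact ⟨⟨u, hu⟩, rfl⟩
  refine ⟨?_, fun x hx hx1 => ?_⟩
  · rw [← map_one π, hchar, S.character_one, ← hcard, Nat.card_congr (P₁.equiv P).toEquiv]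
  · obtain ⟨g, hg⟩ := MulAction.exists_smul_eq Q P P₁
    have hx' : g * x * g⁻¹ ∈ S.U.map π := by
      rw [← hP₁, ← hg]
      exact ⟨x, hx, rfl⟩
    obtain ⟨u, hu, he⟩ := hx'
    rw [← Representation.char_conj ρ x g, ← he, hchar]
    refine S.character_eq_zero hu fun h => hx1 ?_
    rw [h, map_one] at he
    exact conj_eq_one_iff.mp he.symm

/-- The Sylow form of the construction. -/
theorem exists_sylow_character [Finite G] (p : ℕ) [Fact p.Prime] (P₀ : Sylow p G)
    (hP : (P₀ : Subgroup G) = S.U) :
    ∃ χ : G → ℂ, Cfsg.IsIrrCharacter G χ ∧ ∀ P : Sylow p G,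
      χ 1 = (Nat.card P : ℂ) ∧ ∀ x : G, x ∈ P → x ≠ 1 → χ x = 0 := by
  obtain ⟨χ, hirr, h1, h0⟩ := S.exists_character
  obtain ⟨m, ρ, -, hρ⟩ := id hirr
  refine ⟨χ, hirr, fun P => ⟨?_, fun x hx hx1 => ?_⟩⟩
  · rw [h1, ← hP, Nat.card_congr (P₀.equiv P).toEquiv]
  · obtain ⟨g, hg⟩ := MulAction.exists_smul_eq G P P₀
    have hx' : g * x * g⁻¹ ∈ (P₀ : Subgroup G) := by
      rw [← hg]
      exact ⟨x, hx, rfl⟩
    rw [← hρ, ← Representation.char_conj ρ x g, hρ]
    exact h0 _ (hP ▸ hx') fun h => hx1 (conj_eq_one_iff.mp h)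

end Setup

end CfsgLib.SteinbergChar
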