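import Cfsg.Agent.Lib.SteinbergChar.Flags

/-!
Bruhat cells relative to a parabolic subgroup on both sides, its unipotent radical, and the
entries of a conjugated element of that radical.
-/

set_option autoImplicit false

open Matrix Finset CfsgLib.GLFlags

namespace CfsgLib.SteinbergChar

variable {n N : ℕ} {F : Type*} [Field F] {c : Fin n → Fin N}

/-- The product of two block triangular matrices on a diagonal block. -/
theorem block_mul_apply {A B : Matrix (Fin n) (Fin n) F} (hA : A.BlockTriangular c)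
    (hB : B.BlockTriangular c) {i j : Fin n} (h : c i = c j) :
    (A * B) i j = ∑ k ∈ univ.filter (fun k => c k = c i), A i k * B k j := by
  rw [Matrix.mul_apply, Finset.sum_filter]
  refine Finset.sum_congr rfl fun k _ => ?_
  split_ifs with hk
  · rfl
  · rcases lt_or_gt_of_ne hk with hlt | hgt
    · rw [hA hlt, zero_mul]
    · rw [hB (h ▸ hgt), mul_zero]

/-- The unipotent radical of a parabolic subgroup. -/
def uniC (c : Fin n → Fin N) : Subgroup (GL (Fin n) F) where
  carrier := {g | (g : Matrix (Fin n) (Fin n) F).BlockTriangular c ∧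
    ∀ i j, c i = c j → (g : Matrix (Fin n) (Fin n) F) i j = (1 : Matrix (Fin n) (Fin n) F) i j}
  mul_mem' := fun {a} {b} ha hb => ⟨ha.1.mul hb.1, fun i j h => by
    show ((a : Matrix (Fin n) (Fin n) F) * (b : Matrix (Fin n) (Fin n) F)) i j = _
    rw [block_mul_apply ha.1 hb.1 h, Finset.sum_congr rfl fun k hk => by
      rw [ha.2 i k (Finset.mem_filter.mp hk).2.symm, hb.2 k j ((Finset.mem_filter.mp hk).2.trans h)],
      ← block_mul_apply Matrix.blockTriangular_one Matrix.blockTriangular_one h, one_mul]⟩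
  one_mem' := ⟨Matrix.blockTriangular_one, fun i j _ => rfl⟩
  inv_mem' := fun {a} ha => by
    have hinv : ((a⁻¹ : GL (Fin n) F) : Matrix (Fin n) (Fin n) F).BlockTriangular c :=
      (triGroup c).inv_mem ha.1
    refine ⟨hinv, fun i j h => ?_⟩
    have h1 := block_mul_apply ha.1 hinv h
    rw [Units.mul_inv, Finset.sum_congr rfl fun k hk => by
      rw [ha.2 i k (Finset.mem_filter.mp hk).2.symm], Finset.sum_eq_single i] at h1
    · rw [Matrix.one_apply_eq, one_mul] at h1; exact h1.symm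
    · intro k _ hk; rw [Matrix.one_apply_ne (Ne.symm hk), zero_mul]
    · simp

theorem mem_uniC {g : GL (Fin n) F} : g ∈ uniC c ↔ (g : Matrix (Fin n) (Fin n) F).BlockTriangular c ∧
    ∀ i j, c i = c j → (g : Matrix (Fin n) (Fin n) F) i j = (1 : Matrix (Fin n) (Fin n) F) i j := Iff.rfl

theorem uniC_le : uniC c ≤ triGroup (F := F) c := fun _ h => h.1

theorem uniC_le_uni [Finite F] (hc : Monotone c) : uniC c ≤ uni n F := fun g hg => by
  refine mem_uni.mpr ⟨fun i j hij => ?_, fun i => by rw [hg.2 i i rfl, Matrix.one_apply_eq]⟩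
  rcases eq_or_ne (c i) (c j) with h | h
  · rw [hg.2 i j h, Matrix.one_apply_ne (ne_of_gt (show j < i from hij))]
  · exact hg.1 (lt_of_le_of_ne (hc (show j ≤ i from le_of_lt hij)) (Ne.symm h))

/-- The radical is normal in the parabolic subgroup, for block diagonal conjugators. -/
theorem conj_uniC {d u : GL (Fin n) F} (hd : d ∈ triGroup c) (hu : u ∈ uniC c) :
    d * u * d⁻¹ ∈ uniC c := by
  have hd' : d⁻¹ ∈ triGroup c := inv_mem hd
  have hmem : d * u * d⁻¹ ∈ triGroup c := mul_mem (mul_mem hd (uniC_le hu)) hd'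
  refine ⟨hmem, fun i j h => ?_⟩
  rw [Units.val_mul, Units.val_mul, block_mul_apply (hd.mul hu.1) hd' h]
  rw [Finset.sum_congr rfl (g := fun k => (d : Matrix (Fin n) (Fin n) F) i k *
    ((d⁻¹ : GL (Fin n) F) : Matrix (Fin n) (Fin n) F) k j), ← block_mul_apply hd hd' h, Units.mul_inv]
  intro k hk
  rw [Finset.mem_filter] at hk
  rw [block_mul_apply hd hu.1 hk.2.symm]
  rw [Finset.sum_congr rfl fun l hl => by
    rw [hu.2 l k ((Finset.mem_filter.mp hl).2.trans hk.2.symm)], Finset.sum_eq_single k]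
  · rw [Matrix.one_apply_eq, mul_one]
  · intro l _ hl; rw [Matrix.one_apply_ne hl, mul_zero]
  · simp [hk.2]

/-- A block diagonal part can be split off on the right. -/
theorem exists_uniC_mul {p : GL (Fin n) F} (hp : p ∈ triGroup c) :
    ∃ u ∈ uniC c, ∃ d : GL (Fin n) F,
      (∀ i j, (d : Matrix (Fin n) (Fin n) F) i j ≠ 0 → c i = c j) ∧ p = u * d := by
  set A := (p : Matrix (Fin n) (Fin n) F)
  let M : Matrix (Fin n) (Fin n) F := Matrix.of fun i j => if c i = c j then A i j else 0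
  have hM : M.BlockTriangular c := fun i j hij => by simp [M, hij.ne']
  have hdet : M.det ≠ 0 := by
    have he : M.det = A.det := by
      rw [Matrix.BlockTriangular.det_fintype hM, Matrix.BlockTriangular.det_fintype hp]
      refine Finset.prod_congr rfl fun a _ => congrArg _ (Matrix.ext fun i j => ?_)
      simp [Matrix.toSquareBlock_def, M, i.2, j.2, A]
    rw [he]
    exact (Matrix.GeneralLinearGroup.det p).ne_zero
  let d : GL (Fin n) F := Matrix.GeneralLinearGroup.mkOfDetNeZero M hdet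
  have hd : d ∈ triGroup c := hM
  refine ⟨p * d⁻¹, ⟨mul_mem hp (inv_mem hd), fun i j h => ?_⟩, d, fun i j hij => ?_, by group⟩
  · have hd' : d⁻¹ ∈ triGroup c := inv_mem hd
    rw [Units.val_mul, block_mul_apply hp hd' h, Finset.sum_congr rfl (g := fun k => M i k *
      ((d⁻¹ : GL (Fin n) F) : Matrix (Fin n) (Fin n) F) k j), ← block_mul_apply hM hd' h,
      show M * ((d⁻¹ : GL (Fin n) F) : Matrix (Fin n) (Fin n) F) = 1 from Units.mul_inv d]
    intro k hk
    simp [M, A, (Finset.mem_filter.mp hk).2]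
  · by_contra hne
    exact hij (show M i j = 0 by simp [M, hne])

/-- The double coset of a permutation for the parabolic subgroup. -/
def InBlockCell (c : Fin n → Fin N) (g : GL (Fin n) F) (σ : Equiv.Perm (Fin n)) : Prop :=
  ∃ p ∈ triGroup c, ∃ q ∈ triGroup c, g = p * permGL n F σ * q

theorem InCell.block (hc : Monotone c) {g : GL (Fin n) F} {σ : Equiv.Perm (Fin n)} (h : InCell g σ) :
    InBlockCell c g σ := by
  obtain ⟨p, hp, q, hq, rfl⟩ := h
  exact ⟨p, bor_le hc hp, q, bor_le hc hq, rfl⟩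

theorem InBlockCell.mul_right {g b : GL (Fin n) F} {σ : Equiv.Perm (Fin n)} (h : InBlockCell c g σ)
    (hb : b ∈ triGroup c) : InBlockCell c (g * b) σ := by
  obtain ⟨p, hp, q, hq, rfl⟩ := h
  exact ⟨p, hp, q * b, mul_mem hq hb, by group⟩

theorem InBlockCell.mul_left {g b : GL (Fin n) F} {σ : Equiv.Perm (Fin n)} (h : InBlockCell c g σ)
    (hb : b ∈ triGroup c) : InBlockCell c (b * g) σ := by
  obtain ⟨p, hp, q, hq, rfl⟩ := h
  exact ⟨b * p, mul_mem hb hp, q, hq, by group⟩

theorem InBlockCell.unique' {g : GL (Fin n) F} {σ σ' : Equiv.Perm (Fin n)} (h : InBlockCell c g σ)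
    (h' : InBlockCell c g σ') :
    ∃ s t : Equiv.Perm (Fin n), (∀ k, c (s k) = c k) ∧ (∀ k, c (t k) = c k) ∧ σ' = s * σ * t := by
  obtain ⟨p, hp, q, hq, rfl⟩ := h
  obtain ⟨p', hp', q', hq', he⟩ := h'
  exact exists_perm_of_double c c (p'⁻¹ * p) (q' * q⁻¹) σ σ' (mul_mem (inv_mem hp') hp)
    (mul_mem hq' (inv_mem hq))
    (by
      calc p'⁻¹ * p * permGL n F σ = p'⁻¹ * (p * permGL n F σ * q) * q⁻¹ := by group
        _ = _ := by rw [he]; group)

theorem InBlockCell.unique_lift (hs : Function.Surjective c) {g : GL (Fin n) F}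
    {σ σ' : Equiv.Perm (Fin n)} {w w' : Equiv.Perm (Fin N)} (h : InBlockCell c g σ)
    (h' : InBlockCell c g σ') (hσ : ∀ k, c (σ k) = w (c k)) (hσ' : ∀ k, c (σ' k) = w' (c k)) :
    w = w' := by
  obtain ⟨s, t, hs', ht, rfl⟩ := h.unique' h'
  refine Equiv.ext fun a => ?_
  obtain ⟨k, rfl⟩ := hs a
  rw [← hσ', Equiv.Perm.mul_apply, Equiv.Perm.mul_apply, hs', hσ, ht]

theorem permGL_mem_triGroup {v : Equiv.Perm (Fin n)} (hv : ∀ i, c (v i) = c i) :
    permGL n F v ∈ triGroup c := by
  intro i j hij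
  rw [permGL_apply, if_neg]
  intro he
  rw [← he, hv j] at hij
  exact lt_irrefl _ hij

/-- The radical meets the conjugate of the parabolic subgroup by the reversal trivially. -/
theorem eq_one_of_rev {σ : Equiv.Perm (Fin n)} (hσ : ∀ k, c (σ k) = Fin.rev (c k)) {u : GL (Fin n) F}
    (hu : u ∈ uniC c) (h : (permGL n F σ)⁻¹ * u * permGL n F σ ∈ triGroup c) : u = 1 := by
  refine Units.ext (Matrix.ext fun i j => ?_)
  rw [Units.val_one]
  have hinv : ∀ k, c (σ⁻¹ k) = Fin.rev (c k) := fun k => by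
    have h1 := hσ (σ⁻¹ k)
    rw [show σ (σ⁻¹ k) = k from σ.apply_symm_apply k] at h1
    rw [h1, Fin.rev_rev]
  rcases lt_trichotomy (c i) (c j) with hlt | heq | hgt
  · have h1 := h (show c (σ⁻¹ j) < c (σ⁻¹ i) by rw [hinv, hinv]; exact Fin.rev_lt_rev.mpr hlt)
    rw [mul_assoc, ← map_inv, Units.val_mul, permGL_mul, Units.val_mul, mul_permGL] at h1
    rw [Matrix.one_apply_ne (fun he => hlt.ne (congrArg c he))]
    simpa using h1
  · exact hu.2 i j heq
  · rw [Matrix.one_apply_ne (fun he => hgt.ne' (congrArg c he))]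
    exact hu.1 hgt

/-- Vanishing on a range of blocks is inherited by products with block triangular matrices. -/
theorem zero_of_range {a b : Fin N} {P M P' : Matrix (Fin n) (Fin n) F} (hP : P.BlockTriangular c)
    (hP' : P'.BlockTriangular c) (hM : ∀ i j, a ≤ c i → c j ≤ b → M i j = 0) {i j : Fin n}
    (hi : a ≤ c i) (hj : c j ≤ b) : (P * M * P') i j = 0 := by
  rw [Matrix.mul_apply]
  refine Finset.sum_eq_zero fun l _ => ?_
  rcases lt_or_ge (c j) (c l) with h | h
  · rw [hP' h, mul_zero]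
  rw [Matrix.mul_apply, Finset.sum_eq_zero, zero_mul]
  intro k _
  rcases lt_or_ge (c k) (c i) with h' | h'
  · rw [hP h', zero_mul]
  · rw [hM k l (hi.trans h') (h.trans hj), mul_zero]

/-- A root entry survives conjugation by the parabolic subgroup. -/
theorem exists_root_entry {a b : Fin N} {u p : GL (Fin n) F} (hp : p ∈ triGroup c)
    (hne : ∃ i j, c i = a ∧ c j = b ∧ (u : Matrix (Fin n) (Fin n) F) i j ≠ 0) (hab : a ≠ b)
    (hsmall : ∀ i j, a ≤ c i → c j ≤ b → ¬ (c i = a ∧ c j = b) →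
      (u : Matrix (Fin n) (Fin n) F) i j = (1 : Matrix (Fin n) (Fin n) F) i j) :
    ∃ i j, c i = a ∧ c j = b ∧
      ((p⁻¹ * u * p : GL (Fin n) F) : Matrix (Fin n) (Fin n) F) i j ≠ 0 := by
  by_contra hc
  push Not at hc
  obtain ⟨i, j, hi, hj, hu⟩ := hne
  set P := (p : Matrix (Fin n) (Fin n) F)
  set P' := ((p⁻¹ : GL (Fin n) F) : Matrix (Fin n) (Fin n) F)
  have hP' : P'.BlockTriangular c := (triGroup c).inv_mem hp
  set M := (u : Matrix (Fin n) (Fin n) F) - 1
  have hX : ∀ k l, (P' * M * P) k l =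
      ((p⁻¹ * u * p : GL (Fin n) F) : Matrix (Fin n) (Fin n) F) k l - (1 : Matrix (Fin n) (Fin n) F) k l := by
    intro k l
    rw [Matrix.mul_sub, Matrix.mul_one, Matrix.sub_mul, Matrix.sub_apply,
      show P' * P = 1 from Units.inv_mul p, Units.val_mul, Units.val_mul]
  have hXz : ∀ k l, a ≤ c k → c l ≤ b → (P' * M * P) k l = 0 := by
    intro k l hk hl
    by_cases hkl : c k = a ∧ c l = b
    · rw [hX, hc k l hkl.1 hkl.2, Matrix.one_apply_ne (fun h => hab (hkl.1 ▸ hkl.2 ▸ congrArg c h)), sub_zero]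
    · refine zero_of_range (a := c k) (b := c l) hP' hp (fun k' l' hk' hl' => ?_) le_rfl le_rfl
      rw [show M k' l' = (u : Matrix (Fin n) (Fin n) F) k' l' - (1 : Matrix (Fin n) (Fin n) F) k' l' from rfl,
        hsmall k' l' (hk.trans hk') (hl'.trans hl) (fun h => hkl
        ⟨le_antisymm (h.1 ▸ hk') hk, le_antisymm hl (h.2 ▸ hl')⟩), sub_self]
  have hback := zero_of_range (P := P) (P' := P') (M := P' * M * P) hp hP' hXz (le_of_eq hi.symm)
    (le_of_eq hj)
  rw [show P * (P' * M * P) * P' = M by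
    rw [← Matrix.mul_assoc, ← Matrix.mul_assoc, show P * P' = 1 from Units.mul_inv p, Matrix.one_mul,
      Matrix.mul_assoc, show P * P' = 1 from Units.mul_inv p, Matrix.mul_one],
    show M i j = (u : Matrix (Fin n) (Fin n) F) i j - (1 : Matrix (Fin n) (Fin n) F) i j from rfl,
    Matrix.one_apply_ne (fun h => hab (hi ▸ hj ▸ congrArg c h)), sub_zero] at hback
  exact hu hback

/-- A fixed point of a root element forces an ascent. -/
theorem lt_of_root {a b : Fin N} (hab : a < b) {u p q g : GL (Fin n) F} {σ : Equiv.Perm (Fin n)}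
    {w : Equiv.Perm (Fin N)} (hp : p ∈ triGroup c) (hq : q ∈ triGroup c)
    (hσ : ∀ k, c (σ k) = w (c k)) (hg : g = p * permGL n F σ * q)
    (hne : ∃ i j, c i = a ∧ c j = b ∧ (u : Matrix (Fin n) (Fin n) F) i j ≠ 0)
    (hsmall : ∀ i j, a ≤ c i → c j ≤ b → ¬ (c i = a ∧ c j = b) →
      (u : Matrix (Fin n) (Fin n) F) i j = (1 : Matrix (Fin n) (Fin n) F) i j)
    (hfix : g⁻¹ * u * g ∈ triGroup c) : w⁻¹ a < w⁻¹ b := by
  obtain ⟨i, j, hi, hj, hx⟩ := exists_root_entry hp hne hab.ne hsmall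
  have hinv : ∀ k, c (σ⁻¹ k) = w⁻¹ (c k) := fun k => by
    have h1 := hσ (σ⁻¹ k)
    rw [show σ (σ⁻¹ k) = k from σ.apply_symm_apply k] at h1
    rw [h1]
    exact (w.symm_apply_apply _).symm
  have h1 : (permGL n F σ)⁻¹ * (p⁻¹ * u * p) * permGL n F σ ∈ triGroup c := by
    have := mul_mem (mul_mem hq hfix) (inv_mem hq)
    subst hg
    simpa [mul_assoc] using this
  by_contra hle
  rw [not_lt] at hle
  have hlt : c (σ⁻¹ j) < c (σ⁻¹ i) := by
    rw [hinv, hinv, hi, hj]
    exact lt_of_le_of_ne hle (fun h => hab.ne' ((w⁻¹).injective h))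
  have h2 := h1 hlt
  rw [mul_assoc, ← map_inv, Units.val_mul, permGL_mul, Units.val_mul, mul_permGL] at h2
  exact hx (by simpa using h2)

end CfsgLib.SteinbergChar
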