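import Cfsg.Agent.Lib.SteinbergChar.Instance

/-!
Adjacent block systems on `Fin n`.
-/

set_option autoImplicit false

open Finset

namespace CfsgLib.SteinbergChar

variable {n : ℕ}

/-- A permutation of `Fin n` without adjacent ascent is the reversal. -/
theorem exists_ascent {w : Equiv.Perm (Fin n)} (hw : w ≠ Fin.revPerm) :
    ∃ i j : Fin n, (j : ℕ) = (i : ℕ) + 1 ∧ w i < w j := by
  by_contra hc
  push Not at hc
  apply hw
  have key : ∀ d : ℕ, ∀ i j : Fin n, (j : ℕ) = (i : ℕ) + (d + 1) → w j < w i := by
    intro d
    induction d with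
    | zero =>
      intro i j hij
      refine lt_of_le_of_ne (hc i j hij) fun h => ?_
      have := congrArg Fin.val (w.injective h)
      omega
    | succ d ih =>
      intro i j hij
      have hlt : (i : ℕ) + (d + 1) < n := by have := j.2; omega
      have h2 : w j < w ⟨(i : ℕ) + (d + 1), hlt⟩ := by
        refine lt_of_le_of_ne (hc _ j (by show (j : ℕ) = (i : ℕ) + (d + 1) + 1; omega)) fun h => ?_
        have := congrArg Fin.val (w.injective h)
        simp only at this
        omega
      exact h2.trans (ih i _ rfl)
  have hmono : StrictMono fun i => Fin.rev (w i) := fun i j hij => by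
    refine Fin.rev_lt_rev.mpr (key ((j : ℕ) - (i : ℕ) - 1) i j ?_)
    have : (i : ℕ) < (j : ℕ) := hij
    omega
  have hid := StrictMono.range_inj hmono strictMono_id
  have hsurj : Function.Surjective fun i => Fin.rev (w i) := Fin.rev_bijective.surjective.comp w.surjective
  refine Equiv.ext fun i => ?_
  have := congrFun (hid.mp (by rw [hsurj.range_eq, Set.range_id])) i
  simp only [id_eq] at this
  rw [Fin.revPerm_apply, ← Fin.rev_rev (w i), this]

/-- The block labelling with the one block `{a, a + 1}`. -/
def pairBlock (a : ℕ) (k : Fin n) : ℕ := if (k : ℕ) ≤ a then k else (k : ℕ) - 1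

theorem pairBlock_mono (a : ℕ) : Monotone (pairBlock (n := n) a) := by
  intro i j hij
  have : (i : ℕ) ≤ (j : ℕ) := hij
  simp only [pairBlock]
  split_ifs <;> omega

theorem pairBlock_eq {a : ℕ} {i j : Fin n} (h : pairBlock a i = pairBlock a j) :
    i = j ∨ ((i : ℕ) = a ∧ (j : ℕ) = a + 1) ∨ ((i : ℕ) = a + 1 ∧ (j : ℕ) = a) := by
  simp only [pairBlock] at h
  rw [Fin.ext_iff]
  split_ifs at h <;> omega

/-- A permutation moving only two given points is the identity or their transposition. -/
theorem eq_one_or_swap {α : Type*} [DecidableEq α] (v : Equiv.Perm α) {i j : α}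
    (h : ∀ k, k ≠ i → k ≠ j → v k = k) : v = 1 ∨ v = Equiv.swap i j := by
  have hfix : ∀ k, k ≠ i → k ≠ j → ∀ x, x ≠ k → v x ≠ k := fun k h1 h2 x hx he =>
    hx (v.injective (he.trans (h k h1 h2).symm))
  have hi : v i = i ∨ v i = j := by
    by_contra hc
    push Not at hc
    exact hfix (v i) hc.1 hc.2 i (Ne.symm hc.1) rfl
  rcases hi with hi | hi
  · left
    refine Equiv.ext fun k => ?_
    rw [Equiv.Perm.one_apply]
    by_cases hki : k = i
    · subst hki; exact hi
    by_cases hkj : k = j
    · subst hkj
      by_contra hne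
      have h1 : v k ≠ i := fun he => hki (v.injective (he.trans hi.symm))
      exact hfix (v k) h1 hne k (Ne.symm hne) rfl
    exact h k hki hkj
  · right
    refine Equiv.ext fun k => ?_
    by_cases hki : k = i
    · subst hki; rw [Equiv.swap_apply_left]; exact hi
    by_cases hkj : k = j
    · subst hkj
      rw [Equiv.swap_apply_right]
      by_contra hne
      have h1 : v k ≠ k := fun he => hki (v.injective (he.trans hi.symm))
      exact hfix (v k) hne h1 k (Ne.symm h1) rfl
    rw [Equiv.swap_apply_of_ne_of_ne hki hkj]
    exact h k hki hkj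

end CfsgLib.SteinbergChar
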