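import Cfsg.Agent.Lib.SteinbergChar.Abstract
import Cfsg.Agent.Lib.AutPSL.Root
import Cfsg.Agent.Lib.GLFlags.Bruhat
import Mathlib.Algebra.Order.Rearrangement

/-!
Triangular subgroups of `GL n`, Bruhat cells, and the behaviour of cells on the fibres of the
projection to a partial flag space.
-/

set_option autoImplicit false

open Matrix Finset CfsgLib.GLFlags

namespace CfsgLib.SteinbergChar

variable {n : ℕ} {F : Type*} [Field F]

/-- The group of block upper triangular invertible matrices. -/
def triGroup {β : Type*} [LinearOrder β] (b : Fin n → β) : Subgroup (GL (Fin n) F) where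
  carrier := {g | (g : Matrix (Fin n) (Fin n) F).BlockTriangular b}
  mul_mem' := fun {a} {c} ha hc => by
    show ((a : Matrix (Fin n) (Fin n) F) * (c : Matrix (Fin n) (Fin n) F)).BlockTriangular b
    exact ha.mul hc
  one_mem' := Matrix.blockTriangular_one
  inv_mem' := fun {a} ha => by
    show ((a⁻¹ : GL (Fin n) F) : Matrix (Fin n) (Fin n) F).BlockTriangular b
    have : Invertible (a : Matrix (Fin n) (Fin n) F) := a.invertible
    rw [Matrix.coe_units_inv]
    exact Matrix.blockTriangular_inv_of_blockTriangular ha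

theorem mem_triGroup {β : Type*} [LinearOrder β] {b : Fin n → β} {g : GL (Fin n) F} :
    g ∈ triGroup b ↔ (g : Matrix (Fin n) (Fin n) F).BlockTriangular b := Iff.rfl

/-- The upper triangular group. -/
abbrev bor (n : ℕ) (F : Type*) [Field F] : Subgroup (GL (Fin n) F) := triGroup (id : Fin n → Fin n)

theorem bor_le {β : Type*} [LinearOrder β] {b : Fin n → β} (hb : Monotone b) :
    bor n F ≤ triGroup b := fun _ hg => blockTriangular_of_id hb hg

/-- The upper unitriangular group. -/
noncomputable def uni (n : ℕ) (F : Type*) [Field F] [Finite F] : Subgroup (GL (Fin n) F) :=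
  (AutPSL.uniTri n F).map Matrix.SpecialLinearGroup.toGL

theorem mem_uni [Finite F] {g : GL (Fin n) F} :
    g ∈ uni n F ↔ (g : Matrix (Fin n) (Fin n) F).BlockTriangular id ∧
      ∀ i, (g : Matrix (Fin n) (Fin n) F) i i = 1 := by
  constructor
  · rintro ⟨s, hs, rfl⟩
    exact AutPSL.mem_uniTri.mp hs
  · rintro ⟨h1, h2⟩
    have hdet : (g : Matrix (Fin n) (Fin n) F).det = 1 := by
      rw [Matrix.det_of_isUpperTriangular h1]
      exact Finset.prod_eq_one fun i _ => h2 i
    exact ⟨⟨g, hdet⟩, AutPSL.mem_uniTri.mpr ⟨h1, h2⟩, Units.ext rfl⟩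

theorem uni_le_bor [Finite F] : uni n F ≤ bor n F := fun _ hg => (mem_uni.mp hg).1

theorem bor_diag_mul {A B : Matrix (Fin n) (Fin n) F} (hA : A.BlockTriangular id)
    (hB : B.BlockTriangular id) (i : Fin n) : (A * B) i i = A i i * B i i := by
  rw [Matrix.mul_apply, Finset.sum_eq_single i]
  · intro k _ hk
    rcases lt_or_gt_of_ne hk with h | h
    · rw [hA (show id k < id i from h), zero_mul]
    · rw [hB (show id i < id k from h), mul_zero]
  · simp

theorem bor_diag_pow {A : Matrix (Fin n) (Fin n) F} (hA : A.BlockTriangular id) (i : Fin n) (k : ℕ) :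
    (A ^ k) i i = A i i ^ k := by
  induction k with
  | zero => simp
  | succ k ih =>
    have hk : (A ^ k).BlockTriangular id := hA.pow k
    rw [pow_succ, bor_diag_mul hk hA, ih, pow_succ]

/-- Conjugation by a permutation matrix. -/
theorem conj_permGL_apply (A : GL (Fin n) F) (w : Equiv.Perm (Fin n)) (i j : Fin n) :
    ((permGL n F w * A * (permGL n F w)⁻¹ : GL (Fin n) F) : Matrix (Fin n) (Fin n) F) i j =
      (A : Matrix (Fin n) (Fin n) F) (w⁻¹ i) (w⁻¹ j) := by
  rw [← map_inv, Units.val_mul, mul_permGL, Units.val_mul, permGL_mul]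

theorem perm_preserves {β : Type*} [LinearOrder β] {b : Fin n → β} {v : Equiv.Perm (Fin n)}
    (h : permGL n F v ∈ triGroup b) (i : Fin n) : b (v i) = b i := by
  obtain ⟨π, hπ, hπb⟩ := exists_perm_support b _
    (by simpa using (Matrix.GeneralLinearGroup.det (permGL n F v)).ne_zero) h
  have : v i = π i := by
    by_contra hne
    exact hπ i (by rw [permGL_apply, if_neg hne])
  rw [this, hπb]

/-- The double coset of a permutation. -/
def InCell (g : GL (Fin n) F) (w : Equiv.Perm (Fin n)) : Prop :=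
  ∃ p ∈ bor n F, ∃ q ∈ bor n F, g = p * permGL n F w * q

theorem exists_inCell (g : GL (Fin n) F) : ∃ w, InCell g w := by
  obtain ⟨p, q, w, hp, hq, h⟩ := exists_bruhat g
  exact ⟨w, p, hp, q, hq, h⟩

theorem InCell.unique {g : GL (Fin n) F} {w w' : Equiv.Perm (Fin n)} (h : InCell g w)
    (h' : InCell g w') : w = w' := by
  obtain ⟨p, hp, q, hq, rfl⟩ := h
  obtain ⟨p', hp', q', hq', he⟩ := h'
  obtain ⟨s, t, hs, ht, hw⟩ := exists_perm_of_double (id : Fin n → Fin n) (id : Fin n → Fin n)
    (p'⁻¹ * p) (q' * q⁻¹) w w' (mul_mem (inv_mem hp') hp : p'⁻¹ * p ∈ bor n F)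
    (mul_mem hq' (inv_mem hq) : q' * q⁻¹ ∈ bor n F)
    (by
      calc p'⁻¹ * p * permGL n F w = p'⁻¹ * (p * permGL n F w * q) * q⁻¹ := by group
        _ = _ := by rw [he]; group)
  have hs1 : s = 1 := Equiv.ext hs
  have ht1 : t = 1 := Equiv.ext ht
  simp [hw, hs1, ht1]

theorem InCell.mul_bor {g : GL (Fin n) F} {w : Equiv.Perm (Fin n)} (h : InCell g w)
    {b : GL (Fin n) F} (hb : b ∈ bor n F) : InCell (g * b) w := by
  obtain ⟨p, hp, q, hq, rfl⟩ := h
  exact ⟨p, hp, q * b, mul_mem hq hb, by group⟩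

theorem InCell.bor_mul {g : GL (Fin n) F} {w : Equiv.Perm (Fin n)} (h : InCell g w)
    {b : GL (Fin n) F} (hb : b ∈ bor n F) : InCell (b * g) w := by
  obtain ⟨p, hp, q, hq, rfl⟩ := h
  exact ⟨b * p, mul_mem hb hp, q, hq, by group⟩

theorem inCell_perm (w : Equiv.Perm (Fin n)) {β : GL (Fin n) F} (hβ : β ∈ bor n F) :
    InCell (permGL n F w * β) w :=
  ⟨1, one_mem _, β, hβ, by group⟩

/-- Splitting off the block diagonal part of an upper triangular matrix. -/
theorem exists_levi {β : Type*} [LinearOrder β] {b : Fin n → β} (hb : Monotone b)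
    {g : GL (Fin n) F} (hg : g ∈ bor n F) :
    ∃ D R : GL (Fin n) F, g = D * R ∧
      (∀ i j, (D : Matrix (Fin n) (Fin n) F) i j ≠ 0 → b i = b j ∧ i ≤ j) ∧
      (∀ i j, (R : Matrix (Fin n) (Fin n) F) i j ≠ 0 → i = j ∨ b i < b j) := by
  set A := (g : Matrix (Fin n) (Fin n) F)
  let D : Matrix (Fin n) (Fin n) F := Matrix.of fun i j => if b i = b j then A i j else 0
  have hD : D.BlockTriangular id := fun i j hij => by
    simp only [D, Matrix.of_apply]
    split
    · exact hg hij
    · rfl
  have hdiag : ∀ i, A i i ≠ 0 := fun i h0 => by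
    have h := (Matrix.GeneralLinearGroup.det g).ne_zero
    rw [Matrix.GeneralLinearGroup.val_det_apply, Matrix.det_of_isUpperTriangular hg] at h
    exact h (Finset.prod_eq_zero (Finset.mem_univ i) h0)
  have hdet : D.det ≠ 0 := by
    rw [Matrix.det_of_isUpperTriangular hD, Finset.prod_ne_zero_iff]
    intro i _
    simpa [D] using hdiag i
  let Du : GL (Fin n) F := Matrix.GeneralLinearGroup.mkOfDetNeZero D hdet
  have hD1 : Du ∈ triGroup b := fun i j hij => by
    show D i j = 0
    simp [D, hij.ne']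
  have hD2 : Du ∈ triGroup (OrderDual.toDual ∘ b) := fun i j hij => by
    show D i j = 0
    have : b i < b j := hij
    simp [D, this.ne]
  refine ⟨Du, Du⁻¹ * g, by group, fun i j h => ?_, fun i j h => ?_⟩
  · have h' : D i j ≠ 0 := h
    simp only [D, Matrix.of_apply, ne_eq, ite_eq_right_iff, Classical.not_imp] at h'
    exact ⟨h'.1, not_lt.mp fun hlt => h'.2 (hg hlt)⟩
  · by_contra hc
    push Not at hc
    apply h
    have hI : ((Du⁻¹ : GL (Fin n) F) : Matrix (Fin n) (Fin n) F) * D = 1 := Units.inv_mul Du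
    have h1 : ((Du⁻¹ * g : GL (Fin n) F) : Matrix (Fin n) (Fin n) F) i j =
        (1 : Matrix (Fin n) (Fin n) F) i j +
          ∑ k, ((Du⁻¹ : GL (Fin n) F) : Matrix (Fin n) (Fin n) F) i k * (A k j - D k j) := by
      rw [← hI, Units.val_mul, Matrix.mul_apply, Matrix.mul_apply, ← Finset.sum_add_distrib]
      refine Finset.sum_congr rfl fun k _ => ?_
      ring
    rw [h1, Matrix.one_apply_ne hc.1, zero_add]
    refine Finset.sum_eq_zero fun k _ => ?_
    by_cases hkj : b k = b j
    · simp [D, hkj]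
    rcases lt_or_gt_of_ne hkj with hlt | hgt
    · rcases eq_or_ne (b i) (b k) with hik | hik
      · exact absurd (hik ▸ hlt) (not_lt.mpr hc.2)
      · rcases lt_or_gt_of_ne hik with h' | h'
        · exact absurd (h'.trans hlt) (not_lt.mpr hc.2)
        · rw [inv_mem hD1 h', zero_mul]
    · have hA : A k j = 0 := (bor_le hb hg) hgt
      simp [D, hkj, hA]

/-- The cells met by a fibre over a point whose cell is increasing on blocks. -/
theorem exists_fibre_cell {β : Type*} [LinearOrder β] {b : Fin n → β} (hb : Monotone b)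
    {w : Equiv.Perm (Fin n)} (hw : ∀ i j, b i = b j → i < j → w i < w j)
    {p : GL (Fin n) F} (hp : p ∈ triGroup b) :
    ∃ v : Equiv.Perm (Fin n), (∀ i, b (v i) = b i) ∧ InCell (permGL n F w * p) (w * v) ∧
      InCell p v := by
  obtain ⟨p1, q1, v, hp1, hq1, rfl⟩ := exists_bruhat p
  have hv : permGL n F v ∈ triGroup b := by
    have := mul_mem (mul_mem (inv_mem (bor_le hb hp1)) hp) (inv_mem (bor_le hb hq1))
    simpa [mul_assoc] using this
  refine ⟨v, perm_preserves hv, ?_, p1, hp1, q1, hq1, rfl⟩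
  obtain ⟨D, R, rfl, hD, hR⟩ := exists_levi hb (show p1 ∈ bor n F from hp1)
  have h1 : permGL n F w * D * (permGL n F w)⁻¹ ∈ bor n F := by
    intro i j hij
    have hij' : j < i := hij
    rw [conj_permGL_apply]
    by_contra hne
    obtain ⟨hb', hle⟩ := hD _ _ hne
    rcases eq_or_lt_of_le hle with he | hlt
    · exact hij'.ne ((w⁻¹).injective he).symm
    · have := hw _ _ hb' hlt
      rw [show ∀ x, w (w⁻¹ x) = x from w.apply_symm_apply] at this
      rw [show ∀ x, w (w⁻¹ x) = x from w.apply_symm_apply] at this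
      exact lt_asymm hij' this
  have h2 : permGL n F v⁻¹ * R * (permGL n F v⁻¹)⁻¹ ∈ bor n F := by
    intro i j hij
    have hij' : j < i := hij
    rw [conj_permGL_apply, inv_inv]
    by_contra hne
    rcases hR _ _ hne with he | hlt
    · exact hij'.ne (v.injective he).symm
    · rw [perm_preserves hv, perm_preserves hv] at hlt
      exact hlt.not_ge (hb hij'.le)
  refine ⟨_, h1, (permGL n F v⁻¹ * R * (permGL n F v⁻¹)⁻¹) * q1, mul_mem h2 hq1, ?_⟩
  simp only [map_mul, map_inv, inv_inv, mul_assoc, inv_mul_cancel_left, mul_inv_cancel_left]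

theorem InCell.mem_triGroup {β : Type*} [LinearOrder β] {c : Fin n → β} (hc : Monotone c)
    {p : GL (Fin n) F} {v : Equiv.Perm (Fin n)} (h : InCell p v) (hv : ∀ i, c (v i) = c i) :
    p ∈ triGroup c := by
  obtain ⟨p1, hp1, q1, hq1, rfl⟩ := h
  refine mul_mem (mul_mem (bor_le hc hp1) ?_) (bor_le hc hq1)
  intro i j hij
  rw [permGL_apply, if_neg]
  intro he
  rw [← he, hv j] at hij
  exact lt_irrefl _ hij

/-- A position weighted sum drops under a block preserving permutation. -/
theorem weight_lt {b : Fin n → ℕ} (hb : Monotone b) {w v : Equiv.Perm (Fin n)}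
    (hw : ∀ i j, b i = b j → i < j → w i < w j) (hv : ∀ i, b (v i) = b i) (hv1 : v ≠ 1) :
    ∑ i : Fin n, (i : ℕ) * ((w * v) i : ℕ) < ∑ i : Fin n, (i : ℕ) * (w i : ℕ) := by
  set f : Fin n → ℕ := fun i => (w i : ℕ) + n * b i with hf
  have hmono : StrictMono f := by
    intro i j hij
    rcases eq_or_lt_of_le (hb hij.le) with he | hlt
    · have : (w i : ℕ) < (w j : ℕ) := hw i j he hij
      simp only [hf, he]; omega
    · have h1 : n * (b i + 1) ≤ n * b j := Nat.mul_le_mul_left n hlt
      have h2 : (w i : ℕ) < n := (w i).2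
      simp only [hf, mul_add, mul_one] at h1 ⊢; omega
  have hmv : Monovary (fun i : Fin n => (i : ℕ)) f := fun i j hij => le_of_lt (hmono.lt_iff_lt.mp hij)
  have key : ∑ i : Fin n, (i : ℕ) * f (v i) < ∑ i : Fin n, (i : ℕ) * f i := by
    refine hmv.sum_mul_comp_perm_lt_sum_mul_iff.mpr fun hc => hv1 ?_
    have hmono' : Monotone v := by
      intro i j hij
      by_contra hlt
      rw [not_le] at hlt
      have h1 : (j : ℕ) ≤ (i : ℕ) := hc (i := j) (j := i) (hmono hlt)
      exact hlt.ne' (by rw [le_antisymm hij (Fin.le_def.mpr h1)])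
    have hid := StrictMono.range_inj (hmono'.strictMono_of_injective v.injective) strictMono_id
    exact Equiv.ext fun i => congrFun (hid.mp (by rw [v.surjective.range_eq, Set.range_id])) i
  simp only [hf, mul_add, hv, Finset.sum_add_distrib] at key
  simpa [Equiv.Perm.mul_apply] using key

/-- An element conjugating enough unitriangular elements into the unitriangular group is
triangular. -/
theorem mem_bor_of_conj {g : GL (Fin n) F}
    (h : ∀ i j : Fin n, (j : ℕ) = (i : ℕ) + 1 → ∃ u : GL (Fin n) F,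
      (u : Matrix (Fin n) (Fin n) F).BlockTriangular id ∧
      (∀ k, (u : Matrix (Fin n) (Fin n) F) k k = 1) ∧
      (u : Matrix (Fin n) (Fin n) F) i j ≠ 0 ∧
      ((g⁻¹ * u * g : GL (Fin n) F) : Matrix (Fin n) (Fin n) F).BlockTriangular id ∧
      ∀ k, ((g⁻¹ * u * g : GL (Fin n) F) : Matrix (Fin n) (Fin n) F) k k = 1) :
    g ∈ bor n F := by
  set A := (g : Matrix (Fin n) (Fin n) F)
  suffices H : ∀ k : ℕ, ∀ j : Fin n, (j : ℕ) ≤ k → ∀ i, j < i → A i j = 0 from
    fun i j hij => H _ j le_rfl i hij
  intro k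
  induction k using Nat.strong_induction_on with
  | _ k ih =>
    intro j hjk i hij
    by_contra hne
    classical
    obtain ⟨t, ht, hmax⟩ := Finset.exists_max_image (Finset.univ.filter fun t => j < t ∧ A t j ≠ 0)
      (fun t => t) ⟨i, Finset.mem_filter.mpr ⟨Finset.mem_univ _, hij, hne⟩⟩
    simp only [Finset.mem_filter, Finset.mem_univ, true_and] at ht
    have htj : (j : ℕ) < (t : ℕ) := ht.1
    let s : Fin n := ⟨(t : ℕ) - 1, by omega⟩
    have hst : (t : ℕ) = (s : ℕ) + 1 := by simp only [s]; omega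
    have hjs : j ≤ s := Fin.le_def.mpr (by omega)
    obtain ⟨u, hu, hud, hreg, hT, hd⟩ := h s t hst
    set M := (u : Matrix (Fin n) (Fin n) F)
    set T := ((g⁻¹ * u * g : GL (Fin n) F) : Matrix (Fin n) (Fin n) F)
    have heq : M * A = A * T := by
      have h0 : u * g = g * (g⁻¹ * u * g) := by group
      exact congrArg Units.val h0
    have hMA : (M * A) s j = A s j + M s t * A t j := by
      have hne' : s ≠ t := fun h => by rw [h] at hst; omega
      rw [Matrix.mul_apply, ← Finset.sum_subset (Finset.subset_univ {s, t}),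
        Finset.sum_pair hne', hud, one_mul]
      intro x _ hx
      simp only [Finset.mem_insert, Finset.mem_singleton, not_or] at hx
      have h1 : (x : ℕ) ≠ (s : ℕ) := fun h => hx.1 (Fin.ext h)
      have h2 : (x : ℕ) ≠ (t : ℕ) := fun h => hx.2 (Fin.ext h)
      by_cases hlt : x < s
      · rw [hu (show id x < id s from hlt), zero_mul]
      · have h3 : (s : ℕ) ≤ (x : ℕ) := Fin.le_def.mp (not_lt.mp hlt)
        have h4 : (t : ℕ) < (x : ℕ) := by omega
        by_cases h0 : A x j = 0
        · rw [h0, mul_zero]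
        · have := Fin.le_def.mp (hmax x (Finset.mem_filter.mpr ⟨Finset.mem_univ _,
            ht.1.trans (Fin.lt_def.mpr h4), h0⟩))
          omega
    have hAT : (A * T) s j = A s j := by
      rw [Matrix.mul_apply, Finset.sum_eq_single j, hd, mul_one]
      · intro x _ hx
        rcases lt_or_gt_of_ne hx with hlt | hgt
        · have : (x : ℕ) < (j : ℕ) := hlt
          rw [ih (x : ℕ) (by omega) x le_rfl s (Fin.lt_def.mpr (by have := Fin.le_def.mp hjs; omega)),
            zero_mul]
        · rw [hT (show id j < id x from hgt), mul_zero]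
      · simp
    rw [heq, hAT] at hMA
    exact mul_ne_zero hreg ht.2 (by linear_combination -hMA)

end CfsgLib.SteinbergChar
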