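import Cfsg.Agent.Lib.SteinbergChar.Flags
import Mathlib.GroupTheory.Nilpotent

/-!
The Steinberg character of a group of invertible matrices whose Bruhat cells are indexed by a
group of permutations with prescribed reflections.
-/

set_option autoImplicit false

open Matrix Finset CfsgLib.GLFlags

namespace CfsgLib.SteinbergChar

/-- The data on a matrix group needed for the construction. -/
structure Datum (n : ℕ) (F : Type*) [Field F] [Finite F] (H : Type*) [Group H] where
  f : H →* GL (Fin n) F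
  inj : Function.Injective f
  W : Subgroup (Equiv.Perm (Fin n))
  cell : ∀ h w, InCell (f h) w → w ∈ W
  rep : ∀ w ∈ W, ∃ h : H, ∃ β ∈ bor n F, f h = permGL n F w * β
  rev_mem : Fin.revPerm ∈ W
  uniLift : ∀ h, InCell (f h) Fin.revPerm →
    ∃ u : H, f u ∈ uni n F ∧ (f u * permGL n F Fin.revPerm)⁻¹ * f h ∈ bor n F
  regular : ∀ i j : Fin n, (j : ℕ) = (i : ℕ) + 1 →
    ∃ u : H, f u ∈ uni n F ∧ (f u : Matrix (Fin n) (Fin n) F) i j ≠ 0
  sgn : Equiv.Perm (Fin n) → ℂ
  sgn_rev : sgn Fin.revPerm ≠ 0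
  I : Type
  b : I → Fin n → ℕ
  mono : ∀ i, Monotone (b i)
  refl : I → Equiv.Perm (Fin n)
  refl_mem : ∀ i, refl i ∈ W
  refl_pres : ∀ i k, b i (refl i k) = b i k
  refl_ne : ∀ i, refl i ≠ 1
  refl_only : ∀ i, ∀ v ∈ W, (∀ k, b i (v k) = b i k) → v = 1 ∨ v = refl i
  sgn_refl : ∀ i, ∀ w ∈ W, sgn (w * refl i) = - sgn w
  desc : ∀ w ∈ W, w ≠ Fin.revPerm → ∃ i, ∀ k l, b i k = b i l → k < l → w k < w l

namespace Datum

variable {n : ℕ} {F : Type*} [Field F] [Finite F] {H : Type*} [Group H] (D : Datum n F H)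

/-- The triangular elements. -/
def B : Subgroup H := (bor n F).comap D.f

/-- The unitriangular elements. -/
noncomputable def U : Subgroup H := (uni n F).comap D.f

theorem mk_eq_iff {g h : H} :
    (QuotientGroup.mk g : H ⧸ D.B) = QuotientGroup.mk h ↔ (D.f g)⁻¹ * D.f h ∈ bor n F := by
  rw [QuotientGroup.eq, B, Subgroup.mem_comap, map_mul, map_inv]

/-- The cell of a point. -/
noncomputable def cellOf (x : H ⧸ D.B) : Equiv.Perm (Fin n) := (exists_inCell (D.f x.out)).choose

theorem inCell_cellOf (g : H) : InCell (D.f g) (D.cellOf (QuotientGroup.mk g)) := by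
  have h := (exists_inCell (D.f (QuotientGroup.mk g : H ⧸ D.B).out)).choose_spec
  have hb : (D.f (QuotientGroup.mk g : H ⧸ D.B).out)⁻¹ * D.f g ∈ bor n F :=
    D.mk_eq_iff.mp (QuotientGroup.out_eq' _)
  simpa [cellOf] using h.mul_bor hb

theorem cellOf_eq {g : H} {w : Equiv.Perm (Fin n)} (h : InCell (D.f g) w) :
    D.cellOf (QuotientGroup.mk g) = w := (D.inCell_cellOf g).unique h

theorem cellOf_mem (x : H ⧸ D.B) : D.cellOf x ∈ D.W := by
  obtain ⟨g, rfl⟩ := QuotientGroup.mk_surjective x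
  exact D.cell g _ (D.inCell_cellOf g)

/-- A chosen representative of a permutation. -/
noncomputable def lift (w : Equiv.Perm (Fin n)) : H :=
  open Classical in if h : w ∈ D.W then (D.rep w h).choose else 1

theorem lift_spec {w : Equiv.Perm (Fin n)} (h : w ∈ D.W) :
    ∃ β ∈ bor n F, D.f (D.lift w) = permGL n F w * β := by
  simp only [lift, dif_pos h]
  exact (D.rep w h).choose_spec

/-- The point of the apartment with a given cell. -/
noncomputable def pt (w : Equiv.Perm (Fin n)) : H ⧸ D.B := QuotientGroup.mk (D.lift w)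

theorem cellOf_pt {w : Equiv.Perm (Fin n)} (h : w ∈ D.W) : D.cellOf (D.pt w) = w := by
  obtain ⟨β, hβ, he⟩ := D.lift_spec h
  exact D.cellOf_eq (he ▸ inCell_perm w hβ)

/-- Adjacency of two points along a block system. -/
def rel (i : D.I) (x y : H ⧸ D.B) : Prop := (D.f x.out)⁻¹ * D.f y.out ∈ triGroup (D.b i)

theorem rel_mk {i : D.I} {g h : H} :
    D.rel i (QuotientGroup.mk g) (QuotientGroup.mk h) ↔ (D.f g)⁻¹ * D.f h ∈ triGroup (D.b i) := by
  have e : ∀ a : H, (D.f (QuotientGroup.mk a : H ⧸ D.B).out)⁻¹ * D.f a ∈ triGroup (D.b i) :=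
    fun a => bor_le (D.mono i) (D.mk_eq_iff.mp (QuotientGroup.out_eq' _))
  constructor
  · intro hr
    have := mul_mem (mul_mem (inv_mem (e g)) (show _ ∈ triGroup (D.b i) from hr)) (e h)
    simpa [mul_assoc] using this
  · intro hr
    have := mul_mem (mul_mem (e g) hr) (inv_mem (e h))
    simpa [rel, mul_assoc] using this

theorem rel_equiv (i : D.I) : Equivalence (D.rel i) where
  refl x := by simp [rel]
  symm {x y} h := by
    have := inv_mem (show _ ∈ triGroup (D.b i) from h)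
    simpa [rel] using this
  trans {x y z} h h' := by
    have := mul_mem (show _ ∈ triGroup (D.b i) from h) (show _ ∈ triGroup (D.b i) from h')
    simpa [rel, mul_assoc] using this

theorem rel_smul (i : D.I) (g : H) {x y : H ⧸ D.B} (h : D.rel i x y) :
    D.rel i (g • x) (g • y) := by
  obtain ⟨a, rfl⟩ := QuotientGroup.mk_surjective x
  obtain ⟨c, rfl⟩ := QuotientGroup.mk_surjective y
  rw [MulAction.Quotient.smul_mk, MulAction.Quotient.smul_mk, rel_mk] at *
  simpa [mul_assoc] using h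

/-- The apartment cycle. -/
noncomputable def e (x : H ⧸ D.B) : ℂ :=
  open Classical in if x = D.pt (D.cellOf x) then D.sgn (D.cellOf x) else 0

theorem e_pt {w : Equiv.Perm (Fin n)} (h : w ∈ D.W) : D.e (D.pt w) = D.sgn w := by
  rw [e, D.cellOf_pt h, if_pos rfl]

theorem e_eq_zero {x : H ⧸ D.B} (h : ∀ w ∈ D.W, x ≠ D.pt w) : D.e x = 0 := by
  rw [e, if_neg (h _ (D.cellOf_mem x))]

theorem rel_pt_iff (i : D.I) {w w' : Equiv.Perm (Fin n)} (hw : w ∈ D.W) (hw' : w' ∈ D.W) :
    D.rel i (D.pt w) (D.pt w') ↔ ∀ k, D.b i ((w⁻¹ * w') k) = D.b i k := by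
  obtain ⟨β, hβ, he⟩ := D.lift_spec hw
  obtain ⟨β', hβ', he'⟩ := D.lift_spec hw'
  rw [pt, pt, rel_mk, he, he']
  constructor
  · intro h k
    refine perm_preserves (F := F) ?_ k
    have := mul_mem (mul_mem (bor_le (D.mono i) hβ) h) (inv_mem (bor_le (D.mono i) hβ'))
    simpa [map_mul, map_inv, mul_assoc] using this
  · intro h
    have hp : permGL n F (w⁻¹ * w') ∈ triGroup (D.b i) := by
      intro a c hac
      rw [permGL_apply, if_neg]
      intro he
      rw [← he, h c] at hac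
      exact lt_irrefl _ hac
    have := mul_mem (mul_mem (inv_mem (bor_le (D.mono i) hβ)) hp) (bor_le (D.mono i) hβ')
    simpa [map_mul, map_inv, mul_assoc] using this

theorem e_sum [Finite H] [Fintype (H ⧸ D.B)] (i : D.I) [DecidableRel (D.rel i)] (x : H ⧸ D.B) :
    ∑ y, (if D.rel i x y then D.e y else 0) = 0 := by
  classical
  by_cases hc : ∀ w ∈ D.W, ¬ D.rel i x (D.pt w)
  · refine Finset.sum_eq_zero fun y _ => ?_
    split
    · rename_i hr
      exact D.e_eq_zero fun w hw h => hc w hw (h ▸ hr)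
    · rfl
  push Not at hc
  obtain ⟨w, hw, hr⟩ := hc
  have hiff : ∀ y, D.rel i x y ↔ D.rel i (D.pt w) y := fun y =>
    ⟨fun h => (D.rel_equiv i).trans ((D.rel_equiv i).symm hr) h, fun h => (D.rel_equiv i).trans hr h⟩
  have hw2 : w * D.refl i ∈ D.W := mul_mem hw (D.refl_mem i)
  have hne : D.pt w ≠ D.pt (w * D.refl i) := fun h => by
    have := congrArg D.cellOf h
    rw [D.cellOf_pt hw, D.cellOf_pt hw2] at this
    exact D.refl_ne i (mul_eq_left.mp this.symm)
  rw [← Finset.sum_subset (Finset.subset_univ {D.pt w, D.pt (w * D.refl i)}), Finset.sum_pair hne,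
    if_pos hr, if_pos ((hiff _).mpr ((D.rel_pt_iff i hw hw2).mpr (by simpa using D.refl_pres i))),
    D.e_pt hw, D.e_pt hw2, D.sgn_refl i w hw, add_neg_cancel]
  intro y _ hy
  split
  · rename_i hxy
    refine D.e_eq_zero fun w' hw' h => ?_
    subst h
    rcases D.refl_only i (w⁻¹ * w') (mul_mem (inv_mem hw) hw')
        ((D.rel_pt_iff i hw hw').mp ((hiff _).mp hxy)) with h1 | h1
    · rw [inv_mul_eq_one] at h1
      simp [h1] at hy
    · rw [inv_mul_eq_iff_eq_mul] at h1
      simp [h1] at hy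
  · rfl

theorem fix_base {u : H} (hu : u ∈ D.U) : u • (QuotientGroup.mk 1 : H ⧸ D.B) = QuotientGroup.mk 1 := by
  rw [MulAction.Quotient.smul_mk, mk_eq_iff, smul_eq_mul, mul_one, map_one, mul_one]
  exact inv_mem (uni_le_bor hu)

theorem smul_pt_rev {u : H} (hu : u ∈ D.U) (h : u • D.pt Fin.revPerm = D.pt Fin.revPerm) : u = 1 := by
  obtain ⟨β, hβ, he⟩ := D.lift_spec D.rev_mem
  rw [pt, MulAction.Quotient.smul_mk, mk_eq_iff, smul_eq_mul, map_mul, he] at h
  have h' : (permGL n F Fin.revPerm)⁻¹ * (D.f u)⁻¹ * permGL n F Fin.revPerm ∈ bor n F := by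
    have := mul_mem (mul_mem hβ h) (inv_mem hβ)
    simpa [mul_assoc] using this
  have hu' : (D.f u)⁻¹ ∈ uni n F := inv_mem hu
  have hone : (D.f u)⁻¹ = 1 := by
    refine Units.ext (Matrix.ext fun i j => ?_)
    rw [Units.val_one]
    rcases lt_trichotomy i j with hlt | heq | hgt
    · rw [Matrix.one_apply_ne hlt.ne]
      have := h' (show id (Fin.rev j) < id (Fin.rev i) from Fin.rev_lt_rev.mpr hlt)
      rw [mul_assoc, ← map_inv, Units.val_mul, permGL_mul, Units.val_mul, mul_permGL] at this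
      simpa [Fin.revPerm] using this
    · subst heq
      rw [Matrix.one_apply_eq]
      exact (mem_uni.mp hu').2 i
    · rw [Matrix.one_apply_ne hgt.ne']
      exact (mem_uni.mp hu').1 hgt
  exact D.inj (by rw [map_one]; exact inv_eq_one.mp hone)

theorem descent {x : H ⧸ D.B} (hx : ¬ ∃ u ∈ D.U, u • D.pt Fin.revPerm = x) :
    ∃ i, ∀ y, D.rel i x y → y ≠ x →
      ∑ k : Fin n, (k : ℕ) * (D.cellOf y k : ℕ) < ∑ k : Fin n, (k : ℕ) * (D.cellOf x k : ℕ) := by
  obtain ⟨h, rfl⟩ := QuotientGroup.mk_surjective x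
  set w := D.cellOf (QuotientGroup.mk h) with hwdef
  have hw : w ∈ D.W := D.cellOf_mem _
  have hcell : InCell (D.f h) w := D.inCell_cellOf h
  have hne : w ≠ Fin.revPerm := by
    intro he
    obtain ⟨u, hu, hb⟩ := D.uniLift h (he ▸ hcell)
    refine hx ⟨u, hu, ?_⟩
    obtain ⟨β, hβ, hl⟩ := D.lift_spec D.rev_mem
    rw [pt, MulAction.Quotient.smul_mk, mk_eq_iff, smul_eq_mul, map_mul, hl]
    have := mul_mem (inv_mem hβ) hb
    simpa [mul_assoc] using this
  obtain ⟨i, hi⟩ := D.desc w hw hne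
  refine ⟨i, fun y hy hyx => ?_⟩
  obtain ⟨g, rfl⟩ := QuotientGroup.mk_surjective y
  rw [rel_mk] at hy
  obtain ⟨p, hp, q, hq, he⟩ := hcell
  have hp' : q * ((D.f h)⁻¹ * D.f g) ∈ triGroup (D.b i) := mul_mem (bor_le (D.mono i) hq) hy
  obtain ⟨v, hv, hc, hone⟩ := exists_fibre_cell (D.mono i) hi hp'
  have hg : InCell (D.f g) (w * v) := by
    have h' := hc.bor_mul hp
    have e : p * (permGL n F w * (q * ((D.f h)⁻¹ * D.f g))) = D.f g := by
      rw [← mul_assoc, ← mul_assoc, ← he, ← mul_assoc, mul_inv_cancel, one_mul]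
    rwa [e] at h'
  have hv1 : v ≠ 1 := by
    intro h1
    have := mul_mem (inv_mem hq) (show _ ∈ bor n F from
      hone.mem_triGroup monotone_id (fun i => by rw [h1, Equiv.Perm.one_apply]))
    rw [inv_mul_cancel_left] at this
    exact hyx (D.mk_eq_iff.mpr this).symm
  rw [D.cellOf_eq hg]
  exact weight_lt (D.mono i) hi hv hv1

theorem isPGroup_U (p : ℕ) [Fact p.Prime] [CharP F p] : IsPGroup p D.U := by
  have : Fintype F := Fintype.ofFinite F
  exact ((AutPSL.isPGroup_uniTri (F := F) (n := n) p).map _).comap_of_injective D.f D.inj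

theorem exists_sylow [Finite H] (p : ℕ) [Fact p.Prime] [CharP F p] :
    ∃ P : Sylow p H, (P : Subgroup H) = D.U := by
  obtain ⟨P, hP⟩ := (D.isPGroup_U p).exists_le_sylow
  refine ⟨P, (le_antisymm hP ?_).symm⟩
  by_contra hne
  have hlt : D.U.subgroupOf P < ⊤ := lt_top_iff_ne_top.mpr fun h => hne (Subgroup.subgroupOf_eq_top.mp h)
  have : Group.IsNilpotent (P : Subgroup H) := P.2.isNilpotent
  have hN := Group.normalizerCondition_of_isNilpotent (G := (P : Subgroup H)) _ hlt
  obtain ⟨x, hxN, hxU⟩ := SetLike.exists_of_lt hN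
  rw [Subgroup.mem_subgroupOf] at hxU
  have hx : D.f (x : H) ∈ bor n F := mem_bor_of_conj fun i j hij => by
    obtain ⟨u, hu, hne0⟩ := D.regular i j hij
    have hu' : (⟨u, hP hu⟩ : (P : Subgroup H)) ∈ D.U.subgroupOf P := hu
    have hconj := (Subgroup.mem_normalizer_iff.mp (inv_mem hxN) _).mp hu'
    rw [Subgroup.mem_subgroupOf] at hconj
    have hconj' : (D.f (x : H))⁻¹ * D.f u * D.f (x : H) ∈ uni n F := by
      simpa [U, Subgroup.mem_comap] using hconj
    exact ⟨D.f u, (mem_uni.mp hu).1, (mem_uni.mp hu).2, hne0, (mem_uni.mp hconj').1,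
      (mem_uni.mp hconj').2⟩
  obtain ⟨k, hk⟩ := P.2 x
  refine hxU (mem_uni.mpr ⟨hx, fun i => AutPSL.eq_one_of_pow_prime_pow p (k := k) ?_⟩)
  rw [← bor_diag_pow hx, ← Units.val_pow_eq_pow_val, ← map_pow, ← SubmonoidClass.coe_pow, hk]
  simp

theorem central_mem_bor {z : H} (hz : z ∈ Subgroup.center H) : D.f z ∈ bor n F :=
  mem_bor_of_conj fun i j hij => by
    obtain ⟨u, hu, hne⟩ := D.regular i j hij
    have e : (D.f z)⁻¹ * D.f u * D.f z = D.f u := by
      rw [mul_assoc, ← map_mul, Subgroup.mem_center_iff.mp hz u, map_mul, inv_mul_cancel_left]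
    refine ⟨D.f u, (mem_uni.mp hu).1, (mem_uni.mp hu).2, hne, ?_, ?_⟩ <;> rw [e]
    exacts [(mem_uni.mp hu).1, (mem_uni.mp hu).2]

include D in
/-- The Steinberg character of a quotient by central elements. -/
theorem exists_character [Finite H] (p : ℕ) [Fact p.Prime] [CharP F p] {Q : Type*} [Group Q]
    (π : H →* Q) (hπ : Function.Surjective π) (hcen : π.ker ≤ Subgroup.center H) :
    ∃ χ : Q → ℂ, Cfsg.IsIrrCharacter Q χ ∧ ∀ P : Sylow p Q,
      χ 1 = (Nat.card P : ℂ) ∧ ∀ x : Q, x ∈ P → x ≠ 1 → χ x = 0 := by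
  classical
  have : Finite Q := Finite.of_surjective π hπ
  have : Fintype (H ⧸ D.B) := Fintype.ofFinite _
  have hker : π.ker ≤ (MulAction.toPermHom H (H ⧸ D.B)).ker := by
    intro z hz
    refine Equiv.ext fun x => ?_
    obtain ⟨h, rfl⟩ := QuotientGroup.mk_surjective x
    show z • (QuotientGroup.mk h : H ⧸ D.B) = QuotientGroup.mk h
    rw [MulAction.Quotient.smul_mk, smul_eq_mul, ← Subgroup.mem_center_iff.mp (hcen hz) h, mk_eq_iff,
      map_mul]
    simpa using inv_mem (D.central_mem_bor (hcen hz))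
  let L : Q →* Equiv.Perm (H ⧸ D.B) := MonoidHom.liftOfSurjective π hπ ⟨_, hker⟩
  let : MulAction Q (H ⧸ D.B) := MulAction.compHom _ L
  have hsmul : ∀ (h : H) (x : H ⧸ D.B), π h • x = h • x := fun h x => by
    show L (π h) x = _
    rw [show L (π h) = MulAction.toPermHom H (H ⧸ D.B) h from
      MonoidHom.liftOfRightInverse_comp_apply _ _ _ _ h]
    rfl
  obtain ⟨P₀, hP₀⟩ := D.exists_sylow p
  let S : Setup Q (H ⧸ D.B) :=
    { U := D.U.map π
      base := QuotientGroup.mk 1
      fix := by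
        rintro _ ⟨u, hu, rfl⟩
        rw [hsmul]
        exact D.fix_base hu
      reach := fun f _ hf => funext fun x => by
        obtain ⟨h, rfl⟩ := QuotientGroup.mk_surjective x
        have h1 := hf (π h)
        rwa [hsmul, MulAction.Quotient.smul_mk, smul_eq_mul, mul_one] at h1
      ι := D.I
      rel := D.rel
      rel_equiv := D.rel_equiv
      rel_smul := fun i g x y h => by
        obtain ⟨g, rfl⟩ := hπ g
        rw [hsmul, hsmul]
        exact D.rel_smul i g h
      top := D.pt Fin.revPerm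
      free := by
        rintro _ ⟨u, hu, rfl⟩ h
        rw [hsmul] at h
        rw [D.smul_pt_rev hu h, map_one]
      rank := fun x => ∑ k : Fin n, (k : ℕ) * (D.cellOf x k : ℕ)
      descent := fun x hx => D.descent fun ⟨u, hu, h⟩ =>
        hx ⟨π u, ⟨u, hu, rfl⟩, by rw [hsmul, h]⟩
      e := D.e
      e_sum := fun i x => D.e_sum i x
      e_supp := by
        rintro _ ⟨u, hu, rfl⟩ hne
        refine D.e_eq_zero fun w hw h => hne ?_
        rw [hsmul] at h
        have hc : D.cellOf (u • D.pt Fin.revPerm) = Fin.revPerm := by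
          obtain ⟨β, hβ, hl⟩ := D.lift_spec D.rev_mem
          rw [pt, MulAction.Quotient.smul_mk]
          refine D.cellOf_eq ?_
          rw [smul_eq_mul, map_mul, hl]
          exact (inCell_perm _ hβ).bor_mul (uni_le_bor hu)
        have he := congrArg D.cellOf h
        rw [hc, D.cellOf_pt hw] at he
        subst he
        rw [D.smul_pt_rev hu h, map_one]
      e_top := by rw [D.e_pt D.rev_mem]; exact D.sgn_rev }
  exact S.exists_sylow_character p (P₀.mapSurjective hπ) (by
    rw [Sylow.coe_mapSurjective, hP₀])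

end Datum

end CfsgLib.SteinbergChar
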