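import Cfsg.Agent.Lib.SteinbergChar.Blocks

/-!
The Steinberg character of `PSL n`.
-/

set_option autoImplicit false

open Matrix Finset CfsgLib.GLFlags

namespace CfsgLib.SteinbergChar

variable {n : ℕ} {F : Type*} [Field F] [Finite F]

/-- Upper triangular elements factor through the unitriangular group. -/
theorem exists_uni_mul_diag {p : GL (Fin n) F} (hp : p ∈ bor n F) :
    ∃ u ∈ uni n F, ∃ d : Fin n → F, ∃ dd : GL (Fin n) F,
      (dd : Matrix (Fin n) (Fin n) F) = Matrix.diagonal d ∧ p = u * dd := by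
  set A := (p : Matrix (Fin n) (Fin n) F) with hA
  have hdiag : ∀ i, A i i ≠ 0 := fun i h0 => by
    have h := (Matrix.GeneralLinearGroup.det p).ne_zero
    rw [Matrix.GeneralLinearGroup.val_det_apply, Matrix.det_of_isUpperTriangular hp] at h
    exact h (Finset.prod_eq_zero (Finset.mem_univ i) h0)
  let dd : GL (Fin n) F := Matrix.GeneralLinearGroup.mkOfDetNeZero (Matrix.diagonal fun i => A i i)
    (by rw [Matrix.det_diagonal, Finset.prod_ne_zero_iff]; exact fun i _ => hdiag i)
  have hdd : (dd : Matrix (Fin n) (Fin n) F) = Matrix.diagonal fun i => A i i := rfl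
  have hdb : dd ∈ bor n F := by
    show (dd : Matrix (Fin n) (Fin n) F).BlockTriangular id
    rw [hdd]; exact Matrix.blockTriangular_diagonal _
  have hu : p * dd⁻¹ ∈ bor n F := mul_mem hp (inv_mem hdb)
  refine ⟨p * dd⁻¹, mem_uni.mpr ⟨hu, fun i => ?_⟩, _, dd, hdd, by group⟩
  have h1 : ((p * dd⁻¹ : GL (Fin n) F) : Matrix (Fin n) (Fin n) F) i i *
      (dd : Matrix (Fin n) (Fin n) F) i i = A i i := by
    rw [← bor_diag_mul hu hdb, ← Units.val_mul, mul_assoc, inv_mul_cancel, mul_one]
  rw [hdd, Matrix.diagonal_apply_eq] at h1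
  exact (mul_eq_right₀ (hdiag i)).mp h1

theorem conj_diag_mem_bor (w : Equiv.Perm (Fin n)) {dd : GL (Fin n) F} {d : Fin n → F}
    (h : (dd : Matrix (Fin n) (Fin n) F) = Matrix.diagonal d) :
    (permGL n F w)⁻¹ * dd * permGL n F w ∈ bor n F := by
  intro i j hij
  rw [← map_inv, Units.val_mul, mul_permGL, Units.val_mul, permGL_mul, h,
    Matrix.diagonal_apply_ne]
  simpa using (ne_of_gt (show j < i from hij))

/-- Points of the top cell are translates of the reversal by the unitriangular group. -/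
theorem exists_uni_rev {g : GL (Fin n) F} (h : InCell g Fin.revPerm) :
    ∃ u ∈ uni n F, (u * permGL n F Fin.revPerm)⁻¹ * g ∈ bor n F := by
  obtain ⟨p, hp, q, hq, rfl⟩ := h
  obtain ⟨u, hu, d, dd, hdd, rfl⟩ := exists_uni_mul_diag hp
  refine ⟨u, hu, ?_⟩
  have := mul_mem (conj_diag_mem_bor Fin.revPerm hdd) hq
  simpa [mul_assoc] using this

theorem det_permGL (w : Equiv.Perm (Fin n)) :
    (permGL n F w : Matrix (Fin n) (Fin n) F).det = ((Equiv.Perm.sign w : ℤ) : F) := by
  show (Equiv.Perm.permMatrix F w⁻¹).det = _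
  rw [Matrix.det_permutation, Equiv.Perm.sign_inv]

/-- The data of `SL n`. -/
noncomputable def linearDatum (n : ℕ) (F : Type*) [Field F] [Finite F] :
    Datum n F (Matrix.SpecialLinearGroup (Fin n) F) where
  f := Matrix.SpecialLinearGroup.toGL
  inj := Matrix.SpecialLinearGroup.toGL_injective
  W := ⊤
  cell _ _ _ := trivial
  rep w _ := by
    classical
    rcases Nat.eq_zero_or_pos n with hn | hn
    · subst hn
      exact ⟨1, 1, one_mem _, Units.ext (Matrix.ext fun i => i.elim0)⟩
    let d : Fin n → F := fun i => if i = ⟨0, hn⟩ then ((Equiv.Perm.sign w : ℤ) : F) else 1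
    have hd : (Matrix.diagonal d).det = ((Equiv.Perm.sign w : ℤ) : F) := by
      rw [Matrix.det_diagonal, Finset.prod_eq_single_of_mem ⟨0, hn⟩ (Finset.mem_univ _)]
      · simp [d]
      · intro i _ hi; simp [d, hi]
    have hs : ((Equiv.Perm.sign w : ℤ) : F) * ((Equiv.Perm.sign w : ℤ) : F) = 1 := by
      rcases Int.units_eq_one_or (Equiv.Perm.sign w) with h | h <;> simp [h]
    let β : GL (Fin n) F := Matrix.GeneralLinearGroup.mkOfDetNeZero (Matrix.diagonal d)
      (by rw [hd]; exact left_ne_zero_of_mul_eq_one hs)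
    refine ⟨⟨(permGL n F w : Matrix (Fin n) (Fin n) F) * Matrix.diagonal d, ?_⟩, β, ?_, Units.ext rfl⟩
    · rw [Matrix.det_mul, det_permGL, hd, hs]
    · show (β : Matrix (Fin n) (Fin n) F).BlockTriangular id
      exact Matrix.blockTriangular_diagonal d
  rev_mem := trivial
  uniLift h hc := by
    obtain ⟨u, hu, hb⟩ := exists_uni_rev hc
    obtain ⟨s, -, rfl⟩ := id hu
    exact ⟨s, hu, hb⟩
  regular := by
    classical
    intro i₀ j₀ hij₀
    let M : Matrix (Fin n) (Fin n) F := Matrix.of fun i j =>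
      if i = j then 1 else if (j : ℕ) = (i : ℕ) + 1 then 1 else 0
    have hM : M.BlockTriangular id := fun i j hij => by
      have : (j : ℕ) < (i : ℕ) := hij
      simp only [M, Matrix.of_apply, Fin.ext_iff]
      rw [if_neg (by omega), if_neg (by omega)]
    have hdet : M.det = 1 := by
      rw [Matrix.det_of_isUpperTriangular hM]
      exact Finset.prod_eq_one fun i _ => by simp [M]
    refine ⟨⟨M, hdet⟩, mem_uni.mpr ⟨hM, fun i => by show M i i = 1; simp [M]⟩, ?_⟩
    show M i₀ j₀ ≠ 0
    have : i₀ ≠ j₀ := fun h => by rw [h] at hij₀; omega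
    simp [M, this, hij₀]
  sgn w := ((Equiv.Perm.sign w : ℤ) : ℂ)
  sgn_rev := by
    rcases Int.units_eq_one_or (Equiv.Perm.sign (Fin.revPerm : Equiv.Perm (Fin n))) with h | h <;>
      simp [h]
  I := {a : ℕ // a + 1 < n}
  b a := pairBlock a.1
  mono a := pairBlock_mono a.1
  refl a := Equiv.swap ⟨a.1, by have := a.2; omega⟩ ⟨a.1 + 1, a.2⟩
  refl_mem _ := trivial
  refl_pres a k := by
    rw [Equiv.swap_apply_def]
    split_ifs with h1 h2
    · subst h1; simp [pairBlock]
    · subst h2; simp [pairBlock]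
    · rfl
  refl_ne a h := by
    have := Equiv.swap_eq_one_iff.mp h
    simp [Fin.ext_iff] at this
  refl_only a v _ hv := eq_one_or_swap v fun k h1 h2 => by
    rcases pairBlock_eq (hv k) with h | ⟨-, h⟩ | ⟨-, h⟩
    · exact h
    · exact absurd (Fin.ext h) h2
    · exact absurd (Fin.ext h) h1
  sgn_refl a w _ := by
    rw [map_mul, Equiv.Perm.sign_swap (by simp [Fin.ext_iff])]
    simp
  desc w _ hne := by
    obtain ⟨i, j, hij, hlt⟩ := exists_ascent hne
    refine ⟨⟨i, by have := j.2; omega⟩, fun k l hkl hlt' => ?_⟩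
    have hlt'' : (k : ℕ) < (l : ℕ) := hlt'
    rcases pairBlock_eq hkl with h | ⟨h1, h2⟩ | ⟨h1, h2⟩
    · exact absurd h hlt'.ne
    · rwa [show k = i from Fin.ext h1, show l = j from Fin.ext (h2.trans hij.symm)]
    · simp only at h1 h2; omega

end CfsgLib.SteinbergChar
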