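import Cfsg.Agent.Lib.SteinbergChar.OrthStd
import Cfsg.Agent.Lib.OrthCrit.Forms
import Cfsg.Agent.Lib.Char.Burnside

/-!
Anisotropic kernels of the standard forms, and the anisotropic plane.
-/

set_option autoImplicit false

open Matrix Finset QuadraticMap Cfsg CfsgLib.OrthCrit
open CfsgLib.Classical.Quad (NDPolar)

namespace CfsgLib.SteinbergChar.OrthStd

variable {F : Type*} [Field F]

/-- The form `z²`. -/
noncomputable def kerOne (F : Type*) [Field F] : QuadraticForm F (Fin 1 → F) := QuadraticMap.proj 0 0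

theorem kerOne_apply (y : Fin 1 → F) : kerOne F y = y 0 * y 0 := rfl

theorem kerOne_aniso (y : Fin 1 → F) (h : kerOne F y = 0) : y = 0 :=
  funext fun i => by rw [Subsingleton.elim i 0]; exact mul_self_eq_zero.mp h

theorem kerOne_nd (h2 : (2 : F) ≠ 0) : NDPolar (kerOne F) := fun x hx => by
  refine kerOne_aniso x ?_
  have h := hx x
  rw [polar_self, nsmul_eq_mul, Nat.cast_ofNat] at h
  exact (mul_eq_zero.mp h).resolve_left h2

/-- The form `z₀² + a z₀ z₁ + b z₁²`. -/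
noncomputable def kerTwo (a b : F) : QuadraticForm F (Fin 2 → F) :=
  QuadraticMap.proj 0 0 + a • QuadraticMap.proj 0 1 + b • QuadraticMap.proj 1 1

theorem kerTwo_apply (a b : F) (y : Fin 2 → F) :
    kerTwo a b y = y 0 ^ 2 + a * y 0 * y 1 + b * y 1 ^ 2 := by
  simp [kerTwo, _root_.sq, mul_assoc]

theorem kerTwo_aniso {a b : F}
    (hab : ∀ z₁ z₂ : F, z₁ ^ 2 + a * z₁ * z₂ + b * z₂ ^ 2 = 0 → z₁ = 0 ∧ z₂ = 0)
    (y : Fin 2 → F) (h : kerTwo a b y = 0) : y = 0 := by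
  rw [kerTwo_apply] at h
  obtain ⟨h0, h1⟩ := hab _ _ h
  funext i
  fin_cases i
  · exact h0
  · exact h1

theorem kerTwo_nd [Finite F] {a b : F}
    (hab : ∀ z₁ z₂ : F, z₁ ^ 2 + a * z₁ * z₂ + b * z₂ ^ 2 = 0 → z₁ = 0 ∧ z₂ = 0) :
    NDPolar (kerTwo a b) := by
  intro x hx
  have hp : ∀ y, polar (⇑(kerTwo a b)) x y =
      2 * (x 0 * y 0) + a * (x 0 * y 1 + x 1 * y 0) + 2 * b * (x 1 * y 1) := fun y => by
    simp only [polar, kerTwo_apply, Pi.add_apply]
    ring
  refine kerTwo_aniso hab x ?_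
  rw [kerTwo_apply]
  by_cases h2 : (2 : F) = 0
  · have h0 := hx (Pi.single 1 1)
    have h1 := hx (Pi.single 0 1)
    rw [hp] at h0 h1
    simp [h2, a_ne_zero_of_anisotropic hab h2] at h0 h1
    rw [h0, h1]
    ring
  · refine mul_left_cancel₀ h2 ?_
    rw [mul_zero, ← hx x, hp]
    ring

/-- The group of an anisotropic plane has no unipotent part. -/
theorem exists_character_plane [Fintype F] (p : ℕ) [Fact p.Prime] [CharP F p] {ι : Type} [Fintype ι]
    [DecidableEq ι] (hι : Fintype.card ι = 2) (Q : QuadraticForm F (ι → F)) (hnd : NDPolar Q) :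
    ∃ χ : POmega F ⇑Q → ℂ, Cfsg.IsIrrCharacter (POmega F ⇑Q) χ ∧ ∀ P : Sylow p (POmega F ⇑Q),
      χ 1 = (Nat.card P : ℂ) ∧ ∀ x : POmega F ⇑Q, x ∈ P → x ≠ 1 → χ x = 0 := by
  have hgen := CfsgLib.OrthCrit.closure_reflSet hnd (Or.inr (by omega))
  have hΩ : ¬ p ∣ Nat.card ↥(Omega F ⇑Q) := by
    intro hdvd
    obtain ⟨g, hg⟩ := exists_prime_orderOf_dvd_card' p hdvd
    have h1 : (g : ↥(isometryGroup F ⇑Q)) ^ (p ^ 1) = 1 := by
      rw [pow_one, ← SubmonoidClass.coe_pow, ← hg, pow_orderOf_eq_one]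
      rfl
    have h2 := eq_one_of_ppow p (by omega) (parity_of_mem_Omega' hnd hgen g.2) h1
    rw [OneMemClass.coe_eq_one] at h2
    rw [h2, orderOf_one] at hg
    exact (Fact.out : p.Prime).one_lt.ne hg
  refine ⟨1, CfsgLib.Char.isIrrCharacter_one, fun P => ?_⟩
  have hP : Nat.card P = 1 := by
    obtain ⟨k, hk⟩ := IsPGroup.iff_card.mp P.2
    rcases Nat.eq_zero_or_pos k with rfl | hk0
    · simpa using hk
    · refine absurd ?_ hΩ
      refine dvd_trans ?_ (Subgroup.card_quotient_dvd_card (Subgroup.center ↥(Omega F ⇑Q)))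
      exact ((dvd_pow_self p hk0.ne').trans hk.symm.dvd).trans (Subgroup.card_subgroup_dvd_card _)
  refine ⟨by rw [hP]; simp, fun x hx hx1 => absurd ?_ hx1⟩
  have := (Nat.card_eq_one_iff_unique.mp hP).1
  exact congrArg Subtype.val (Subsingleton.elim (⟨x, hx⟩ : P) 1)

end CfsgLib.SteinbergChar.OrthStd
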