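import Cfsg.Agent.S2566
import Cfsg.Agent.Lib.Char.Orth
import Cfsg.Agent.Lib.Char.Twist
import Mathlib.GroupTheory.PGroup
import Mathlib.GroupTheory.Sylow

/-!
The character of degree two of the commutator subgroup of the split orthogonal group of
dimension four over two elements.
-/

set_option autoImplicit false

open Cfsg Matrix

namespace CfsgLib.SteinbergChar.OrthFour

open Cfsg.Agent.S2566 (OPlusFour lHom rHom lMat rMat tMat lr_comm swapO ext_mat)

/-- The two dimensional representation of `S₃` over the integers. -/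
def stdMat : Equiv.Perm (Fin 3) →* Matrix (Fin 2) (Fin 2) ℤ where
  toFun σ := Matrix.of fun i j =>
    (if σ (Fin.castSucc j) = Fin.castSucc i then 1 else 0) - (if σ 2 = Fin.castSucc i then 1 else 0)
  map_one' := by decide +kernel
  map_mul' := by decide +kernel

/-- The two dimensional complex representation of `S₃`. -/
noncomputable def stdRep : Representation ℂ (Equiv.Perm (Fin 3)) (Fin 2 → ℂ) :=
  (Matrix.toLinAlgEquiv' (R := ℂ)).toMonoidHom.comp
    ((Int.castRingHom ℂ).mapMatrix.toMonoidHom.comp stdMat)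

theorem stdRep_char (σ : Equiv.Perm (Fin 3)) : stdRep.character σ = ((stdMat σ).trace : ℤ) := by
  rw [Representation.character, LinearMap.trace_eq_matrix_trace ℂ (Pi.basisFun ℂ (Fin 2))]
  rw [LinearMap.toMatrix_eq_toMatrix']
  show (LinearMap.toMatrix' (Matrix.toLin' ((stdMat σ).map (Int.castRingHom ℂ)))).trace = _
  rw [LinearMap.toMatrix'_toLin', Matrix.trace, Matrix.trace, Int.cast_sum]
  rfl

theorem stdRep_irr : Cfsg.IsIrrCharacter (Equiv.Perm (Fin 3)) stdRep.character := by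
  refine CfsgLib.Char.IsCharacter.isIrrCharacter_of_classInner_self ⟨2, stdRep, rfl⟩ ?_
  rw [Cfsg.classInner]
  simp only [stdRep_char, map_intCast, ← Int.cast_mul, ← Int.cast_sum]
  rw [show (∑ σ : Equiv.Perm (Fin 3), (stdMat σ).trace * (stdMat σ).trace) = 6 by decide +kernel,
    Nat.card_eq_fintype_card, show Fintype.card (Equiv.Perm (Fin 3)) = 6 by decide +kernel]
  norm_num

/-- The pairs of permutations of equal sign. -/
def evenPairs : Subgroup (Equiv.Perm (Fin 3) × Equiv.Perm (Fin 3)) where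
  carrier := {x | Equiv.Perm.sign x.1 = Equiv.Perm.sign x.2}
  one_mem' := rfl
  mul_mem' {a b} ha hb := by
    show Equiv.Perm.sign (a.1 * b.1) = Equiv.Perm.sign (a.2 * b.2)
    rw [map_mul, map_mul, ha, hb]
  inv_mem' {a} ha := by
    show Equiv.Perm.sign a.1⁻¹ = Equiv.Perm.sign a.2⁻¹
    rw [map_inv, map_inv, ha]

/-- The embedding of `S₃ × S₃`. -/
def pairHom4 : Equiv.Perm (Fin 3) × Equiv.Perm (Fin 3) →* OPlusFour :=
  MonoidHom.noncommCoprod lHom rHom lr_comm

theorem pairHom4_inj : Function.Injective pairHom4 := by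
  rw [injective_iff_map_eq_one]
  rintro ⟨σ, τ⟩ h
  have h1 : ∀ σ τ, lMat σ * rMat τ = 1 → (σ, τ) = (1, 1) := by decide +kernel
  exact h1 σ τ (congrArg (fun z : OPlusFour =>
    ((z : GL (Fin 2 ⊕ Fin 2) (ZMod 2)) : Matrix (Fin 2 ⊕ Fin 2) (Fin 2 ⊕ Fin 2) (ZMod 2))) h)

theorem conj_swap (x : Equiv.Perm (Fin 3) × Equiv.Perm (Fin 3)) :
    ∃ y : Equiv.Perm (Fin 3) × Equiv.Perm (Fin 3), Equiv.Perm.sign y.1 = Equiv.Perm.sign x.2 ∧
      Equiv.Perm.sign y.2 = Equiv.Perm.sign x.1 ∧
      swapO * pairHom4 x * swapO⁻¹ = pairHom4 y := by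
  have h : ∀ σ, ∃ τ, tMat * lMat σ * tMat = rMat τ ∧ Equiv.Perm.sign τ = Equiv.Perm.sign σ := by
    decide +kernel
  have h' : ∀ σ, ∃ τ, tMat * rMat σ * tMat = lMat τ ∧ Equiv.Perm.sign τ = Equiv.Perm.sign σ := by
    decide +kernel
  obtain ⟨τ, hτ, hτs⟩ := h x.1
  obtain ⟨σ, hσ, hσs⟩ := h' x.2
  refine ⟨(σ, τ), hσs, hτs, ?_⟩
  have e1 : swapO * lHom x.1 * swapO⁻¹ = rHom τ := ext_mat hτ
  have e2 : swapO * rHom x.2 * swapO⁻¹ = lHom σ := ext_mat hσ
  rw [show pairHom4 x = lHom x.1 * rHom x.2 from rfl, show pairHom4 (σ, τ) = lHom σ * rHom τ from rfl,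
    (lr_comm σ τ).eq, ← e1, ← e2]
  group

theorem range_index : pairHom4.range.index = 2 := by
  have hcard : Nat.card OPlusFour = 72 := Cfsg.Agent.S2566.result.1
  have hmul := Subgroup.card_mul_index pairHom4.range
  rw [← Nat.card_congr (MonoidHom.ofInjective pairHom4_inj).toEquiv, Nat.card_prod, Nat.card_perm,
    Nat.card_eq_fintype_card, Fintype.card_fin, hcard, show Nat.factorial 3 = 6 from rfl] at hmul
  omega

theorem swap_not_mem : swapO ∉ pairHom4.range := by
  rintro ⟨⟨σ, τ⟩, h⟩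
  have h1 : ∀ σ τ, lMat σ * rMat τ ≠ tMat := by decide +kernel
  exact h1 σ τ (congrArg (fun z : OPlusFour =>
    ((z : GL (Fin 2 ⊕ Fin 2) (ZMod 2)) : Matrix (Fin 2 ⊕ Fin 2) (Fin 2 ⊕ Fin 2) (ZMod 2))) h)

theorem commutator_le : commutator OPlusFour ≤ evenPairs.map pairHom4 := by
  set N := evenPairs.map pairHom4
  have hR : ∀ g, g ∉ pairHom4.range → swapO * g ∈ pairHom4.range := fun g hg =>
    (Subgroup.mul_mem_iff_of_index_two range_index).mpr (iff_of_false swap_not_mem hg)
  have hnorm : N.Normal := ⟨fun n hn g => by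
    obtain ⟨x, hx, rfl⟩ := hn
    have hstep : ∀ (z : Equiv.Perm (Fin 3) × Equiv.Perm (Fin 3)),
        pairHom4 z * pairHom4 x * (pairHom4 z)⁻¹ ∈ N := fun z => ⟨z * x * z⁻¹, by
      show Equiv.Perm.sign (z.1 * x.1 * z.1⁻¹) = Equiv.Perm.sign (z.2 * x.2 * z.2⁻¹)
      simp only [map_mul, map_inv, mul_inv_cancel_comm]
      exact hx, by rw [map_mul, map_mul, map_inv]⟩
    by_cases hg : g ∈ pairHom4.range
    · obtain ⟨z, rfl⟩ := hg
      exact hstep z
    · obtain ⟨z, hz⟩ := hR g hg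
      obtain ⟨x', hx', he⟩ := hstep z
      obtain ⟨y, hy1, hy2, hy⟩ := conj_swap x'
      refine ⟨y, (hy1.trans (Eq.trans (Eq.symm hx') hy2.symm) : _), ?_⟩
      have hinv : swapO⁻¹ = swapO := inv_eq_of_mul_eq_one_right (ext_mat Cfsg.Agent.S2566.tMat_sq)
      rw [← hy, he, hz, hinv]
      have hs : swapO * swapO = 1 := ext_mat Cfsg.Agent.S2566.tMat_sq
      calc swapO * (swapO * g * pairHom4 x * (swapO * g)⁻¹) * swapO
          = (swapO * swapO) * g * pairHom4 x * g⁻¹ * (swapO⁻¹ * swapO) := by group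
        _ = g * pairHom4 x * g⁻¹ := by rw [hs, inv_mul_cancel, one_mul, mul_one]⟩
  have hidx : N.index = 4 := by
    have hN : Nat.card N = 18 := by
      rw [Nat.card_congr ((evenPairs.equivMapOfInjective pairHom4 pairHom4_inj).symm).toEquiv]
      have : Nat.card evenPairs =
          Nat.card {x : Equiv.Perm (Fin 3) × Equiv.Perm (Fin 3) //
            Equiv.Perm.sign x.1 = Equiv.Perm.sign x.2} := rfl
      rw [this, Nat.card_eq_fintype_card]
      decide +kernel
    have hmul := Subgroup.card_mul_index N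
    rw [hN, Cfsg.Agent.S2566.result.1] at hmul
    omega
  have : N.Normal := hnorm
  have hc : Nat.card (OPlusFour ⧸ N) = 2 ^ 2 := by
    rw [← Subgroup.index_eq_card, hidx]; rfl
  rw [commutator_def, Subgroup.commutator_le]
  intro a _ b _
  rw [← QuotientGroup.eq_one_iff, commutatorElement_def, QuotientGroup.mk_mul, QuotientGroup.mk_mul,
    QuotientGroup.mk_mul, QuotientGroup.mk_inv, QuotientGroup.mk_inv]
  rw [IsPGroup.commutative_of_card_eq_prime_sq hc (a : OPlusFour ⧸ N) b]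
  group

/-- The statement for central quotients of the commutator subgroup. -/
theorem exists_character {Q : Type*} [Group Q] (π : ↥(commutator OPlusFour) →* Q)
    (hπ : Function.Surjective π) (hcen : π.ker ≤ Subgroup.center ↥(commutator OPlusFour)) :
    ∃ χ : Q → ℂ, Cfsg.IsIrrCharacter Q χ ∧ ∀ P : Sylow 2 Q,
      χ 1 = (Nat.card P : ℂ) ∧ ∀ x : Q, x ∈ P → x ≠ 1 → χ x = 0 := by
  classical
  have hle : ∀ w : ↥(commutator OPlusFour), ∃ x ∈ evenPairs, pairHom4 x = w.1 :=
    fun w => commutator_le w.2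
  choose g hg hgw using hle
  let φ : ↥(commutator OPlusFour) →* Equiv.Perm (Fin 3) := MonoidHom.mk' (fun w => (g w).1) fun v w => by
    rw [← Prod.fst_mul]
    exact congrArg Prod.fst (pairHom4_inj (by rw [map_mul, hgw, hgw, hgw]; rfl))
  have hφsurj : Function.Surjective φ := fun σ => by
    obtain ⟨τ, hτ⟩ := Cfsg.Agent.S2566.swap_lr σ
    have hm : pairHom4 (σ, 1) * swapO * (pairHom4 (σ, 1))⁻¹ * swapO⁻¹ ∈ commutator OPlusFour :=
      Subgroup.commutator_mem_commutator (Subgroup.mem_top _) (Subgroup.mem_top _)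
    refine ⟨⟨_, hm⟩, ?_⟩
    show (g ⟨_, hm⟩).1 = σ
    refine congrArg Prod.fst (pairHom4_inj (?_ : pairHom4 (g ⟨_, hm⟩) = pairHom4 (σ, τ⁻¹)))
    have hl : pairHom4 (σ, 1) = lHom σ := by
      show lHom σ * rHom 1 = _
      rw [map_one, mul_one]
    rw [hgw]
    show pairHom4 (σ, 1) * swapO * (pairHom4 (σ, 1))⁻¹ * swapO⁻¹ = _
    rw [show pairHom4 (σ, τ⁻¹) = lHom σ * rHom τ⁻¹ from rfl, map_inv, ← hτ, MulAut.conj_apply, hl]
    group
  have hker : π.ker ≤ φ.ker := fun z hz => by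
    have hc : φ z ∈ Subgroup.center (Equiv.Perm (Fin 3)) := Subgroup.mem_center_iff.mpr fun σ => by
      obtain ⟨v, rfl⟩ := hφsurj σ
      rw [← map_mul, ← map_mul, Subgroup.mem_center_iff.mp (hcen hz) v]
    have h0 : ∀ x : Equiv.Perm (Fin 3), (∀ σ, σ * x = x * σ) → x = 1 := by decide +kernel
    exact h0 _ (Subgroup.mem_center_iff.mp hc)
  let φ' : Q →* Equiv.Perm (Fin 3) := MonoidHom.liftOfSurjective π hπ ⟨φ, hker⟩
  have hφ' : ∀ w, φ' (π w) = φ w := fun w => MonoidHom.liftOfRightInverse_comp_apply _ _ _ _ w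
  have hsurj' : Function.Surjective φ' := fun σ => by
    obtain ⟨v, rfl⟩ := hφsurj σ
    exact ⟨π v, hφ' v⟩
  have : Finite Q := Finite.of_surjective π hπ
  have hQ18 : Nat.card Q ∣ 18 := by
    refine (Subgroup.card_dvd_of_surjective π hπ).trans ?_
    refine (Subgroup.card_dvd_of_le commutator_le).trans ?_
    rw [Nat.card_congr ((evenPairs.equivMapOfInjective pairHom4 pairHom4_inj).symm).toEquiv]
    have : Nat.card evenPairs =
        Nat.card {x : Equiv.Perm (Fin 3) × Equiv.Perm (Fin 3) //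
          Equiv.Perm.sign x.1 = Equiv.Perm.sign x.2} := rfl
    rw [this, Nat.card_eq_fintype_card]
    decide +kernel
  have h6 : 6 ∣ Nat.card Q := by
    have := Subgroup.card_dvd_of_surjective φ' hsurj'
    rwa [Nat.card_perm, Nat.card_eq_fintype_card, Fintype.card_fin] at this
  refine ⟨stdRep.character ∘ φ', ?_, fun P => ?_⟩
  · obtain ⟨n, ρ, hρ, he⟩ := stdRep_irr
    exact CharTwist.isIrrCharacter_comp ⟨n, ρ, hρ, he⟩ φ' hsurj'
  have hP : Nat.card P = 2 := by
    obtain ⟨k, hk⟩ := IsPGroup.iff_card.mp P.2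
    have h1 : Nat.card P ∣ 18 := (Subgroup.card_subgroup_dvd_card _).trans hQ18
    have h2 : 2 ∣ Nat.card P := P.dvd_card_of_dvd_card ((show 2 ∣ 6 by norm_num).trans h6)
    rw [hk] at h1 h2 ⊢
    match k, h1, h2 with
    | 0, _, h2 => norm_num at h2
    | 1, _, _ => rfl
    | k + 2, h1, _ => exact absurd (dvd_trans ⟨2 ^ k, by ring⟩ h1 : 4 ∣ 18) (by norm_num)
  refine ⟨?_, fun x hx hx1 => ?_⟩
  · show stdRep.character (φ' 1) = _
    rw [map_one, stdRep_char, show (stdMat 1).trace = 2 by decide +kernel, hP]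
    norm_num
  · have hx2 : x * x = 1 := by
      have hP2 : Nat.card ↥(P : Subgroup Q) = 2 := hP
      have h1 : (⟨x, hx⟩ : ↥(P : Subgroup Q)) ^ 2 = 1 :=
        (congrArg ((⟨x, hx⟩ : ↥(P : Subgroup Q)) ^ ·) hP2).symm.trans pow_card_eq_one'
      have := congrArg Subtype.val h1
      rwa [SubmonoidClass.coe_pow, pow_two] at this
    have hne : φ' x ≠ 1 := fun h1 => by
      have hker2 : 2 ∣ Nat.card φ'.ker := by
        have : orderOf (⟨x, h1⟩ : φ'.ker) = 2 := by
          rw [← Subgroup.orderOf_coe]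
          exact orderOf_eq_prime (by rw [pow_two, hx2]) hx1
        rw [← this]
        exact orderOf_dvd_natCard _
      have hmul := Subgroup.card_mul_index φ'.ker
      rw [Subgroup.index_ker, MonoidHom.range_eq_top.mpr hsurj', Subgroup.card_top, Nat.card_perm,
        Nat.card_fin] at hmul
      have h4 : 12 ∣ Nat.card Q := by
        rw [← hmul]
        exact mul_dvd_mul hker2 (dvd_refl _)
      exact absurd (h4.trans hQ18) (by norm_num)
    have h0 : ∀ σ : Equiv.Perm (Fin 3), σ * σ = 1 → σ ≠ 1 → (stdMat σ).trace = 0 := by decide +kernel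
    show stdRep.character (φ' x) = 0
    rw [stdRep_char, h0 _ (by rw [← map_mul, hx2, map_one]) hne]
    simp

/-- Entrywise change of the field as a map of isometry groups of the split forms. -/
noncomputable def fieldHom {K L : Type*} [Field K] [Field L] (e : K ≃+* L) (m : ℕ) :
    ↥(Cfsg.isometryGroup K (Cfsg.quadFormPlus m K)) →*
      ↥(Cfsg.isometryGroup L (Cfsg.quadFormPlus m L)) :=
  ((Units.map (e.toRingHom.mapMatrix.toMonoidHom)).comp
    (Cfsg.isometryGroup K (Cfsg.quadFormPlus m K)).subtype).codRestrict _ fun g u _ => by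
      have hmap : ∀ w, Cfsg.quadFormPlus m L (e ∘ w) = e (Cfsg.quadFormPlus m K w) := fun w => by
        simp [Cfsg.quadFormPlus]
      show Cfsg.quadFormPlus m L
        (((g : GL (Fin m ⊕ Fin m) K) : Matrix (Fin m ⊕ Fin m) (Fin m ⊕ Fin m) K).map e *ᵥ u) = _
      obtain ⟨w, rfl⟩ : ∃ w, u = e ∘ w := ⟨e.symm ∘ u, funext fun i => by simp⟩
      rw [show ((g : GL (Fin m ⊕ Fin m) K) : Matrix (Fin m ⊕ Fin m) (Fin m ⊕ Fin m) K).map e *ᵥ
          (e ∘ w) = e ∘ (((g : GL (Fin m ⊕ Fin m) K) : Matrix _ _ K) *ᵥ w) from funext fun i => by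
        simp [Matrix.mulVec, dotProduct], hmap]
      show _ = Cfsg.quadFormPlus m L (e ∘ w)
      rw [hmap]
      exact congrArg e (g.2 w w)

end CfsgLib.SteinbergChar.OrthFour

/-- The Steinberg character for the split form of dimension four over two elements. -/
theorem CfsgLib.SteinbergChar.exists_character_four {F : Type*} [Field F] [Fintype F] (p : ℕ)
    [Fact p.Prime] [CharP F p] (hF : Fintype.card F = 2) :
    ∃ χ : Cfsg.POmega F (Cfsg.quadFormPlus 2 F) → ℂ,
      Cfsg.IsIrrCharacter (Cfsg.POmega F (Cfsg.quadFormPlus 2 F)) χ ∧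
      ∀ P : Sylow p (Cfsg.POmega F (Cfsg.quadFormPlus 2 F)), χ 1 = (Nat.card P : ℂ) ∧
        ∀ x : Cfsg.POmega F (Cfsg.quadFormPlus 2 F), x ∈ P → x ≠ 1 → χ x = 0 := by
  let e : ZMod 2 ≃+* F := ZMod.ringEquivOfPrime F Nat.prime_two hF
  have : CharP F 2 := charP_of_injective_ringHom e.injective 2
  obtain rfl : p = 2 := CharP.eq F ‹CharP F p› ‹CharP F 2›
  let E := (OrthFour.fieldHom e 2).toMulEquiv (OrthFour.fieldHom e.symm 2)
    (MonoidHom.ext fun g => Subtype.ext (Units.ext (Matrix.ext fun i j => by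
      simp [OrthFour.fieldHom])))
    (MonoidHom.ext fun g => Subtype.ext (Units.ext (Matrix.ext fun i j => by
      simp [OrthFour.fieldHom])))
  have hmap : (commutator ↥(Cfsg.isometryGroup (ZMod 2) (Cfsg.quadFormPlus 2 (ZMod 2)))).map
      E.toMonoidHom = Cfsg.Omega F (Cfsg.quadFormPlus 2 F) := by
    rw [Cfsg.Omega, commutator_def, commutator_def, Subgroup.map_commutator,
      Subgroup.map_top_of_surjective E.toMonoidHom E.surjective]
  let r := (E.subgroupMap (commutator _)).trans (MulEquiv.subgroupCongr hmap)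
  refine OrthFour.exists_character ((QuotientGroup.mk' (Subgroup.center
    ↥(Cfsg.Omega F (Cfsg.quadFormPlus 2 F)))).comp r.toMonoidHom)
    ((QuotientGroup.mk'_surjective _).comp r.surjective) fun z hz => ?_
  rw [MonoidHom.mem_ker, MonoidHom.comp_apply, QuotientGroup.mk'_apply, QuotientGroup.eq_one_iff,
    Subgroup.mem_center_iff] at hz
  refine Subgroup.mem_center_iff.mpr fun g => r.injective ?_
  rw [map_mul, map_mul]
  exact hz (r g)

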