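import Cfsg.Agent.Lib.SteinbergChar.OrthRoots

/-!
The Steinberg character of `Ω` for a form in adapted coordinates.
-/

set_option autoImplicit false

open Matrix Finset CfsgLib.GLFlags QuadraticMap Cfsg CfsgLib.OrthCrit
open CfsgLib.Classical.Quad (NDPolar Orth refl)

namespace CfsgLib.SteinbergChar

namespace OrthModel

variable {n N : ℕ} {F : Type*} [Field F] (Φ : OrthModel n N F)

/-- Diagonal entries on singleton blocks. -/
def diagEntry (k : Fin n) (hk : Fin.rev (Φ.c k) ≠ Φ.c k) :
    ↥(triGroup (F := F) Φ.c) →* F where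
  toFun g := ((g.1 : GL (Fin n) F) : Matrix (Fin n) (Fin n) F) k k
  map_one' := by simp
  map_mul' g h := by
    rw [Subgroup.coe_mul, Units.val_mul, block_mul_apply g.2 h.2 rfl,
      show (univ.filter fun l => Φ.c l = Φ.c k) = {k} from Finset.ext fun l => by
        simp only [Finset.mem_filter, Finset.mem_univ, true_and, Finset.mem_singleton]
        exact ⟨fun h => (Φ.single k l h.symm hk).symm, fun h => by rw [h]⟩,
      Finset.sum_singleton]

theorem lt_of_outside {v : Equiv.Perm (Fin N)} (hv : v ∈ pairedPerms N)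
    (h : ∀ a b : Fin N, a < b → b < Fin.rev a → v a < v b) {a b : Fin N} (hab : a < b)
    (hne : b ≠ Fin.rev a) : v a < v b := by
  rcases lt_or_gt_of_ne hne with h1 | h1
  · exact h a b hab h1
  · have := h (Fin.rev b) (Fin.rev a) (Fin.rev_lt_rev.mpr hab)
      (by rw [Fin.rev_rev]; exact h1)
    rwa [hv, hv, Fin.rev_lt_rev] at this

theorem eq_one_of_strictMono {v : Equiv.Perm (Fin N)} (h : StrictMono v) : v = 1 :=
  Equiv.ext fun k => congrFun ((StrictMono.range_inj h strictMono_id).mp
    (by rw [v.surjective.range_eq, Set.range_id])) k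

theorem cases_of_roots {v : Equiv.Perm (Fin N)} (hv : v ∈ pairedPerms N)
    (h : ∀ a b : Fin N, a < b → b < Fin.rev a → v a < v b) :
    v = 1 ∨ ∃ m, ∃ hm : 2 * m + 2 ≤ N, N = 2 * m + 2 ∧ v = symRefl hm := by
  rcases Nat.even_or_odd' N with ⟨k, rfl | rfl⟩
  · rcases Nat.eq_zero_or_pos k with rfl | hk
    · exact Or.inl (Equiv.ext fun x => absurd x.2 (by simp))
    set lo : Fin (2 * k) := ⟨k - 1, by omega⟩ with hlo
    set hi : Fin (2 * k) := ⟨k, by omega⟩ with hhi
    have hrev : Fin.rev lo = hi := Fin.ext (by rw [Fin.val_rev, hlo, hhi]; simp only; omega)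
    have key : ∀ a b : Fin (2 * k), a < b → ¬ (a = lo ∧ b = hi) → v a < v b := by
      intro a b hab hne
      by_cases hb : b = Fin.rev a
      · have hal : a < lo := by
          rcases lt_trichotomy a lo with h' | h' | h'
          · exact h'
          · exact absurd ⟨h', by rw [hb, h', hrev]⟩ hne
          · exfalso
            rw [hb, Fin.lt_def, Fin.val_rev] at hab
            simp only [hlo, Fin.lt_def] at h'
            omega
        refine (lt_of_outside hv h hal ?_).trans (lt_of_outside hv h ?_ ?_)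
        · intro he
          have := congrArg Fin.rev he
          rw [Fin.rev_rev, hrev] at this
          rw [← this, Fin.lt_def] at hal
          simp only [hlo, hhi] at hal
          omega
        · rw [hb, ← Fin.rev_rev lo, Fin.rev_lt_rev, hrev, Fin.lt_def]
          rw [Fin.lt_def] at hal
          simp only [hlo, hhi] at hal ⊢
          omega
        · rw [hb]
          exact fun he => hal.ne (Fin.rev_injective he)
      · exact lt_of_outside hv h hab hb
    by_cases hlh : v lo < v hi
    · refine Or.inl (eq_one_of_strictMono fun a b hab => ?_)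
      by_cases hc : a = lo ∧ b = hi
      · rw [hc.1, hc.2]; exact hlh
      · exact key a b hab hc
    · refine Or.inr ⟨k - 1, by omega, by omega, ?_⟩
      have hm : 2 * (k - 1) + 2 ≤ 2 * k := by omega
      have hs : ∀ x : Fin (2 * k), (symRefl hm x : ℕ) =
          if (x : ℕ) = k - 1 then k else if (x : ℕ) = k then k - 1 else x := fun x => by
        rw [symRefl_val, if_pos (by omega)]
        split_ifs <;> omega
      have h1 : v * symRefl hm = 1 := by
        refine eq_one_of_strictMono fun a b hab => ?_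
        rw [Equiv.Perm.mul_apply, Equiv.Perm.mul_apply]
        by_cases hc : a = lo ∧ b = hi
        · rw [hc.1, hc.2, show symRefl hm lo = hi from Fin.ext (by rw [hs]; simp [hlo, hhi]),
            show symRefl hm hi = lo from Fin.ext (by rw [hs]; simp only [hlo, hhi]; split_ifs <;> omega)]
          exact lt_of_le_of_ne (not_lt.mp hlh) fun he => by
            have := congrArg Fin.val (v.injective he)
            simp only [hlo, hhi] at this
            omega
        · refine key _ _ ?_ ?_
          · rw [Fin.lt_def, hs, hs]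
            rw [Fin.lt_def] at hab
            simp only [Fin.ext_iff, hlo, hhi] at hc
            split_ifs <;> omega
          · simp only [Fin.ext_iff, hs, hlo, hhi] at hc ⊢
            rw [Fin.lt_def] at hab
            split_ifs <;> omega
      have h2 : symRefl hm * symRefl hm = 1 :=
        Equiv.ext fun x => symReflFun_involutive hm x
      calc v = v * symRefl hm * symRefl hm := by rw [mul_assoc, h2, mul_one]
        _ = symRefl hm := by rw [h1, one_mul]
  · refine Or.inl (eq_one_of_strictMono fun a b hab => ?_)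
    by_cases hb : b = Fin.rev a
    · have hc : a < (⟨k, by omega⟩ : Fin (2 * k + 1)) := by
        rw [hb, Fin.lt_def, Fin.val_rev] at hab
        rw [Fin.lt_def]
        simp only
        omega
      refine (lt_of_outside hv h hc ?_).trans (lt_of_outside hv h ?_ ?_)
      · intro he
        rw [Fin.ext_iff, Fin.val_rev] at he
        rw [Fin.lt_def] at hc
        simp only at he hc
        omega
      · rw [hb, Fin.lt_def, Fin.val_rev]
        rw [Fin.lt_def] at hc
        simp only at hc ⊢
        omega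
      · intro he
        rw [hb, Fin.ext_iff, Fin.val_rev, Fin.val_rev] at he
        rw [Fin.lt_def] at hc
        simp only at he hc
        omega
    · exact lt_of_outside hv h hab hb

/-- The exceptional reflection of the plus type. -/
noncomputable def swp (m : ℕ) (hm : 2 * m + 2 ≤ N) : ↥(isometryGroup F ⇑Φ.Q) :=
  ⟨permGL (n := n) F (Φ.lift (symRefl hm)), fun u _ => Φ.lift_iso _ (symRefl_mem hm) u⟩

theorem act_swp {m : ℕ} (hm : 2 * m + 2 ≤ N) (x : Fin n → F) (k : Fin n) :
    OrthSpinor.act Φ.Q (Φ.swp m hm) x k = x ((Φ.lift (symRefl hm))⁻¹ k) := by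
  show ∑ l, (permGL n F (Φ.lift (symRefl hm)) : Matrix (Fin n) (Fin n) F) k l * x l = _
  rw [Finset.sum_eq_single ((Φ.lift (symRefl hm))⁻¹ k)]
  · rw [permGL_apply, if_pos (by exact (Φ.lift (symRefl hm)).apply_symm_apply k), one_mul]
  · intro l _ hl
    rw [permGL_apply, if_neg (fun h => hl (by rw [← h]; exact ((Φ.lift (symRefl hm)).symm_apply_apply l).symm)),
      zero_mul]
  · simp

/-- An isometry preserving the blocks merged at the centre lies in `B` or in `s B`. -/
theorem mem_or_swp {m : ℕ} (hm : 2 * m + 2 ≤ N) (hN : N = 2 * m + 2)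
    {g : ↥(isometryGroup F ⇑Φ.Q)}
    (hg : (g : GL (Fin n) F) ∈ triGroup (fun k => symBlock m (Φ.c k))) :
    g ∈ Φ.frame.B ∨ (Φ.swp m hm)⁻¹ * g ∈ Φ.frame.B := by
  obtain ⟨ka, hka⟩ := Φ.surj ⟨m, by omega⟩
  have hkb : (Φ.c (Fin.rev ka) : ℕ) = m + 1 := by
    rw [Φ.c_rev, hka, Fin.val_rev]; simp only; omega
  have hrev : ∀ k, Fin.rev (Φ.c k) ≠ Φ.c k := fun k h => by
    rw [Fin.ext_iff, Fin.val_rev] at h
    have := (Φ.c k).2
    omega
  have hsb : ∀ x : Fin N, symBlock m x = if m < (x : ℕ) then (x : ℕ) - 1 else (x : ℕ) := fun x => by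
    simp only [symBlock]
    split_ifs <;> omega
  have only : ∀ i j, Φ.c j < Φ.c i → ((g : GL (Fin n) F) : Matrix (Fin n) (Fin n) F) i j ≠ 0 →
      i = Fin.rev ka ∧ j = ka := by
    intro i j hij hne
    have h1 : ¬ symBlock m (Φ.c j) < symBlock m (Φ.c i) := fun h => hne (hg h)
    rw [hsb, hsb] at h1
    rw [Fin.lt_def] at hij
    have h2 : (Φ.c i : ℕ) = m + 1 ∧ (Φ.c j : ℕ) = m := by split_ifs at h1 <;> omega
    exact ⟨Φ.single _ _ (Fin.ext (h2.1.trans hkb.symm)) (hrev i),
      Φ.single _ _ (by rw [hka]; exact Fin.ext h2.2) (hrev j)⟩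
  by_cases h0 : ((g : GL (Fin n) F) : Matrix (Fin n) (Fin n) F) (Fin.rev ka) ka = 0
  · refine Or.inl fun i j hij => ?_
    by_contra hne
    obtain ⟨rfl, rfl⟩ := only i j hij hne
    exact hne h0
  refine Or.inr ?_
  set y := OrthSpinor.act Φ.Q g (Pi.single ka 1) with hy
  have hyv : ∀ i, y i = ((g : GL (Fin n) F) : Matrix (Fin n) (Fin n) F) i ka := fun i =>
    (Φ.entry_eq g i ka).symm
  set β := y (Fin.rev ka)
  have hl : ∀ k, (y - β • (Pi.single (Fin.rev ka) 1 : Fin n → F)) k ≠ 0 → Φ.c k < Fin.rev (Φ.c k) := by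
    intro k hk
    rcases eq_or_ne k (Fin.rev ka) with rfl | hne
    · simp [β] at hk
    simp [hne, hyv] at hk
    by_contra h
    have h3 : (Φ.c ka : ℕ) = m := by rw [hka]
    refine hne (only k ka ?_ hk).1
    rw [not_lt, Fin.le_def, Fin.val_rev] at h
    rw [Fin.lt_def]
    have := (Φ.c k).2
    omega
  have hQb : Φ.Q (Pi.single (Fin.rev ka) 1) = 0 := Φ.Q_single (hrev _)
  have hpol : β * polar (⇑Φ.Q) (y - β • (Pi.single (Fin.rev ka) 1 : Fin n → F)) (Pi.single (Fin.rev ka) 1) = 0 := by
    have h1 : Φ.Q y = 0 := by rw [hy, OrthSpinor.Q_act]; exact Φ.Q_single (hrev ka)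
    rw [← sub_add_cancel y (β • (Pi.single (Fin.rev ka) 1 : Fin n → F)), QuadraticMap.map_add (⇑Φ.Q), Φ.low _ hl,
      QuadraticMap.map_smul, hQb, polar_smul_right, smul_eq_mul, smul_eq_mul] at h1
    linear_combination h1
  have hβ : β ≠ 0 := by rwa [show β = _ from hyv _]
  have hne0 : Fin.rev ka ≠ ka := fun h => hrev ka (by rw [← Φ.c_rev, h])
  have ha0 : ((g : GL (Fin n) F) : Matrix (Fin n) (Fin n) F) ka ka = 0 := by
    rw [← hyv]
    have h := (mul_eq_zero.mp hpol).resolve_left hβ
    rw [polar_comm, Φ.polar_single, Fin.rev_rev] at h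
    have hD : ∀ l, (Φ.D : Matrix (Fin n) (Fin n) F) ka l ≠ 0 → l = ka := fun l hl =>
      (Φ.single ka l (Φ.D_block _ _ hl) (hrev ka)).symm
    have hDne : (Φ.D : Matrix (Fin n) (Fin n) F) ka ka ≠ 0 := fun h0 => by
      obtain ⟨i, hi⟩ := Φ.exists_polar_ne (y := Pi.single ka 1) (by simp)
      rw [Φ.polar_basis] at hi
      have := Φ.D_block _ _ hi
      have he : Fin.rev i = ka := Φ.single _ _ this (hrev _)
      rw [he] at hi
      exact hi h0
    rw [Matrix.mulVec, dotProduct, Finset.sum_eq_single ka] at h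
    · simpa [Pi.single_apply, hne0.symm, hDne] using h
    · intro l _ hl
      by_contra hc
      exact hl (hD l (left_ne_zero_of_mul hc))
    · simp
  intro i j hij
  show (((Φ.swp m hm)⁻¹ * g : ↥(isometryGroup F ⇑Φ.Q)) : Matrix.GeneralLinearGroup (Fin n) F).val i j = 0
  rw [Subgroup.coe_mul, Units.val_mul, Subgroup.coe_inv,
    show ((Φ.swp m hm : ↥(isometryGroup F ⇑Φ.Q)) : GL (Fin n) F) =
      permGL n F (Φ.lift (symRefl hm)) from rfl, ← map_inv, permGL_mul, inv_inv]
  set σ := Φ.lift (symRefl hm)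
  have hσ : (Φ.c (σ i) : ℕ) = if (Φ.c i : ℕ) = m then m + 1 else if (Φ.c i : ℕ) = m + 1 then m
      else (Φ.c i : ℕ) := by
    rw [Φ.lift_c _ (symRefl_mem hm), symRefl_val, if_pos (by omega)]
    split_ifs <;> omega
  rw [Fin.lt_def] at hij
  by_contra hne
  by_cases hc : (Φ.c j : ℕ) = m ∧ (Φ.c i : ℕ) = m + 1
  · have e1 : j = ka := Φ.single _ _ (by rw [hka]; exact Fin.ext hc.1) (hrev j)
    have e2 : σ i = ka := Φ.single _ _ (by
      rw [hka]; exact Fin.ext (by rw [hσ, if_neg (by omega), if_pos hc.2])) (hrev _)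
    rw [e1, e2] at hne
    exact hne ha0
  · have h4 : Φ.c j < Φ.c (σ i) := by
      rw [Fin.lt_def, hσ]
      split_ifs <;> omega
    obtain ⟨e1, e2⟩ := only _ _ h4 hne
    have h5 := congrArg (fun k => (Φ.c k : ℕ)) e1
    have h6 := congrArg (fun k => (Φ.c k : ℕ)) e2
    simp only [hkb, hka, hσ] at h5 h6
    split_ifs at h5 <;> omega

variable [Fintype F]

/-- A Steinberg character of every central quotient of `Ω` in adapted coordinates. -/
theorem exists_omega_character (p : ℕ) [Fact p.Prime] [CharP F p] (hN : 2 ≤ N)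
    (hgen : Subgroup.closure (CfsgLib.Orth.reflSet Φ.Q) = ⊤) (hreg : Regular F (Fin n ⊕ Φ.Mid))
    (hmid : Fintype.card Φ.Mid ≤ 2) {Q : Type*} [Group Q]
    (π : ↥(Omega F ⇑Φ.Q) →* Q) (hπ : Function.Surjective π)
    (hcen : π.ker ≤ Subgroup.center ↥(Omega F ⇑Φ.Q)) :
    ∃ χ : Q → ℂ, Cfsg.IsIrrCharacter Q χ ∧ ∀ P : Sylow p Q,
      χ 1 = (Nat.card P : ℂ) ∧ ∀ x : Q, x ∈ P → x ≠ 1 → χ x = 0 := by
  classical
  have hnd := Φ.ndPolar
  obtain ⟨k0, hk0⟩ := Φ.surj ⟨0, by omega⟩
  have hne0 : Fin.rev (Φ.c k0) ≠ Φ.c k0 := by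
    rw [hk0, ne_eq, Fin.ext_iff, Fin.val_rev]; simp only; omega
  have hn : 2 ≤ Fintype.card (Fin n) := by
    rw [Fintype.card_fin]
    exact hN.trans (by simpa using Fintype.card_le_of_surjective _ Φ.surj)
  -- swaps are odd
  have hswap : ∀ m (hm : 2 * m + 2 ≤ N), N = 2 * m + 2 → parity (Φ.swp m hm) = 1 := by
    intro m hm hNm
    obtain ⟨ka, hka⟩ := Φ.surj ⟨m, by omega⟩
    have hσ : ∀ k, (Φ.c (Φ.lift (symRefl hm) k) : ℕ) = if (Φ.c k : ℕ) = m then m + 1
        else if (Φ.c k : ℕ) = m + 1 then m else (Φ.c k : ℕ) := fun k => by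
      rw [Φ.lift_c _ (symRefl_mem hm), symRefl_val, if_pos (by omega)]
      split_ifs <;> omega
    have hrev : ∀ k, Fin.rev (Φ.c k) ≠ Φ.c k := fun k h => by
      rw [Fin.ext_iff, Fin.val_rev] at h
      have := (Φ.c k).2
      omega
    set σ := Φ.lift (symRefl hm) with hσdef
    set v : Fin n → F := Pi.single ka 1 - Pi.single (σ ka) 1
    have hne : σ ka ≠ ka := fun h => by
      have := congrArg (fun k => (Φ.c k : ℕ)) h
      simp [hσ, hka] at this
    have hσσ : σ (σ ka) = ka := Φ.single _ _ (by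
      refine Fin.ext ?_
      rw [hσ, hσ, hka]
      simp) (hrev _)
    have hfix : ∀ k, k ≠ ka → k ≠ σ ka → σ k = k := fun k h1 h2 => Φ.single _ _ (by
      refine Fin.ext ?_
      rw [hσ]
      split_ifs with e1 e2
      · exact absurd (Φ.single k ka (by rw [hka]; exact Fin.ext e1) (hrev k)) h1
      · exact absurd (Φ.single k (σ ka) (Fin.ext (by rw [e2, hσ, hka]; simp)) (hrev k)) h2
      · rfl) (hrev _)
    have hrange : LinearMap.range (CfsgLib.Orth.subOne (toOrth Φ.Q (Φ.swp m hm))) =
        Submodule.span F {v} := by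
      refine le_antisymm ?_ ((Submodule.span_singleton_le_iff_mem _ _).mpr ⟨Pi.single (σ ka) 1, ?_⟩)
      · rintro _ ⟨x, rfl⟩
        refine Submodule.mem_span_singleton.mpr ⟨x (σ ka) - x ka, funext fun k => ?_⟩
        rw [CfsgLib.Orth.subOne_apply, Pi.sub_apply, toOrth_apply, act_swp, ← hσdef]
        rcases eq_or_ne k ka with rfl | h1
        · rw [show σ⁻¹ k = σ k from σ.injective (by
            rw [show σ (σ⁻¹ k) = k from σ.apply_symm_apply k, hσσ])]
          simp [v, hne.symm]
        rcases eq_or_ne k (σ ka) with rfl | h2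
        · rw [show σ⁻¹ (σ ka) = ka from σ.symm_apply_apply ka]
          simp [v, h1]
        · rw [show σ⁻¹ k = k from σ.injective (by
            rw [show σ (σ⁻¹ k) = k from σ.apply_symm_apply k, hfix k h1 h2])]
          simp [v, h1, h2]
      · funext k
        rw [CfsgLib.Orth.subOne_apply, Pi.sub_apply, toOrth_apply, act_swp, ← hσdef]
        simp only [v, Pi.sub_apply, Pi.single_apply]
        congr 1
        refine if_congr ?_ rfl rfl
        constructor
        · intro h; rw [← hσσ, ← h]; exact (σ.apply_symm_apply k).symm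
        · intro h; rw [h]; exact σ.injective (by
            rw [show σ (σ⁻¹ ka) = ka from σ.apply_symm_apply ka, hσσ])
    have hv : v ≠ 0 := fun h => by
      have := congrFun h ka
      simp [v, hne.symm] at this
    rw [parity, CfsgLib.Orth.moved, hrange, finrank_span_singleton hv, Nat.cast_one]
  have hmid0 : ∀ (m : ℕ), N = 2 * m + 2 → ∀ g ∈ Φ.frame.B, parity g = 0 := by
    intro m hNm g hg
    rw [show g = (⟨g, hg⟩ : ↥Φ.frame.B).1 from rfl, Φ.parity_midHom hreg,
      show Φ.midHom ⟨g, hg⟩ = 1 from OrthSpinor.ext_act _ fun x => funext fun j => absurd j.2 fun h => by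
        rw [Fin.ext_iff, Fin.val_rev] at h
        have := (Φ.c j.1).2
        omega, parity_one]
  -- the radical is contained in `Ω`
  have hp2 : (2 : F) ≠ 0 → p ≠ 2 := fun h2 hp => h2 (by
    subst hp; exact CharP.cast_eq_zero F 2)
  have hU : Φ.frame.U ≤ Omega F ⇑Φ.Q := by
    intro u hu
    have huB : u ∈ Φ.frame.B := uniC_le hu
    refine mem_Omega' hnd hgen hn ?_ fun h2 => ?_
    · rw [show u = (⟨u, huB⟩ : ↥Φ.frame.B).1 from rfl, Φ.parity_midHom hreg,
        show Φ.midHom ⟨u, huB⟩ = 1 from OrthSpinor.eq_of_matrix _ (Matrix.ext fun i j => by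
          show ((u : GL (Fin n) F) : Matrix (Fin n) (Fin n) F) i.1 j.1 = (1 : Matrix Φ.Mid Φ.Mid F) i j
          rw [show ((u : GL (Fin n) F) : Matrix (Fin n) (Fin n) F) i.1 j.1 =
            (1 : Matrix (Fin n) (Fin n) F) i.1 j.1 from hu.2 _ _ (Φ.c_mid_eq i.2 j.2)]
          simp [Matrix.one_apply, Subtype.ext_iff]), parity_one]
    · have hP : IsPGroup p (uniC Φ.c : Subgroup (GL (Fin n) F)) :=
        ((AutPSL.isPGroup_uniTri (F := F) (n := n) p).map _).to_le (uniC_le_uni Φ.mono)
      obtain ⟨k, hk⟩ := hP ⟨Φ.frame.f u, hu⟩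
      have hu1 : u ^ (p ^ k) = 1 := Φ.frame.inj (by
        rw [map_pow, map_one]
        exact congrArg Subtype.val hk)
      rcases Int.units_eq_one_or (OrthSpinor.theta (Q := Φ.Q) 1 u) with h | h
      · exact h
      · exfalso
        have h1 := congrArg (OrthSpinor.theta (Q := Φ.Q) 1) hu1
        rw [map_pow, map_one, h,
          (((Fact.out : p.Prime).odd_of_ne_two (hp2 h2)).pow).neg_one_pow] at h1
        exact absurd h1 (by decide)
  -- a flip in `B`
  have hflip : (2 : F) ≠ 0 → ∃ t ∈ Φ.frame.B, parity t = 0 ∧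
      OrthSpinor.theta (Q := Φ.Q) 1 t = -1 := by
    intro h2
    obtain ⟨ν, hν, hns⟩ := OrthSpinor.exists_nonsquare' (F := F) h2
    set u : Fin n → F := Pi.single k0 1
    set e : Fin n → F := Pi.single (Fin.rev k0) 1
    have hD : ∀ l, polar (⇑Φ.Q) (Pi.single l 1) u ≠ 0 → l = Fin.rev k0 := fun l hl => by
      have := Φ.c_of_polar hl
      refine Φ.single _ _ (by rw [Φ.c_rev, this, Fin.rev_rev]) fun h => hne0 ?_
      rw [this, Fin.rev_rev]
      exact h.symm
    have hd : polar (⇑Φ.Q) e u ≠ 0 := by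
      obtain ⟨i, hi⟩ := Φ.exists_polar_ne (y := u) (by simp [u])
      rwa [hD i hi] at hi
    set z : Fin n → F := (polar (⇑Φ.Q) e u)⁻¹ • e
    have huz : polar (⇑Φ.Q) u z = 1 := by
      rw [polar_smul_right, smul_eq_mul, polar_comm (⇑Φ.Q) u e, inv_mul_cancel₀ hd]
    have hQu : Φ.Q u = 0 := Φ.Q_single hne0
    have hQz : Φ.Q z = 0 := by
      rw [QuadraticMap.map_smul, Φ.Q_single, smul_zero]
      rw [Φ.c_rev, Fin.rev_rev]
      exact hne0.symm
    have hQ : ∀ c : F, Φ.Q (u + c • z) = c := fun c => by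
      rw [CfsgLib.Classical.Quad.Q_comb1, hQu, hQz, huz]; ring
    have ha : Φ.Q (u + (1 : F) • z) ≠ 0 := by rw [hQ]; exact one_ne_zero
    have hb : Φ.Q (u + ν • z) ≠ 0 := by rw [hQ]; exact hν
    refine ⟨OrthSpinor.reflection ha * OrthSpinor.reflection hb, Φ.mem_B.mpr fun i j hij => ?_, ?_,
      theta_pair h2 ha hb (by rwa [hQ, hQ, one_mul])⟩
    · have huu := CfsgLib.Classical.Quad.polar_singular_self hQu
      have hzz := CfsgLib.Classical.Quad.polar_singular_self hQz
      have hjk : j ≠ Fin.rev k0 := fun h => by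
        rw [h, Φ.c_rev, hk0, Fin.lt_def, Fin.val_rev] at hij
        have := (Φ.c i).2
        simp only at hij
        omega
      have hju : polar (⇑Φ.Q) (Pi.single j 1) u = 0 := by
        by_contra h; exact hjk (hD j h)
      rw [Φ.entry_eq, ← toOrth_apply, map_mul, toOrth_reflection, toOrth_reflection,
        CfsgLib.Classical.Quad.mul_apply, CfsgLib.Classical.Quad.refl_apply,
        CfsgLib.Classical.Quad.refl_apply, hQ, hQ]
      simp only [polar_add_left, polar_add_right, polar_smul_left, polar_smul_right, smul_eq_mul,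
        hju, huu, hzz, huz, polar_comm _ z u]
      have hij' : i ≠ j := fun h => hij.ne' (congrArg Φ.c h)
      by_cases hjz : polar (⇑Φ.Q) (Pi.single j 1) z = 0
      · simp [hjz, hij']
      · have hj : j = k0 := by
          rw [polar_smul_right, smul_eq_mul] at hjz
          have := Φ.c_of_polar (right_ne_zero_of_mul hjz)
          rw [Φ.c_rev] at this
          exact Φ.single _ _ (Fin.rev_injective this).symm (by rwa [← Fin.rev_injective this])
        have hz : z i * (0 : F) = 0 := mul_zero _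
        subst hj
        simp only [u, Pi.add_apply, Pi.smul_apply, smul_eq_mul, Pi.single_eq_of_ne hij']
        field_simp
        ring
    · rw [parity_mul' hnd hgen, parity_reflection hnd, parity_reflection hnd]
      decide
  refine Φ.frame.exists_character p (Omega F ⇑Φ.Q) hU ?_ ?_ ?_ π hπ hcen
  · -- fixed points of the radical
    intro h hh hfix
    set w := Φ.frame.cellOf (QuotientGroup.mk h) with hw
    rcases cases_of_roots (inv_mem (Φ.frame.cellOf_mem (QuotientGroup.mk h)))
      (fun a b hab hb => Φ.lt_of_fix hfix hab hb) with h1 | ⟨m, hm, hNm, h1⟩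
    · exact Φ.frame.mem_tri_of_cell_one (inv_eq_one.mp h1)
    exfalso
    have hw2 : w = symRefl hm := by
      rw [hw, ← inv_inv (Φ.frame.cellOf _), h1]
      exact Function.Involutive.toPerm_symm (symReflFun_involutive hm)
    obtain ⟨q1, hq1, q2, hq2, he⟩ := Φ.frame.inCell_cellOf h
    have hb : (h : GL (Fin n) F) ∈ triGroup (fun k => symBlock m (Φ.c k)) := by
      rw [show (h : GL (Fin n) F) = Φ.frame.f h from rfl, he]
      refine mul_mem (mul_mem (OrthFrame.tri_le ⟨m, hm⟩ hq1) ?_) (OrthFrame.tri_le ⟨m, hm⟩ hq2)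
      intro i j hij
      rw [permGL_apply, if_neg]
      intro e
      simp only [← e] at hij
      rw [Φ.lift_c _ (Φ.frame.cellOf_mem _), ← hw, hw2, symRefl_pres] at hij
      exact lt_irrefl _ hij
    have h0 := parity_of_mem_Omega' hnd hgen hh
    rcases Φ.mem_or_swp hm hNm hb with hB | hB
    · have hP : permGL n F (Φ.lift 1) ∈ triGroup Φ.c := permGL_mem_triGroup fun i => by
        rw [Φ.lift_c 1 (one_mem _), Equiv.Perm.one_apply]
      have h2 : w = 1 := Φ.frame.cellOf_eq (one_mem _)
        ⟨_, mul_mem hB (inv_mem hP), 1, one_mem _, by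
          rw [mul_one, inv_mul_cancel_right]⟩
      exact symRefl_ne hm (hw2.symm.trans h2)
    · have h2 := hmid0 m hNm _ hB
      rw [parity_mul' hnd hgen, h0, add_zero] at h2
      have h3 := parity_mul' hnd hgen (Φ.swp m hm)⁻¹ (Φ.swp m hm)
      rw [inv_mul_cancel, parity_one, h2, hswap m hm hNm] at h3
      exact absurd h3 (by decide)
  · -- the torus
    intro h hh htri ⟨k, hk⟩
    refine ⟨htri, fun i j hij => ?_⟩
    by_cases hi : Fin.rev (Φ.c i) = Φ.c i
    · have hM : Φ.midHom ⟨h, htri⟩ = 1 := by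
        refine eq_one_of_ppow p hmid ?_ (k := k) ?_
        · rw [← Φ.parity_midHom hreg]
          exact parity_of_mem_Omega' hnd hgen hh
        · rw [← map_pow]
          exact (congrArg Φ.midHom (Subtype.ext hk)).trans (map_one _)
      have h1 := congrArg (fun g : ↥(isometryGroup F ⇑Φ.midForm) =>
        ((g : GL Φ.Mid F) : Matrix Φ.Mid Φ.Mid F) ⟨i, hi⟩ ⟨j, hij ▸ hi⟩) hM
      refine h1.trans ?_
      simp [Matrix.one_apply]
    · obtain rfl : i = j := Φ.single i j hij hi
      rw [Matrix.one_apply_eq]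
      have h1 : Φ.diagEntry i hi ⟨Φ.frame.f h, htri⟩ ^ (p ^ k) = 1 := by
        rw [← map_pow, show (⟨Φ.frame.f h, htri⟩ : ↥(triGroup (F := F) Φ.c)) ^ (p ^ k) = 1 from
          Subtype.ext (by rw [SubmonoidClass.coe_pow, ← map_pow, hk, map_one]; rfl), map_one]
      have h2 : (Φ.diagEntry i hi ⟨Φ.frame.f h, htri⟩ - 1) ^ (p ^ k) = 0 := by
        rw [sub_pow_char_pow, h1, one_pow, sub_self]
      exact sub_eq_zero.mp (eq_zero_of_pow_eq_zero h2)
  · -- reaching every point from `Ω`
    intro φ hφ h0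
    have heven : ∀ g, parity g = 0 → φ (QuotientGroup.mk g) = 0 := by
      intro g hg
      obtain ⟨x, hx, hgx⟩ := exists_mul_mem_Omega' hnd hgen hn Φ.frame.B hg hflip
      have := h0 _ hgx
      rwa [QuotientGroup.mk_mul_of_mem _ hx] at this
    funext y
    obtain ⟨g, rfl⟩ := QuotientGroup.mk_surjective y
    rw [Pi.zero_apply]
    by_cases hg : parity g = 0
    · exact heven g hg
    have hg1 : parity g = 1 := by revert hg; generalize parity g = z; revert z; decide
    rcases Nat.even_or_odd' N with ⟨k, hk | hk⟩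
    · have hm : 2 * (k - 1) + 2 ≤ N := by omega
      have hNm : N = 2 * (k - 1) + 2 := by omega
      set s := Φ.swp (k - 1) hm
      have hsinv : parity s⁻¹ = 1 := by
        have h3 := parity_mul' hnd hgen s⁻¹ s
        rw [inv_mul_cancel, parity_one, hswap _ hm hNm] at h3
        revert h3; generalize parity s⁻¹ = z; revert z; decide
      have hclass := hφ ⟨k - 1, hm⟩ (QuotientGroup.mk g) (QuotientGroup.mk g)
        (QuotientGroup.mk (g * s)) ?_ ?_
      · rwa [heven (g * s) (by rw [parity_mul' hnd hgen, hg1, hswap _ hm hNm]; decide), add_zero] at hclass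
      · intro he
        rw [QuotientGroup.eq, inv_mul_cancel_left] at he
        have := hmid0 _ hNm _ he
        rw [hswap _ hm hNm] at this
        exact absurd this (by decide)
      · intro y
        obtain ⟨g', rfl⟩ := QuotientGroup.mk_surjective y
        rw [OrthFrame.rel_mk]
        constructor
        · intro hr
          rcases Φ.mem_or_swp hm hNm (g := g⁻¹ * g') hr with hB | hB
          · exact Or.inl (QuotientGroup.eq.mpr hB).symm
          · refine Or.inr (QuotientGroup.eq.mpr ?_).symm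
            rwa [_root_.mul_inv_rev, mul_assoc]
        · have hs : Φ.frame.f s ∈ triGroup (fun l => symBlock (k - 1) (Φ.c l)) := by
            intro i j hij
            show (permGL n F (Φ.lift (symRefl hm)) : Matrix (Fin n) (Fin n) F) i j = 0
            rw [permGL_apply, if_neg]
            intro e
            simp only [← e] at hij
            rw [Φ.lift_c _ (symRefl_mem hm), symRefl_pres] at hij
            exact lt_irrefl _ hij
          rintro (he | he) <;> rw [eq_comm, QuotientGroup.eq] at he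
          · exact OrthFrame.tri_le ⟨k - 1, hm⟩ (show Φ.frame.f (g⁻¹ * g') ∈ triGroup Φ.c from he)
          · have h3 := mul_mem hs (OrthFrame.tri_le (F := F) ⟨k - 1, hm⟩
              (show Φ.frame.f ((g * s)⁻¹ * g') ∈ triGroup Φ.c from he))
            rwa [← map_mul, _root_.mul_inv_rev, mul_assoc, mul_inv_cancel_left, map_mul, map_inv] at h3
    · obtain ⟨j, hj⟩ := Φ.surj ⟨k, by omega⟩
      have hjm : Fin.rev (Φ.c j) = Φ.c j := by
        rw [hj, Fin.ext_iff, Fin.val_rev]; simp only; omega
      have hQj := Φ.Q_single_ne hjm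
      have hr : OrthSpinor.reflection hQj ∈ Φ.frame.B := by
        refine Φ.mem_B.mpr fun i l hil => ?_
        rw [Φ.entry_eq, OrthSpinor.act_reflection, Pi.sub_apply,
          Pi.single_eq_of_ne (fun h => hil.ne' (congrArg Φ.c h)), zero_sub, neg_eq_zero,
          Pi.smul_apply, smul_eq_mul]
        by_cases hij : i = j
        · subst hij
          refine mul_eq_zero_of_left (mul_eq_zero_of_right _ ?_) _
          by_contra h
          have := Φ.c_of_polar h
          rw [hjm] at this
          exact hil.ne this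
        · rw [Pi.single_eq_of_ne hij, mul_zero]
      have := heven (g * OrthSpinor.reflection hQj)
        (by rw [parity_mul' hnd hgen, hg1, parity_reflection hnd]; decide)
      rwa [QuotientGroup.mk_mul_of_mem _ hr] at this

end OrthModel

end CfsgLib.SteinbergChar
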