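import Cfsg.Agent.Lib.SteinbergChar.OrthModel

/-!
The Steinberg module on the singular flags of an orthogonal group, and its character on a subgroup.
-/

set_option autoImplicit false

open Matrix Finset CfsgLib.GLFlags

namespace CfsgLib.SteinbergChar

/-- A group realised as the isometry group of an adapted form. -/
structure OrthFrame {n N : ℕ} {F : Type*} [Field F] (Φ : OrthModel n N F) (G : Type*) [Group G] where
  f : G →* GL (Fin n) F
  inj : Function.Injective f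
  iso : ∀ g, Φ.Iso (f g)
  range : ∀ g : GL (Fin n) F, Φ.Iso g → ∃ x, f x = g

namespace OrthFrame

variable {n N : ℕ} {F : Type*} [Field F] {Φ : OrthModel n N F} {G : Type*} [Group G]
  (A : OrthFrame Φ G)

/-- The stabiliser of the base flag. -/
def B : Subgroup G := (triGroup Φ.c).comap A.f

/-- The unipotent radical. -/
def U : Subgroup G := (uniC Φ.c).comap A.f

theorem mk_eq_iff {g h : G} :
    (QuotientGroup.mk g : G ⧸ A.B) = QuotientGroup.mk h ↔ (A.f g)⁻¹ * A.f h ∈ triGroup Φ.c := by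
  rw [QuotientGroup.eq, B, Subgroup.mem_comap, map_mul, map_inv]

/-- The block permutation of a point. -/
noncomputable def cellOf (x : G ⧸ A.B) : Equiv.Perm (Fin N) :=
  (Φ.exists_cell (A.iso x.out)).choose

theorem cellOf_mem (x : G ⧸ A.B) : A.cellOf x ∈ pairedPerms N :=
  (Φ.exists_cell (A.iso x.out)).choose_spec.1

theorem inCell_cellOf (g : G) :
    InBlockCell Φ.c (A.f g) (Φ.lift (A.cellOf (QuotientGroup.mk g))) := by
  have h := (Φ.exists_cell (A.iso (QuotientGroup.mk g : G ⧸ A.B).out)).choose_spec.2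
  have hb : (A.f (QuotientGroup.mk g : G ⧸ A.B).out)⁻¹ * A.f g ∈ triGroup Φ.c :=
    A.mk_eq_iff.mp (QuotientGroup.out_eq' _)
  simpa [cellOf] using h.mul_right hb

theorem cellOf_eq {g : G} {w : Equiv.Perm (Fin N)} (hw : w ∈ pairedPerms N)
    (h : InBlockCell Φ.c (A.f g) (Φ.lift w)) : A.cellOf (QuotientGroup.mk g) = w :=
  (A.inCell_cellOf g).unique_lift Φ.surj h (Φ.lift_c _ (A.cellOf_mem _)) (Φ.lift_c _ hw)

/-- A representative of a block permutation. -/
noncomputable def perm (w : Equiv.Perm (Fin N)) : G :=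
  open Classical in if h : w ∈ pairedPerms N then (A.range _ (Φ.lift_iso w h)).choose else 1

theorem f_perm {w : Equiv.Perm (Fin N)} (h : w ∈ pairedPerms N) :
    A.f (A.perm w) = permGL n F (Φ.lift w) := by
  simp only [perm, dif_pos h]
  exact (A.range _ (Φ.lift_iso w h)).choose_spec

/-- The point of the apartment. -/
noncomputable def pt (w : Equiv.Perm (Fin N)) : G ⧸ A.B := QuotientGroup.mk (A.perm w)

theorem cellOf_pt {w : Equiv.Perm (Fin N)} (h : w ∈ pairedPerms N) : A.cellOf (A.pt w) = w :=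
  A.cellOf_eq h ⟨1, one_mem _, 1, one_mem _, by rw [A.f_perm h]; group⟩

theorem monotone_block (a : ℕ) : Monotone fun k => symBlock (n := N) a (Φ.c k) :=
  (symBlock_mono a).comp Φ.mono

/-- Adjacency along a block system. -/
def rel (i : {a : ℕ // 2 * a + 2 ≤ N}) (x y : G ⧸ A.B) : Prop :=
  (A.f x.out)⁻¹ * A.f y.out ∈ triGroup (fun k => symBlock i.1 (Φ.c k))

theorem tri_le (i : {a : ℕ // 2 * a + 2 ≤ N}) :
    triGroup Φ.c ≤ triGroup (F := F) (fun k => symBlock i.1 (Φ.c k)) := by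
  intro g hg k l hkl
  exact hg (lt_of_not_ge fun hle => (symBlock_mono i.1 hle).not_gt hkl)

theorem rel_mk {i : {a : ℕ // 2 * a + 2 ≤ N}} {g h : G} :
    A.rel i (QuotientGroup.mk g) (QuotientGroup.mk h) ↔
      (A.f g)⁻¹ * A.f h ∈ triGroup (fun k => symBlock i.1 (Φ.c k)) := by
  have e : ∀ a : G, (A.f (QuotientGroup.mk a : G ⧸ A.B).out)⁻¹ * A.f a ∈
      triGroup (fun k => symBlock i.1 (Φ.c k)) :=
    fun a => tri_le i (A.mk_eq_iff.mp (QuotientGroup.out_eq' _))
  constructor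
  · intro hr
    have := mul_mem (mul_mem (inv_mem (e g))
      (show _ ∈ triGroup (fun k => symBlock i.1 (Φ.c k)) from hr)) (e h)
    simpa [mul_assoc] using this
  · intro hr
    have := mul_mem (mul_mem (e g) hr) (inv_mem (e h))
    simpa [rel, mul_assoc] using this

theorem rel_equiv (i : {a : ℕ // 2 * a + 2 ≤ N}) : Equivalence (A.rel i) where
  refl x := by simp [rel]
  symm {x y} h := by
    have := inv_mem (show _ ∈ triGroup (fun k => symBlock i.1 (Φ.c k)) from h)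
    simpa [rel] using this
  trans {x y z} h h' := by
    have := mul_mem (show _ ∈ triGroup (fun k => symBlock i.1 (Φ.c k)) from h)
      (show _ ∈ triGroup (fun k => symBlock i.1 (Φ.c k)) from h')
    simpa [rel, mul_assoc] using this

theorem rel_smul (i : {a : ℕ // 2 * a + 2 ≤ N}) (g : G) {x y : G ⧸ A.B} (h : A.rel i x y) :
    A.rel i (g • x) (g • y) := by
  obtain ⟨a, rfl⟩ := QuotientGroup.mk_surjective x
  obtain ⟨c, rfl⟩ := QuotientGroup.mk_surjective y
  rw [MulAction.Quotient.smul_mk, MulAction.Quotient.smul_mk, rel_mk] at *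
  simpa [mul_assoc] using h

/-- The apartment cycle. -/
noncomputable def e (x : G ⧸ A.B) : ℂ :=
  open Classical in if x = A.pt (A.cellOf x) then pairedSgn (A.cellOf x) else 0

theorem e_pt {w : Equiv.Perm (Fin N)} (h : w ∈ pairedPerms N) : A.e (A.pt w) = pairedSgn w := by
  rw [e, A.cellOf_pt h, if_pos rfl]

theorem e_eq_zero {x : G ⧸ A.B} (h : ∀ w ∈ pairedPerms N, x ≠ A.pt w) : A.e x = 0 := by
  rw [e, if_neg (h _ (A.cellOf_mem x))]

theorem rel_pt_iff (i : {a : ℕ // 2 * a + 2 ≤ N}) {w w' : Equiv.Perm (Fin N)}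
    (hw : w ∈ pairedPerms N) (hw' : w' ∈ pairedPerms N) :
    A.rel i (A.pt w) (A.pt w') ↔ ∀ k, symBlock i.1 ((w⁻¹ * w') k) = symBlock i.1 k := by
  rw [pt, pt, rel_mk, A.f_perm hw, A.f_perm hw', ← map_inv, ← map_mul]
  have hc : ∀ k, Φ.c (((Φ.lift w)⁻¹ * Φ.lift w') k) = (w⁻¹ * w') (Φ.c k) := by
    intro k
    apply w.injective
    rw [Equiv.Perm.mul_apply, ← Φ.lift_c w hw,
      show Φ.lift w ((Φ.lift w)⁻¹ (Φ.lift w' k)) = Φ.lift w' k from (Φ.lift w).apply_symm_apply _,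
      Φ.lift_c w' hw', Equiv.Perm.mul_apply]
    exact (w.apply_symm_apply _).symm
  constructor
  · intro h k
    obtain ⟨l, rfl⟩ := Φ.surj k
    rw [← hc]
    exact perm_preserves h l
  · intro h a c hac
    rw [permGL_apply, if_neg]
    intro he
    rw [← he] at hac
    simp only [hc, h] at hac
    exact lt_irrefl _ hac

theorem e_sum [Finite G] [Fintype (G ⧸ A.B)] (i : {a : ℕ // 2 * a + 2 ≤ N}) [DecidableRel (A.rel i)]
    (x : G ⧸ A.B) : ∑ y, (if A.rel i x y then A.e y else 0) = 0 := by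
  classical
  by_cases hc : ∀ w ∈ pairedPerms N, ¬ A.rel i x (A.pt w)
  · refine Finset.sum_eq_zero fun y _ => ?_
    split
    · rename_i hr
      exact A.e_eq_zero fun w hw h => hc w hw (h ▸ hr)
    · rfl
  push Not at hc
  obtain ⟨w, hw, hr⟩ := hc
  have hiff : ∀ y, A.rel i x y ↔ A.rel i (A.pt w) y := fun y =>
    ⟨fun h => (A.rel_equiv i).trans ((A.rel_equiv i).symm hr) h, fun h => (A.rel_equiv i).trans hr h⟩
  have hw2 : w * symRefl i.2 ∈ pairedPerms N := mul_mem hw (symRefl_mem i.2)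
  have hne : A.pt w ≠ A.pt (w * symRefl i.2) := fun h => by
    have := congrArg A.cellOf h
    rw [A.cellOf_pt hw, A.cellOf_pt hw2] at this
    exact symRefl_ne i.2 (mul_eq_left.mp this.symm)
  rw [← Finset.sum_subset (Finset.subset_univ {A.pt w, A.pt (w * symRefl i.2)}), Finset.sum_pair hne,
    if_pos hr, if_pos ((hiff _).mpr ((A.rel_pt_iff i hw hw2).mpr (by simpa using symRefl_pres i.2))),
    A.e_pt hw, A.e_pt hw2, pairedSgn_refl i.2 hw, add_neg_cancel]
  intro y _ hy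
  split
  · rename_i hxy
    refine A.e_eq_zero fun w' hw' h => ?_
    subst h
    rcases symRefl_only i.2 (mul_mem (inv_mem hw) hw')
        ((A.rel_pt_iff i hw hw').mp ((hiff _).mp hxy)) with h1 | h1
    · rw [inv_mul_eq_one] at h1
      simp [h1] at hy
    · rw [inv_mul_eq_iff_eq_mul] at h1
      simp [h1] at hy
  · rfl

theorem fix_base {u : G} (hu : u ∈ A.U) :
    u • (QuotientGroup.mk 1 : G ⧸ A.B) = QuotientGroup.mk 1 := by
  rw [MulAction.Quotient.smul_mk, mk_eq_iff, smul_eq_mul, mul_one, map_one, mul_one]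
  exact inv_mem (uniC_le hu)

theorem smul_pt_rev {u : G} (hu : u ∈ A.U) (h : u • A.pt Fin.revPerm = A.pt Fin.revPerm) : u = 1 := by
  rw [pt, MulAction.Quotient.smul_mk, mk_eq_iff, smul_eq_mul, map_mul, A.f_perm revPerm_mem] at h
  have h' : (permGL n F (Φ.lift Fin.revPerm))⁻¹ * (A.f u)⁻¹ * permGL n F (Φ.lift Fin.revPerm) ∈
      triGroup Φ.c := by simpa [mul_assoc] using h
  have hone := eq_one_of_rev (Φ.lift_c _ revPerm_mem) (inv_mem hu) h'
  exact A.inj (by rw [map_one]; exact inv_eq_one.mp hone)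

theorem cellOf_smul_top {u : G} (hu : u ∈ A.U) : A.cellOf (u • A.pt Fin.revPerm) = Fin.revPerm := by
  rw [pt, MulAction.Quotient.smul_mk]
  refine A.cellOf_eq revPerm_mem ⟨A.f u, uniC_le hu, 1, one_mem _, ?_⟩
  rw [smul_eq_mul, map_mul, A.f_perm revPerm_mem, mul_one]

theorem descent_cell {x : G ⧸ A.B} (hx : ¬ ∃ u ∈ A.U, u • A.pt Fin.revPerm = x) :
    ∃ i : {a : ℕ // 2 * a + 2 ≤ N}, ∀ y, A.rel i x y → y ≠ x →
      A.cellOf y = A.cellOf x * symRefl i.2 ∧
      ∑ k : Fin N, (k : ℕ) * (A.cellOf y k : ℕ) < ∑ k : Fin N, (k : ℕ) * (A.cellOf x k : ℕ) := by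
  obtain ⟨h, rfl⟩ := QuotientGroup.mk_surjective x
  set w := A.cellOf (QuotientGroup.mk h)
  have hw : w ∈ pairedPerms N := A.cellOf_mem _
  have hcell : InBlockCell Φ.c (A.f h) (Φ.lift w) := A.inCell_cellOf h
  have hne : w ≠ Fin.revPerm := by
    intro he
    obtain ⟨u, hu, hiso, hb⟩ := Φ.exists_uni_lift (A.iso h) (he ▸ hcell)
    obtain ⟨x, rfl⟩ := A.range u hiso
    refine hx ⟨x, hu, ?_⟩
    rw [pt, MulAction.Quotient.smul_mk, mk_eq_iff, smul_eq_mul, map_mul, A.f_perm revPerm_mem]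
    exact hb
  obtain ⟨i, hi⟩ := symBlock_desc hw hne
  refine ⟨i, fun y hy hyx => ?_⟩
  obtain ⟨g, rfl⟩ := QuotientGroup.mk_surjective y
  rw [rel_mk] at hy
  obtain ⟨p, hp, q, hq, he⟩ := hcell
  have hp' : q * ((A.f h)⁻¹ * A.f g) ∈ triGroup (fun k => symBlock i.1 (Φ.c k)) :=
    mul_mem (tri_le i hq) hy
  have hasc : ∀ k l, symBlock i.1 (Φ.c k) = symBlock i.1 (Φ.c l) → k < l →
      Φ.lift w k < Φ.lift w l := by
    intro k l hkl hlt
    rcases eq_or_lt_of_le (Φ.mono hlt.le) with he | hlt'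
    · exact Φ.lift_mono w hw k l he hlt
    · have h1 := hi _ _ hkl hlt'
      rw [← Φ.lift_c w hw, ← Φ.lift_c w hw] at h1
      exact lt_of_not_ge fun hle => (Φ.mono hle).not_gt h1
  obtain ⟨v, hv, hc, hpv⟩ := exists_fibre_cell (monotone_block i.1) hasc hp'
  have hg : InBlockCell Φ.c (A.f g) (Φ.lift w * v) := by
    have h' := (hc.block Φ.mono).mul_left hp
    have e : p * (permGL n F (Φ.lift w) * (q * ((A.f h)⁻¹ * A.f g))) = A.f g := by
      rw [← mul_assoc, ← mul_assoc, ← he, ← mul_assoc, mul_inv_cancel, one_mul]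
    rwa [e] at h'
  set w' := A.cellOf (QuotientGroup.mk g) with hw'def
  have hw' : w' ∈ pairedPerms N := A.cellOf_mem _
  obtain ⟨s, t, hs, ht, hst⟩ := hg.unique' (A.inCell_cellOf g)
  have hrel : ∀ k, (w⁻¹ * w') (Φ.c k) = Φ.c (v (t k)) := by
    intro k
    rw [Equiv.Perm.mul_apply, ← Φ.lift_c w' hw', hw'def, hst, Equiv.Perm.mul_apply, Equiv.Perm.mul_apply,
      hs, Equiv.Perm.mul_apply, Φ.lift_c w hw]
    exact w.symm_apply_apply _
  have hpres : ∀ a, symBlock i.1 ((w⁻¹ * w') a) = symBlock i.1 a := by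
    intro a
    obtain ⟨k, rfl⟩ := Φ.surj a
    rw [hrel, hv, ht]
  have hv1 : w⁻¹ * w' ≠ 1 := by
    intro h1
    have hvc : ∀ k, Φ.c (v k) = Φ.c k := fun k => by
      have h2 := hrel (t⁻¹ k)
      have h3 := ht (t⁻¹ k)
      rw [show t (t⁻¹ k) = k from t.apply_symm_apply k] at h2 h3
      rw [← h2, h1, Equiv.Perm.one_apply, ← h3]
    have := mul_mem (inv_mem hq) (hpv.mem_triGroup Φ.mono hvc)
    rw [inv_mul_cancel_left] at this
    exact hyx (A.mk_eq_iff.mpr this).symm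
  have hlt := weight_lt (symBlock_mono i.1) hi hpres hv1
  rw [mul_inv_cancel_left] at hlt
  refine ⟨?_, hlt⟩
  rcases symRefl_only i.2 (mul_mem (inv_mem hw) hw') hpres with h1 | h1
  · exact absurd h1 hv1
  · rw [← h1, mul_inv_cancel_left]

theorem descent {x : G ⧸ A.B} (hx : ¬ ∃ u ∈ A.U, u • A.pt Fin.revPerm = x) :
    ∃ i, ∀ y, A.rel i x y → y ≠ x →
      ∑ k : Fin N, (k : ℕ) * (A.cellOf y k : ℕ) < ∑ k : Fin N, (k : ℕ) * (A.cellOf x k : ℕ) :=
  (A.descent_cell hx).imp fun _ h y hy hne => (h y hy hne).2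

/-- A root element for a pair of blocks forces an ascent in the cell of every fixed point of `U`. -/
theorem lt_of_fixed {g : G} (hfix : ∀ u ∈ A.U, A.f (g⁻¹ * u * g) ∈ triGroup Φ.c) {a b : Fin N}
    (hab : a < b) {r : GL (Fin n) F} (hr : r ∈ uniC Φ.c) (hiso : Φ.Iso r)
    (hne : ∃ i j, Φ.c i = a ∧ Φ.c j = b ∧ (r : Matrix (Fin n) (Fin n) F) i j ≠ 0)
    (hsmall : ∀ i j, a ≤ Φ.c i → Φ.c j ≤ b → ¬ (Φ.c i = a ∧ Φ.c j = b) →
      (r : Matrix (Fin n) (Fin n) F) i j = (1 : Matrix (Fin n) (Fin n) F) i j) :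
    (A.cellOf (QuotientGroup.mk g))⁻¹ a < (A.cellOf (QuotientGroup.mk g))⁻¹ b := by
  obtain ⟨u, rfl⟩ := A.range r hiso
  obtain ⟨p, hp, q, hq, he⟩ := A.inCell_cellOf g
  refine lt_of_root hab hp hq (Φ.lift_c _ (A.cellOf_mem _)) he hne hsmall ?_
  have := hfix u hr
  rwa [map_mul, map_mul, map_inv] at this

theorem mem_tri_of_cell_one {g : G} (h : A.cellOf (QuotientGroup.mk g) = 1) :
    A.f g ∈ triGroup Φ.c := by
  obtain ⟨p, hp, q, hq, he⟩ := A.inCell_cellOf g
  rw [h] at he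
  rw [he]
  exact mul_mem (mul_mem hp (permGL_mem_triGroup fun k => by
    rw [Φ.lift_c 1 (one_mem _), Equiv.Perm.one_apply])) hq

/-- The Steinberg character on a subgroup containing the radical. -/
theorem exists_character [Finite G] [Finite F] (p : ℕ) [Fact p.Prime] [CharP F p] (Hs : Subgroup G)
    (hU : A.U ≤ Hs)
    (hfix : ∀ h ∈ Hs, (∀ u ∈ A.U, A.f (h⁻¹ * u * h) ∈ triGroup Φ.c) → A.f h ∈ triGroup Φ.c)
    (htorus : ∀ h ∈ Hs, A.f h ∈ triGroup Φ.c → (∃ k, h ^ (p ^ k) = 1) → h ∈ A.U)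
    (hreach : ∀ φ : G ⧸ A.B → ℂ,
      (∀ (i : {a : ℕ // 2 * a + 2 ≤ N}) (x y₁ y₂ : G ⧸ A.B), y₁ ≠ y₂ →
        (∀ y, A.rel i x y ↔ y = y₁ ∨ y = y₂) → φ y₁ + φ y₂ = 0) →
      (∀ h ∈ Hs, φ (QuotientGroup.mk h) = 0) → φ = 0)
    {Q : Type*} [Group Q] (π : ↥Hs →* Q) (hπ : Function.Surjective π)
    (hcen : π.ker ≤ Subgroup.center ↥Hs) :
    ∃ χ : Q → ℂ, Cfsg.IsIrrCharacter Q χ ∧ ∀ P : Sylow p Q,
      χ 1 = (Nat.card P : ℂ) ∧ ∀ x : Q, x ∈ P → x ≠ 1 → χ x = 0 := by
  classical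
  have : Fintype (G ⧸ A.B) := Fintype.ofFinite _
  let S : Setup ↥Hs (G ⧸ A.B) :=
    { U := A.U.subgroupOf Hs
      base := QuotientGroup.mk 1
      fix := fun u hu => A.fix_base hu
      ι := {a : ℕ // 2 * a + 2 ≤ N}
      rel := A.rel
      rel_equiv := A.rel_equiv
      rel_smul := fun i g x y h => A.rel_smul i (g : G) h
      top := A.pt Fin.revPerm
      free := fun u hu h => Subtype.ext (A.smul_pt_rev hu h)
      rank := fun x => ∑ k : Fin N, (k : ℕ) * (A.cellOf x k : ℕ)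
      descent := fun x hx => A.descent fun ⟨u, hu, h⟩ => hx ⟨⟨u, hU hu⟩, hu, h⟩
      e := A.e
      e_sum := fun i x => A.e_sum i x
      e_supp := by
        intro u hu hne
        refine A.e_eq_zero fun w hw h => hne ?_
        have hh : (u : G) • A.pt Fin.revPerm = A.pt w := h
        have hu' : (u : G) ∈ A.U := hu
        have he := congrArg A.cellOf hh
        rw [A.cellOf_smul_top hu', A.cellOf_pt hw] at he
        subst he
        exact Subtype.ext (A.smul_pt_rev hu' hh)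
      e_top := by rw [A.e_pt revPerm_mem]; exact pairedSgn_ne revPerm_mem
      reach := fun φ hφ h0 => hreach φ (fun i x y₁ y₂ hne hy => by
        have h := hφ i x
        rw [← Finset.sum_subset (Finset.subset_univ {y₁, y₂}), Finset.sum_pair hne,
          if_pos ((hy _).mpr (Or.inl rfl)), if_pos ((hy _).mpr (Or.inr rfl))] at h
        · exact h
        · intro y _ hy'
          simp only [Finset.mem_insert, Finset.mem_singleton] at hy'
          rw [if_neg (fun hr => hy' ((hy y).mp hr))]) fun h hh => by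
        have h1 := h0 ⟨h, hh⟩
        rwa [show (⟨h, hh⟩ : Hs) • (QuotientGroup.mk 1 : G ⧸ A.B) = QuotientGroup.mk h from by
          show h • (QuotientGroup.mk 1 : G ⧸ A.B) = _
          rw [MulAction.Quotient.smul_mk, smul_eq_mul, mul_one]] at h1 }
  have hfix' : ∀ h : Hs, (∀ u ∈ A.U.subgroupOf Hs, h⁻¹ * u * h ∈ A.U.subgroupOf Hs) →
      A.f h ∈ triGroup Φ.c := fun h hh => hfix h h.2 fun u hu => uniC_le (hh ⟨u, hU hu⟩ hu)
  -- the radical is a Sylow subgroup
  have hpU : IsPGroup p (A.U.subgroupOf Hs) := by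
    have : Fintype F := Fintype.ofFinite F
    have h1 : IsPGroup p (uniC Φ.c : Subgroup (GL (Fin n) F)) :=
      ((AutPSL.isPGroup_uniTri (F := F) (n := n) p).map _).to_le (uniC_le_uni Φ.mono)
    exact (h1.comap_of_injective A.f A.inj).comap_of_injective Hs.subtype Hs.subtype_injective
  obtain ⟨P, hP⟩ := hpU.exists_le_sylow
  have hPU : (P : Subgroup Hs) = A.U.subgroupOf Hs := by
    refine (le_antisymm hP ?_).symm
    by_contra hne
    have hlt : (A.U.subgroupOf Hs).subgroupOf P < ⊤ :=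
      lt_top_iff_ne_top.mpr fun h => hne (Subgroup.subgroupOf_eq_top.mp h)
    have : Group.IsNilpotent (P : Subgroup Hs) := P.2.isNilpotent
    have hN := Group.normalizerCondition_of_isNilpotent (G := (P : Subgroup Hs)) _ hlt
    obtain ⟨x, hxN, hxU⟩ := SetLike.exists_of_lt hN
    refine hxU (Subgroup.mem_subgroupOf.mpr (htorus _ (x : Hs).2 (hfix' _ fun u hu => ?_) ?_))
    · have hu' : (⟨u, hP hu⟩ : (P : Subgroup Hs)) ∈ (A.U.subgroupOf Hs).subgroupOf P := hu
      have hconj := (Subgroup.mem_normalizer_iff.mp (inv_mem hxN) _).mp hu'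
      rw [Subgroup.mem_subgroupOf] at hconj
      simpa using hconj
    · obtain ⟨k, hk⟩ := P.2 x
      exact ⟨k, congrArg (fun y : (P : Subgroup Hs) => ((y : Hs) : G)) hk⟩
  refine S.exists_quotient_character p P hPU π hπ fun z hz => ⟨hcen hz, ?_⟩
  have hzc := Subgroup.mem_center_iff.mp (hcen hz)
  have hzt : A.f (z : G) ∈ triGroup Φ.c := hfix' z fun u hu => by
    rw [mul_assoc, hzc u, ← mul_assoc, inv_mul_cancel, one_mul]
    exact hu
  show (z : G) • (QuotientGroup.mk 1 : G ⧸ A.B) = QuotientGroup.mk 1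
  rw [MulAction.Quotient.smul_mk, mk_eq_iff, smul_eq_mul, mul_one, map_one, mul_one]
  exact inv_mem hzt

end OrthFrame

end CfsgLib.SteinbergChar
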