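import Cfsg.Agent.Lib.SteinbergChar.Blocks

/-!
Permutations commuting with the reversal of `Fin n`: symmetric block systems, reflections, and
the sign character equal to minus one on every reflection.
-/

set_option autoImplicit false

open Finset

namespace CfsgLib.SteinbergChar

variable {n : ℕ}

/-- The permutations commuting with the reversal. -/
def pairedPerms (n : ℕ) : Subgroup (Equiv.Perm (Fin n)) where
  carrier := {w | ∀ x, w (Fin.rev x) = Fin.rev (w x)}
  mul_mem' := fun {a} {b} ha hb x => by simp [hb x, ha (b x)]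
  one_mem' := fun x => rfl
  inv_mem' := fun {a} ha x => by
    apply a.injective
    rw [ha]
    simp

theorem mem_pairedPerms {w : Equiv.Perm (Fin n)} :
    w ∈ pairedPerms n ↔ ∀ x, w (Fin.rev x) = Fin.rev (w x) := Iff.rfl

theorem revPerm_mem : Fin.revPerm ∈ pairedPerms n := fun x => by simp

/-- The smaller representative of a pair. -/
def pairRep (x : Fin n) : {i : Fin n // i ≤ Fin.rev i} :=
  if h : x ≤ Fin.rev x then ⟨x, h⟩ else ⟨Fin.rev x, by rw [Fin.rev_rev]; exact (le_of_not_ge h)⟩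

theorem pairRep_coe (q : {i : Fin n // i ≤ Fin.rev i}) : pairRep q.1 = q := by
  rw [pairRep, dif_pos q.2]

theorem pairRep_rev (x : Fin n) : pairRep (Fin.rev x) = pairRep x := by
  apply Subtype.ext
  simp only [pairRep, Fin.rev_rev]
  split_ifs with h1 h2
  · exact le_antisymm h1 h2
  · rfl
  · rfl
  · exact absurd (le_of_not_ge h1) ‹_›

theorem pairRep_apply {w : Equiv.Perm (Fin n)} (hw : w ∈ pairedPerms n) (x : Fin n) :
    pairRep (w (pairRep x).1) = pairRep (w x) := by
  by_cases h : x ≤ Fin.rev x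
  · simp [pairRep, h]
  · rw [show (pairRep x).1 = Fin.rev x from by simp [pairRep, h], hw, pairRep_rev]

/-- The action on pairs. -/
def pairHom (n : ℕ) : pairedPerms n →* Equiv.Perm {i : Fin n // i ≤ Fin.rev i} where
  toFun w :=
    { toFun := fun q => pairRep (w.1 q.1)
      invFun := fun q => pairRep ((w.1)⁻¹ q.1)
      left_inv := fun q => by
        show pairRep ((w.1)⁻¹ (pairRep (w.1 q.1)).1) = q
        rw [pairRep_apply (inv_mem w.2)]
        simp [pairRep_coe]
      right_inv := fun q => by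
        show pairRep (w.1 (pairRep ((w.1)⁻¹ q.1)).1) = q
        rw [pairRep_apply w.2]
        simp [pairRep_coe] }
  map_one' := Equiv.ext fun q => pairRep_coe q
  map_mul' a b := Equiv.ext fun q => by
    show pairRep (a.1 (b.1 q.1)) = pairRep (a.1 (pairRep (b.1 q.1)).1)
    rw [pairRep_apply a.2]

theorem pairHom_apply (w : pairedPerms n) (q : {i : Fin n // i ≤ Fin.rev i}) :
    pairHom n w q = pairRep (w.1 q.1) := rfl

/-- The character equal to minus one on each reflection. -/
noncomputable def pairedSgn (w : Equiv.Perm (Fin n)) : ℂ :=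
  open Classical in
  if h : w ∈ pairedPerms n then
    ((Equiv.Perm.sign w * Equiv.Perm.sign (pairHom n ⟨w, h⟩) : ℤˣ) : ℤ)
  else 0

theorem pairedSgn_ne {w : Equiv.Perm (Fin n)} (h : w ∈ pairedPerms n) : pairedSgn w ≠ 0 := by
  rw [pairedSgn, dif_pos h]
  exact Int.cast_ne_zero.mpr (Units.ne_zero _)

/-- The symmetric block labelling of the pairs at `a` and at its mirror. -/
def symBlock (a : ℕ) (k : Fin n) : ℕ :=
  (k : ℕ) - (if a < (k : ℕ) then 1 else 0) -
    (if n - 2 - a < (k : ℕ) ∧ a < n - 2 - a then 1 else 0)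

theorem symBlock_mono (a : ℕ) : Monotone (symBlock (n := n) a) := by
  intro i j hij
  have : (i : ℕ) ≤ (j : ℕ) := hij
  simp only [symBlock]
  split_ifs <;> omega

/-- The reflection belonging to `symBlock a`. -/
def symReflFun {a : ℕ} (ha : 2 * a + 2 ≤ n) (k : Fin n) : Fin n :=
  if n ≤ 2 * a + 3 then
    (if (k : ℕ) = a then ⟨n - 1 - a, by omega⟩ else if (k : ℕ) = n - 1 - a then ⟨a, by omega⟩ else k)
  else
    (if (k : ℕ) = a then ⟨a + 1, by omega⟩ else if (k : ℕ) = a + 1 then ⟨a, by omega⟩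
      else if (k : ℕ) = n - 1 - a then ⟨n - 2 - a, by omega⟩
      else if (k : ℕ) = n - 2 - a then ⟨n - 1 - a, by omega⟩ else k)

theorem symReflFun_val {a : ℕ} (ha : 2 * a + 2 ≤ n) (k : Fin n) :
    (symReflFun ha k : ℕ) = if n ≤ 2 * a + 3 then
      (if (k : ℕ) = a then n - 1 - a else if (k : ℕ) = n - 1 - a then a else (k : ℕ))
    else
      (if (k : ℕ) = a then a + 1 else if (k : ℕ) = a + 1 then a
        else if (k : ℕ) = n - 1 - a then n - 2 - a
        else if (k : ℕ) = n - 2 - a then n - 1 - a else (k : ℕ)) := by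
  unfold symReflFun
  split_ifs <;> rfl

theorem symReflFun_involutive {a : ℕ} (ha : 2 * a + 2 ≤ n) :
    Function.Involutive (symReflFun ha) := fun k => by
  apply Fin.ext
  rw [symReflFun_val, symReflFun_val]
  split_ifs <;> omega

/-- The reflection as a permutation. -/
def symRefl {a : ℕ} (ha : 2 * a + 2 ≤ n) : Equiv.Perm (Fin n) :=
  (symReflFun_involutive ha).toPerm _

theorem symRefl_val {a : ℕ} (ha : 2 * a + 2 ≤ n) (k : Fin n) :
    (symRefl ha k : ℕ) = if n ≤ 2 * a + 3 then
      (if (k : ℕ) = a then n - 1 - a else if (k : ℕ) = n - 1 - a then a else (k : ℕ))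
    else
      (if (k : ℕ) = a then a + 1 else if (k : ℕ) = a + 1 then a
        else if (k : ℕ) = n - 1 - a then n - 2 - a
        else if (k : ℕ) = n - 2 - a then n - 1 - a else (k : ℕ)) := symReflFun_val ha k

theorem symRefl_mem {a : ℕ} (ha : 2 * a + 2 ≤ n) : symRefl ha ∈ pairedPerms n := fun x => by
  apply Fin.ext
  have := x.2
  rw [symRefl_val, Fin.val_rev, Fin.val_rev, symRefl_val]
  split_ifs <;> omega

theorem symRefl_pres {a : ℕ} (ha : 2 * a + 2 ≤ n) (k : Fin n) :
    symBlock a (symRefl ha k) = symBlock a k := by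
  have := k.2
  simp only [symBlock, symRefl_val]
  split_ifs <;> omega

theorem symRefl_ne {a : ℕ} (ha : 2 * a + 2 ≤ n) : symRefl ha ≠ 1 := fun h => by
  have := congrArg Fin.val (Equiv.congr_fun h ⟨a, by omega⟩)
  rw [symRefl_val, Equiv.Perm.one_apply] at this
  simp only at this
  split_ifs at this <;> omega

/-- The symmetric block preserving elements fixing the first point of the first pair are trivial. -/
theorem eq_one_of_fix {a : ℕ} (ha : 2 * a + 2 ≤ n) {v : Equiv.Perm (Fin n)}
    (hv : v ∈ pairedPerms n) (hb : ∀ k, symBlock a (v k) = symBlock a k)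
    (hfix : v ⟨a, by omega⟩ = ⟨a, by omega⟩) : v = 1 := by
  set x : Fin n := ⟨a, by omega⟩ with hx
  have hrx : v (Fin.rev x) = Fin.rev x := by rw [hv, hfix]
  refine Equiv.ext fun k => Fin.ext ?_
  rw [Equiv.Perm.one_apply]
  by_contra hne
  have h1 : v k ≠ x := fun h => hne (by rw [h, show k = x from v.injective (h.trans hfix.symm)])
  have h2 : v k ≠ Fin.rev x := fun h => hne (by
    rw [h, show k = Fin.rev x from v.injective (h.trans hrx.symm)])
  have h3 : k ≠ x := fun h => hne (by rw [h, hfix])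
  have h4 : k ≠ Fin.rev x := fun h => hne (by rw [h, hrx])
  have h5 := hb k
  have h6 := k.2
  have h7 := (v k).2
  simp only [ne_eq, Fin.ext_iff, Fin.val_rev, hx] at h1 h2 h3 h4
  simp only [symBlock] at h5
  split_ifs at h5 <;> omega

theorem symRefl_only {a : ℕ} (ha : 2 * a + 2 ≤ n) {v : Equiv.Perm (Fin n)}
    (hv : v ∈ pairedPerms n) (hb : ∀ k, symBlock a (v k) = symBlock a k) :
    v = 1 ∨ v = symRefl ha := by
  by_cases hfix : v ⟨a, by omega⟩ = ⟨a, by omega⟩
  · exact Or.inl (eq_one_of_fix ha hv hb hfix)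
  right
  set x : Fin n := ⟨a, by omega⟩ with hx
  have hsx : v x = symRefl ha x := by
    apply Fin.ext
    have h5 := hb x
    have h7 := (v x).2
    have h8 : (v x : ℕ) ≠ a := fun h => hfix (Fin.ext h)
    have h9 : (v (Fin.rev x) : ℕ) = n - ((v x : ℕ) + 1) := by rw [hv, Fin.val_rev]
    rw [symRefl_val]
    simp only [hx] at h5 h7 h8 h9 ⊢
    simp only [symBlock] at h5
    by_cases hodd : n = 2 * a + 3
    · have hm : ((v ⟨a + 1, by omega⟩ : Fin n) : ℕ) = a + 1 := by
        have h10 := congrArg Fin.val (hv ⟨a + 1, by omega⟩)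
        rw [show Fin.rev (⟨a + 1, by omega⟩ : Fin n) = ⟨a + 1, by omega⟩ from
          Fin.ext (by rw [Fin.val_rev]; simp only; omega), Fin.val_rev] at h10
        omega
      have h11 : (v x : ℕ) ≠ a + 1 := fun h => by
        have := congrArg Fin.val (v.injective (Fin.ext (h.trans hm.symm) :
          v x = v ⟨a + 1, by omega⟩))
        simp [hx] at this
      simp only [hx] at h11
      split_ifs at h5 ⊢ <;> omega
    · split_ifs at h5 ⊢ <;> omega
  have h2 : symRefl ha * v = 1 := by
    refine eq_one_of_fix ha (mul_mem (symRefl_mem ha) hv) (fun k => ?_) ?_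
    · rw [Equiv.Perm.mul_apply, symRefl_pres, hb]
    · rw [Equiv.Perm.mul_apply, hsx]
      exact symReflFun_involutive ha x
  rw [← inv_eq_of_mul_eq_one_right h2]
  exact Function.Involutive.toPerm_symm (symReflFun_involutive ha)

theorem pairedSgn_refl {a : ℕ} (ha : 2 * a + 2 ≤ n) {w : Equiv.Perm (Fin n)}
    (hw : w ∈ pairedPerms n) : pairedSgn (w * symRefl ha) = - pairedSgn w := by
  classical
  have hkey : Equiv.Perm.sign (symRefl ha) *
      Equiv.Perm.sign (pairHom n ⟨symRefl ha, symRefl_mem ha⟩) = -1 := by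
    by_cases hc : n ≤ 2 * a + 3
    · have h1 : symRefl ha = Equiv.swap ⟨a, by omega⟩ ⟨n - 1 - a, by omega⟩ := Equiv.ext fun k => by
        apply Fin.ext
        rw [symRefl_val, if_pos hc, Equiv.swap_apply_def]
        simp only [Fin.ext_iff]
        split_ifs <;> rfl
      have h2 : pairHom n ⟨symRefl ha, symRefl_mem ha⟩ = 1 := Equiv.ext fun q => by
        rw [pairHom_apply, Equiv.Perm.one_apply]
        by_cases hq : (q.1 : ℕ) = a ∨ (q.1 : ℕ) = n - 1 - a
        · have : symRefl ha q.1 = Fin.rev q.1 := Fin.ext (by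
            rw [symRefl_val, Fin.val_rev, if_pos hc]
            split_ifs <;> omega)
          rw [this, pairRep_rev, pairRep_coe]
        · have : symRefl ha q.1 = q.1 := Fin.ext (by
            rw [symRefl_val, if_pos hc]
            split_ifs <;> omega)
          rw [this, pairRep_coe]
      rw [h2, map_one, mul_one, h1, Equiv.Perm.sign_swap]
      simp [Fin.ext_iff]; omega
    · rw [not_le] at hc
      have h1 : symRefl ha = Equiv.swap ⟨a, by omega⟩ ⟨a + 1, by omega⟩ *
          Equiv.swap ⟨n - 1 - a, by omega⟩ ⟨n - 2 - a, by omega⟩ := Equiv.ext fun k => by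
        apply Fin.ext
        rw [symRefl_val, if_neg (by omega), Equiv.Perm.mul_apply, Equiv.swap_apply_def,
          Equiv.swap_apply_def]
        simp only [Fin.ext_iff, apply_ite Fin.val]
        split_ifs <;> omega
      have hmem : ∀ b : ℕ, ∀ hb : b < n, 2 * b + 1 ≤ n → (⟨b, hb⟩ : Fin n) ≤ Fin.rev ⟨b, hb⟩ := by
        intro b hb h
        rw [Fin.le_def, Fin.val_rev]
        simp only
        omega
      have h2 : pairHom n ⟨symRefl ha, symRefl_mem ha⟩ =
          Equiv.swap ⟨⟨a, by omega⟩, hmem a (by omega) (by omega)⟩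
            ⟨⟨a + 1, by omega⟩, hmem (a + 1) (by omega) (by omega)⟩ := Equiv.ext fun q => by
        rw [pairHom_apply]
        have hq : (q.1 : ℕ) ≤ (Fin.rev q.1 : ℕ) := q.2
        rw [Fin.val_rev] at hq
        have hle : symRefl ha q.1 ≤ Fin.rev (symRefl ha q.1) := by
          rw [Fin.le_def, Fin.val_rev, symRefl_val, if_neg (by omega)]
          split_ifs <;> omega
        rw [pairRep, dif_pos hle, Equiv.swap_apply_def]
        apply Subtype.ext
        apply Fin.ext
        rw [symRefl_val, if_neg (by omega)]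
        simp only [Subtype.ext_iff, Fin.ext_iff, apply_ite Subtype.val, apply_ite Fin.val]
        split_ifs <;> omega
      rw [h2, h1, map_mul, Equiv.Perm.sign_swap, Equiv.Perm.sign_swap, Equiv.Perm.sign_swap]
      · rfl
      all_goals simp [Fin.ext_iff]
      all_goals omega
  have hm : w * symRefl ha ∈ pairedPerms n := mul_mem hw (symRefl_mem ha)
  have : (⟨w * symRefl ha, hm⟩ : pairedPerms n) = ⟨w, hw⟩ * ⟨symRefl ha, symRefl_mem ha⟩ := rfl
  rw [pairedSgn, dif_pos hm, pairedSgn, dif_pos hw, this, map_mul, map_mul, map_mul,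
    mul_mul_mul_comm, hkey]
  simp

theorem symBlock_eq {a : ℕ} (ha : 2 * a + 2 ≤ n) {k l : Fin n}
    (h : symBlock a k = symBlock a l) (hkl : (k : ℕ) < (l : ℕ)) :
    ((k : ℕ) = a ∧ (l : ℕ) = a + 1) ∨ ((k : ℕ) = n - 2 - a ∧ (l : ℕ) = n - 2 - a + 1) ∨
      (n = 2 * a + 3 ∧ (k : ℕ) = a ∧ (l : ℕ) = a + 2) := by
  simp only [symBlock] at h
  split_ifs at h <;> omega

theorem symBlock_desc {w : Equiv.Perm (Fin n)} (hw : w ∈ pairedPerms n) (hne : w ≠ Fin.revPerm) :
    ∃ a : {a : ℕ // 2 * a + 2 ≤ n}, ∀ k l, symBlock a.1 k = symBlock a.1 l → k < l → w k < w l := by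
  obtain ⟨i, j, hij, hlt⟩ := exists_ascent hne
  have hj := j.2
  have hsym : w (Fin.rev j) < w (Fin.rev i) := by
    rw [hw, hw]
    exact Fin.rev_lt_rev.mpr hlt
  have key : ∀ x y : Fin n, (y : ℕ) = (x : ℕ) + 1 → 2 * (x : ℕ) + 2 ≤ n → w x < w y →
      w (Fin.rev y) < w (Fin.rev x) →
      ∃ a : {a : ℕ // 2 * a + 2 ≤ n}, ∀ k l, symBlock a.1 k = symBlock a.1 l → k < l → w k < w l := by
    intro x y hxy hx h1 h2
    refine ⟨⟨x, hx⟩, fun k l hkl hklt => ?_⟩
    rcases symBlock_eq hx hkl hklt with ⟨e1, e2⟩ | ⟨e1, e2⟩ | ⟨e0, e1, e2⟩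
    · rwa [Fin.ext e1, Fin.ext (e2.trans hxy.symm)]
    · rw [show k = Fin.rev y from Fin.ext (by rw [Fin.val_rev]; omega),
        show l = Fin.rev x from Fin.ext (by rw [Fin.val_rev]; omega)]
      exact h2
    · have hm : Fin.rev y = y := Fin.ext (by rw [Fin.val_rev]; omega)
      rw [Fin.ext e1, show l = Fin.rev x from Fin.ext (by rw [Fin.val_rev]; omega)]
      exact h1.trans (hm ▸ h2)
  by_cases hi : 2 * (i : ℕ) + 2 ≤ n
  · exact key i j hij hi hlt hsym
  · refine key (Fin.rev j) (Fin.rev i) ?_ ?_ hsym ?_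
    · rw [Fin.val_rev, Fin.val_rev]; omega
    · rw [Fin.val_rev]; omega
    · rwa [Fin.rev_rev, Fin.rev_rev]

end CfsgLib.SteinbergChar
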