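import Cfsg.Agent.Lib.SteinbergChar.BlockCells
import Cfsg.Agent.Lib.SteinbergChar.Paired
import Mathlib.LinearAlgebra.QuadraticForm.Basic

/-!
A quadratic form in adapted coordinates: singular coordinates, at most one self-paired block with
anisotropic form, and the cells of its isometries.
-/

set_option autoImplicit false

open Matrix Finset CfsgLib.GLFlags QuadraticMap

namespace CfsgLib.SteinbergChar

variable {n N : ℕ} {F : Type*} [Field F]

/-- Coordinates adapted to a quadratic form. -/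
structure OrthModel (n N : ℕ) (F : Type*) [Field F] where
  Q : QuadraticForm F (Fin n → F)
  c : Fin n → Fin N
  mono : Monotone c
  surj : Function.Surjective c
  c_rev : ∀ k, c (Fin.rev k) = Fin.rev (c k)
  single : ∀ k l, c k = c l → Fin.rev (c k) ≠ c k → k = l
  D : GL (Fin n) F
  D_block : ∀ i j, (D : Matrix (Fin n) (Fin n) F) i j ≠ 0 → c i = c j
  polar_eq : ∀ x y, polar (⇑Q) x y = ∑ i, x (Fin.rev i) * ((D : Matrix (Fin n) (Fin n) F) *ᵥ y) i
  low : ∀ x : Fin n → F, (∀ k, x k ≠ 0 → c k < Fin.rev (c k)) → Q x = 0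
  aniso : ∀ x : Fin n → F, (∀ k, x k ≠ 0 → c k ≤ Fin.rev (c k)) → Q x = 0 →
    ∀ k, x k ≠ 0 → c k < Fin.rev (c k)
  lift : Equiv.Perm (Fin N) → Equiv.Perm (Fin n)
  lift_c : ∀ w ∈ pairedPerms N, ∀ k, c (lift w k) = w (c k)
  lift_mono : ∀ w ∈ pairedPerms N, ∀ k l, c k = c l → k < l → lift w k < lift w l
  lift_iso : ∀ w ∈ pairedPerms N, ∀ x : Fin n → F,
    Q ((permGL n F (lift w) : Matrix (Fin n) (Fin n) F) *ᵥ x) = Q x

namespace OrthModel

variable (Φ : OrthModel n N F)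

/-- The isometries of the form. -/
def Iso (g : GL (Fin n) F) : Prop := ∀ x, Φ.Q ((g : Matrix (Fin n) (Fin n) F) *ᵥ x) = Φ.Q x

theorem supp_mulVec {p : GL (Fin n) F} (hp : p ∈ triGroup Φ.c) {x : Fin n → F} {k : Fin n}
    (h : ((p : Matrix (Fin n) (Fin n) F) *ᵥ x) k ≠ 0) : ∃ l, x l ≠ 0 ∧ Φ.c k ≤ Φ.c l := by
  by_contra hc
  push Not at hc
  refine h (show (∑ l, (p : Matrix (Fin n) (Fin n) F) k l * x l) = 0 from Finset.sum_eq_zero fun l _ => ?_)
  by_cases hl : x l = 0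
  · simp [hl]
  · exact mul_eq_zero_of_left (hp (hc l hl)) _

theorem low_mulVec {p : GL (Fin n) F} (hp : p ∈ triGroup Φ.c) {x : Fin n → F}
    (hx : ∀ k, x k ≠ 0 → Φ.c k < Fin.rev (Φ.c k)) (k : Fin n)
    (h : ((p : Matrix (Fin n) (Fin n) F) *ᵥ x) k ≠ 0) : Φ.c k < Fin.rev (Φ.c k) := by
  obtain ⟨l, hl, hkl⟩ := Φ.supp_mulVec hp h
  exact (hkl.trans_lt (hx l hl)).trans_le (Fin.rev_le_rev.mpr hkl)

theorem D_mem : Φ.D ∈ triGroup Φ.c := fun i j hij => by
  by_contra h
  exact hij.ne' (Φ.D_block i j h)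

/-- The anti-transpose. -/
def star (A : Matrix (Fin n) (Fin n) F) : Matrix (Fin n) (Fin n) F :=
  Matrix.of fun i j => A (Fin.rev j) (Fin.rev i)

theorem star_mul (A B : Matrix (Fin n) (Fin n) F) : star (A * B) = star B * star A := by
  ext i j
  simp only [star, Matrix.of_apply, Matrix.mul_apply]
  rw [← Equiv.sum_comp Fin.revPerm]
  exact Finset.sum_congr rfl fun k _ => by simp [mul_comm]

theorem star_one : star (1 : Matrix (Fin n) (Fin n) F) = 1 := by
  ext i j
  by_cases h : i = j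
  · subst h; simp [star]
  · rw [Matrix.one_apply_ne h]
    exact Matrix.one_apply_ne fun h' => h (Fin.rev_injective h').symm

/-- The inverse anti-transpose. -/
def starInv : GL (Fin n) F →* GL (Fin n) F where
  toFun g := ⟨star ((g⁻¹ : GL (Fin n) F) : Matrix (Fin n) (Fin n) F), star (g : Matrix (Fin n) (Fin n) F),
    by rw [← star_mul, Units.mul_inv, star_one], by rw [← star_mul, Units.inv_mul, star_one]⟩
  map_one' := Units.ext (by simp [star_one])
  map_mul' g h := Units.ext (by simp [_root_.mul_inv_rev, star_mul])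

theorem starInv_apply (g : GL (Fin n) F) (i j : Fin n) :
    (starInv g : Matrix (Fin n) (Fin n) F) i j =
      ((g⁻¹ : GL (Fin n) F) : Matrix (Fin n) (Fin n) F) (Fin.rev j) (Fin.rev i) := rfl

theorem starInv_bor {g : GL (Fin n) F} (hg : g ∈ bor n F) : starInv g ∈ bor n F := by
  intro i j hij
  rw [starInv_apply]
  exact (inv_mem hg : g⁻¹ ∈ bor n F) (show id (Fin.rev i) < id (Fin.rev j) from Fin.rev_lt_rev.mpr hij)

theorem starInv_tri {g : GL (Fin n) F} (hg : g ∈ triGroup Φ.c) : starInv g ∈ triGroup Φ.c := by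
  intro i j hij
  rw [starInv_apply]
  exact (inv_mem hg : g⁻¹ ∈ triGroup Φ.c)
    (show Φ.c (Fin.rev i) < Φ.c (Fin.rev j) by rw [Φ.c_rev, Φ.c_rev]; exact Fin.rev_lt_rev.mpr hij)

theorem starInv_uniC {g : GL (Fin n) F} (hg : g ∈ uniC Φ.c) : starInv g ∈ uniC Φ.c := by
  refine ⟨Φ.starInv_tri (uniC_le hg), fun i j h => ?_⟩
  rw [starInv_apply, (inv_mem hg : g⁻¹ ∈ uniC Φ.c).2 _ _ (by rw [Φ.c_rev, Φ.c_rev, h]),
    Matrix.one_apply, Matrix.one_apply]
  exact if_congr ⟨fun h' => (Fin.rev_injective h').symm, fun h' => by rw [h']⟩ rfl rfl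

theorem starInv_perm (σ : Equiv.Perm (Fin n)) :
    starInv (permGL n F σ) = permGL n F (Fin.revPerm * σ * Fin.revPerm) := by
  refine Units.ext (Matrix.ext fun i j => ?_)
  rw [starInv_apply, ← map_inv, permGL_apply, permGL_apply]
  refine if_congr ?_ rfl rfl
  rw [Equiv.Perm.inv_eq_iff_eq]
  simp only [Equiv.Perm.mul_apply, Fin.revPerm_apply]
  exact ⟨fun h => by rw [← h, Fin.rev_rev], fun h => by rw [← h, Fin.rev_rev]⟩

/-- Isometries preserve the polar form. -/
theorem polar_iso {g : GL (Fin n) F} (hg : Φ.Iso g) (x y : Fin n → F) :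
    polar (⇑Φ.Q) ((g : Matrix (Fin n) (Fin n) F) *ᵥ x) ((g : Matrix (Fin n) (Fin n) F) *ᵥ y) =
      polar (⇑Φ.Q) x y := by
  simp only [polar, ← Matrix.mulVec_add, hg _]

theorem starInv_eq {g : GL (Fin n) F}
    (hg : ∀ x y, polar (⇑Φ.Q) ((g : Matrix (Fin n) (Fin n) F) *ᵥ x) ((g : Matrix (Fin n) (Fin n) F) *ᵥ y) =
      polar (⇑Φ.Q) x y) :
    starInv g = Φ.D * g * Φ.D⁻¹ := by
  have h : star (g : Matrix (Fin n) (Fin n) F) * (Φ.D : Matrix (Fin n) (Fin n) F) * g = Φ.D := by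
    ext a b
    have e := hg (Pi.single (Fin.rev a) 1) (Pi.single b 1)
    rw [Φ.polar_eq, Φ.polar_eq, Matrix.mulVec_mulVec] at e
    simp only [Matrix.mulVec_single_one, Matrix.col_apply] at e
    have e2 : ∑ i, (Pi.single (Fin.rev a) (1 : F) : Fin n → F) (Fin.rev i) *
        (Φ.D : Matrix (Fin n) (Fin n) F) i b = (Φ.D : Matrix (Fin n) (Fin n) F) a b := by
      rw [Finset.sum_eq_single a (fun i _ hi => by
        rw [Pi.single_eq_of_ne (fun h => hi (Fin.rev_injective h)), zero_mul]) (by simp),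
        Pi.single_eq_same, one_mul]
    rw [e2] at e
    rw [← e, Matrix.mul_assoc, Matrix.mul_apply]
    rfl
  have h' : (starInv g)⁻¹ * Φ.D * g = Φ.D := Units.ext h
  have h'' : starInv g = starInv g * ((starInv g)⁻¹ * Φ.D * g) * Φ.D⁻¹ := by rw [h']; group
  rw [h'']; group

theorem starInv_iso {g : GL (Fin n) F} (hg : Φ.Iso g) : starInv g = Φ.D * g * Φ.D⁻¹ :=
  Φ.starInv_eq (Φ.polar_iso hg)

theorem polar_of_starInv {u : GL (Fin n) F} (h : starInv u = Φ.D * u * Φ.D⁻¹) (x y : Fin n → F) :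
    polar (⇑Φ.Q) ((u : Matrix (Fin n) (Fin n) F) *ᵥ x) ((u : Matrix (Fin n) (Fin n) F) *ᵥ y) =
      polar (⇑Φ.Q) x y := by
  have hM : star (u : Matrix (Fin n) (Fin n) F) * ((Φ.D : Matrix (Fin n) (Fin n) F) * u) = Φ.D := by
    have e : (starInv u)⁻¹ * (Φ.D * u) = Φ.D := by rw [h]; group
    exact congrArg Units.val e
  rw [Φ.polar_eq, Φ.polar_eq, Matrix.mulVec_mulVec]
  conv_rhs => rw [← hM, ← Matrix.mulVec_mulVec]
  generalize ((Φ.D : Matrix (Fin n) (Fin n) F) * (u : Matrix (Fin n) (Fin n) F)) *ᵥ y = z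
  simp only [Matrix.mulVec, dotProduct, Finset.mul_sum, Finset.sum_mul, star, Matrix.of_apply]
  rw [Finset.sum_comm, ← Equiv.sum_comp Fin.revPerm]
  refine Finset.sum_congr rfl fun k _ => Finset.sum_congr rfl fun i _ => ?_
  simp only [Fin.revPerm_apply]
  ring

/-- No singular column has its pivot in the self-paired block. -/
theorem nonmid (Q' : (Fin n → F) → F)
    (hlow : ∀ x : Fin n → F, (∀ k, x k ≠ 0 → Φ.c k < Fin.rev (Φ.c k)) → Q' x = 0)
    (haniso : ∀ x : Fin n → F, (∀ k, x k ≠ 0 → Φ.c k ≤ Fin.rev (Φ.c k)) → Q' x = 0 →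
      ∀ k, x k ≠ 0 → Φ.c k < Fin.rev (Φ.c k))
    {g : GL (Fin n) F} (hg : ∀ x, Q' ((g : Matrix (Fin n) (Fin n) F) *ᵥ x) = Q' x)
    {σ : Equiv.Perm (Fin n)} (hσ : InCell g σ) {k : Fin n} (hk : Φ.c k < Fin.rev (Φ.c k)) :
    Fin.rev (Φ.c (σ k)) ≠ Φ.c (σ k) := by
  obtain ⟨p, hp, q, hq, rfl⟩ := hσ
  intro hmid
  set y := ((q⁻¹ : GL (Fin n) F) : Matrix (Fin n) (Fin n) F) *ᵥ Pi.single k 1
  have hy : Q' y = 0 := hlow y fun i hi =>
    Φ.low_mulVec (bor_le Φ.mono (inv_mem hq)) (fun l hl => by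
      rcases eq_or_ne l k with rfl | hne
      · exact hk
      · simp [hne] at hl) i hi
  set v := ((p * permGL n F σ * q : GL (Fin n) F) : Matrix (Fin n) (Fin n) F) *ᵥ y with hv
  have hv' : ∀ i, v i = (p : Matrix (Fin n) (Fin n) F) i (σ k) := fun i => by
    rw [hv, Matrix.mulVec_mulVec, ← Units.val_mul, mul_inv_cancel_right, Units.val_mul,
      Matrix.mulVec_single_one, Matrix.col_apply, mul_permGL]
  have hsupp : ∀ i, v i ≠ 0 → Φ.c i ≤ Fin.rev (Φ.c i) := fun i hi => by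
    rw [hv'] at hi
    have hle : Φ.c i ≤ Φ.c (σ k) := Φ.mono (not_lt.mp fun h => hi (hp h))
    calc Φ.c i ≤ Φ.c (σ k) := hle
      _ = Fin.rev (Φ.c (σ k)) := hmid.symm
      _ ≤ Fin.rev (Φ.c i) := Fin.rev_le_rev.mpr hle
  have hne : v (σ k) ≠ 0 := by
    rw [hv']
    intro h0
    have h := (Matrix.GeneralLinearGroup.det p).ne_zero
    rw [Matrix.GeneralLinearGroup.val_det_apply, Matrix.det_of_isUpperTriangular hp] at h
    exact h (Finset.prod_eq_zero (Finset.mem_univ _) h0)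
  have hlt := haniso v hsupp (by rw [hv, hg, hy]) _ hne
  rw [hmid] at hlt
  exact lt_irrefl _ hlt

/-- Every isometry lies in the cell of a permutation commuting with the reversal. -/
theorem exists_cell {g : GL (Fin n) F} (hg : Φ.Iso g) :
    ∃ w ∈ pairedPerms N, InBlockCell Φ.c g (Φ.lift w) := by
  obtain ⟨σ, hσ⟩ := exists_inCell g
  have h1 : InCell (Φ.D * g * Φ.D⁻¹) (Fin.revPerm * σ * Fin.revPerm) := by
    rw [← Φ.starInv_iso hg]
    obtain ⟨p, hp, q, hq, he⟩ := hσ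
    exact ⟨_, starInv_bor hp, _, starInv_bor hq, by rw [he, map_mul, map_mul, starInv_perm]⟩
  have hD' : Φ.D⁻¹ ∈ triGroup Φ.c := inv_mem Φ.D_mem
  have hlowD : ∀ k, Φ.c k < Fin.rev (Φ.c k) → Fin.rev (Φ.c (σ k)) ≠ Φ.c (σ k) :=
    fun k hk => Φ.nonmid Φ.Q Φ.low Φ.aniso hg hσ hk
  have hhigh : ∀ k, Fin.rev (Φ.c k) < Φ.c k → Fin.rev (Φ.c (σ k)) ≠ Φ.c (σ k) := by
    intro k hk
    have h := Φ.nonmid (fun x => Φ.Q (((Φ.D⁻¹ : GL (Fin n) F) : Matrix (Fin n) (Fin n) F) *ᵥ x))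
      (fun x hx => Φ.low _ (Φ.low_mulVec hD' hx)) ?_ (g := Φ.D * g * Φ.D⁻¹) (fun x => by
        show Φ.Q _ = Φ.Q _
        rw [Matrix.mulVec_mulVec, ← Units.val_mul, show Φ.D⁻¹ * (Φ.D * g * Φ.D⁻¹) = g * Φ.D⁻¹ by group,
          Units.val_mul, ← Matrix.mulVec_mulVec, hg]) h1 (k := Fin.rev k)
      (by rw [Φ.c_rev, Fin.rev_rev]; exact hk)
    · simp only [Equiv.Perm.mul_apply, Fin.revPerm_apply, Fin.rev_rev, Φ.c_rev] at h
      exact fun he => h he.symm
    · intro x hx hQ i hi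
      have hsupp : ∀ j, (((Φ.D⁻¹ : GL (Fin n) F) : Matrix (Fin n) (Fin n) F) *ᵥ x) j ≠ 0 →
          Φ.c j ≤ Fin.rev (Φ.c j) := fun j hj => by
        obtain ⟨l, hl, hjl⟩ := Φ.supp_mulVec hD' hj
        exact (hjl.trans (hx l hl)).trans (Fin.rev_le_rev.mpr hjl)
      have hlt := Φ.aniso _ hsupp hQ
      have e : x = (Φ.D : Matrix (Fin n) (Fin n) F) *ᵥ
          (((Φ.D⁻¹ : GL (Fin n) F) : Matrix (Fin n) (Fin n) F) *ᵥ x) := by
        rw [Matrix.mulVec_mulVec, Units.mul_inv, Matrix.one_mulVec]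
      exact Φ.low_mulVec Φ.D_mem hlt i (by rw [← e]; exact hi)
  -- the self-paired block is preserved
  classical
  have hmaps : ∀ k, Fin.rev (Φ.c k) ≠ Φ.c k → Fin.rev (Φ.c (σ k)) ≠ Φ.c (σ k) := fun k hk =>
    (lt_or_gt_of_ne hk).elim (hhigh k) (hlowD k)
  have hmid : ∀ k, Fin.rev (Φ.c k) = Φ.c k → Fin.rev (Φ.c (σ k)) = Φ.c (σ k) := by
    intro k hk
    by_contra hne
    let S := univ.filter fun k => Fin.rev (Φ.c k) ≠ Φ.c k
    have himg : S.image σ = S := by
      refine Finset.eq_of_subset_of_card_le ?_ (by rw [Finset.card_image_of_injective _ σ.injective])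
      intro y hy
      obtain ⟨x, hx, rfl⟩ := Finset.mem_image.mp hy
      exact Finset.mem_filter.mpr ⟨mem_univ _, hmaps x (Finset.mem_filter.mp hx).2⟩
    obtain ⟨x, hx, hxk⟩ := Finset.mem_image.mp
      (show σ k ∈ S.image σ by rw [himg]; exact Finset.mem_filter.mpr ⟨mem_univ _, hne⟩)
    exact (Finset.mem_filter.mp hx).2 (σ.injective hxk ▸ hk)
  -- the induced permutation of the blocks
  choose sec hsec using Φ.surj
  have hwc : ∀ k, Φ.c (σ k) = Φ.c (σ (sec (Φ.c k))) := by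
    intro k
    by_cases hk : Fin.rev (Φ.c k) = Φ.c k
    · have e1 := hmid k hk
      have e2 := hmid (sec (Φ.c k)) (by rw [hsec]; exact hk)
      rw [Fin.ext_iff, Fin.val_rev] at e1 e2
      have := (Φ.c (σ k)).2
      have := (Φ.c (σ (sec (Φ.c k)))).2
      exact Fin.ext (by omega)
    · rw [← Φ.single k (sec (Φ.c k)) (hsec _).symm hk]
  have hsurj : Function.Surjective fun a => Φ.c (σ (sec a)) := fun b => by
    obtain ⟨k, rfl⟩ := Φ.surj b
    refine ⟨Φ.c (σ⁻¹ k), ?_⟩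
    show Φ.c (σ (sec (Φ.c (σ⁻¹ k)))) = _
    rw [← hwc, show σ (σ⁻¹ k) = k from σ.apply_symm_apply k]
  let w : Equiv.Perm (Fin N) := Equiv.ofBijective _ ⟨Finite.injective_iff_surjective.mpr hsurj, hsurj⟩
  have hw : ∀ k, Φ.c (σ k) = w (Φ.c k) := hwc
  have hblock : InBlockCell Φ.c g σ := hσ.block Φ.mono
  have hblock' : InBlockCell Φ.c g (Fin.revPerm * σ * Fin.revPerm) := by
    have := ((h1.block Φ.mono).mul_left hD').mul_right Φ.D_mem
    simpa [mul_assoc] using this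
  have hw' : Fin.revPerm * w * Fin.revPerm = w := by
    refine (hblock.unique_lift Φ.surj hblock' hw fun k => ?_).symm
    simp only [Equiv.Perm.mul_apply, Fin.revPerm_apply, Φ.c_rev, hw]
  have hmem : w ∈ pairedPerms N := fun x => by
    have := Equiv.congr_fun hw' x
    simp only [Equiv.Perm.mul_apply, Fin.revPerm_apply] at this
    rw [← this, Fin.rev_rev]
  refine ⟨w, hmem, ?_⟩
  -- two lifts differ by a block preserving permutation
  obtain ⟨p, hp, q, hq, he⟩ := hblock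
  have hpres : permGL n F ((Φ.lift w)⁻¹ * σ) ∈ triGroup Φ.c := permGL_mem_triGroup fun i => by
    have h2 := Φ.lift_c w hmem (((Φ.lift w)⁻¹ * σ) i)
    rw [Equiv.Perm.mul_apply, show Φ.lift w ((Φ.lift w)⁻¹ (σ i)) = σ i from (Φ.lift w).apply_symm_apply _,
      hw] at h2
    rw [Equiv.Perm.mul_apply]
    exact w.injective h2.symm
  exact ⟨p, hp, _, mul_mem hpres hq, by rw [he, map_mul, map_inv]; group⟩

/-- Points in the cell of the reversal are translates by isometric radical elements. -/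
theorem exists_uni_lift {g : GL (Fin n) F} (hg : Φ.Iso g)
    (hc : InBlockCell Φ.c g (Φ.lift Fin.revPerm)) :
    ∃ u ∈ uniC Φ.c, Φ.Iso u ∧ (u * permGL n F (Φ.lift Fin.revPerm))⁻¹ * g ∈ triGroup Φ.c := by
  set σ := Φ.lift Fin.revPerm with hσdef
  have hσ : ∀ k, Φ.c (σ k) = Fin.rev (Φ.c k) := fun k => Φ.lift_c _ revPerm_mem k
  obtain ⟨p, hp, q, hq, rfl⟩ := hc
  obtain ⟨u, hu, d, hd, rfl⟩ := exists_uniC_mul hp
  have hinv : ∀ k, Φ.c (σ⁻¹ k) = Fin.rev (Φ.c k) := fun k => by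
    have h1 := hσ (σ⁻¹ k)
    rw [show σ (σ⁻¹ k) = k from σ.apply_symm_apply k] at h1
    rw [h1, Fin.rev_rev]
  have hconj : ∀ {e : GL (Fin n) F}, (∀ i j, (e : Matrix (Fin n) (Fin n) F) i j ≠ 0 → Φ.c i = Φ.c j) →
      (permGL n F σ)⁻¹ * e * permGL n F σ ∈ triGroup Φ.c := by
    intro e he i j hij
    rw [mul_assoc, ← map_inv, Units.val_mul, permGL_mul, Units.val_mul, mul_permGL]
    by_contra hne
    have := he _ _ hne
    simp only [inv_inv] at this
    rw [hσ, hσ] at this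
    exact hij.ne' (Fin.rev_injective this)
  set β := (permGL n F σ)⁻¹ * d * permGL n F σ * q with hβdef
  have hβ : β ∈ triGroup Φ.c := mul_mem (hconj hd) hq
  have hg' : u * d * permGL n F σ * q = u * permGL n F σ * β := by rw [hβdef]; group
  rw [hg'] at hg ⊢
  refine ⟨u, hu, ?_, by simpa [mul_assoc] using hβ⟩
  -- the polar form is preserved, by uniqueness
  have hu' : Φ.D⁻¹ * starInv u * Φ.D ∈ uniC Φ.c := by
    have := conj_uniC (inv_mem Φ.D_mem) (Φ.starInv_uniC hu)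
    rwa [inv_inv] at this
  have hpolar : starInv u = Φ.D * u * Φ.D⁻¹ := by
    have hs := Φ.starInv_iso hg
    rw [map_mul, map_mul, starInv_perm] at hs
    have hγ : (permGL n F σ)⁻¹ * Φ.D⁻¹ * permGL n F σ ∈ triGroup Φ.c := by
      have h2 := inv_mem (hconj Φ.D_block)
      simpa [mul_assoc] using h2
    have hτ : permGL n F (σ⁻¹ * (Fin.revPerm * σ * Fin.revPerm)) ∈ triGroup Φ.c :=
      permGL_mem_triGroup fun k => by
        simp only [Equiv.Perm.mul_apply, Fin.revPerm_apply, hinv, hσ, Φ.c_rev, Fin.rev_rev]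
    set u'' := Φ.D⁻¹ * starInv u * Φ.D
    have key : (permGL n F σ)⁻¹ * (u''⁻¹ * u) * permGL n F σ ∈ triGroup Φ.c := by
      have h4 : (permGL n F σ)⁻¹ * (u''⁻¹ * u) * permGL n F σ =
          ((permGL n F σ)⁻¹ * Φ.D⁻¹ * permGL n F σ) *
            permGL n F (σ⁻¹ * (Fin.revPerm * σ * Fin.revPerm)) * starInv β * Φ.D * β⁻¹ := by
        have hs' : u * permGL n F σ * β =
            Φ.D⁻¹ * (starInv u * permGL n F (Fin.revPerm * σ * Fin.revPerm) * starInv β) * Φ.D := by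
          rw [hs]; group
        have hx : u * permGL n F σ = Φ.D⁻¹ * (starInv u * permGL n F (Fin.revPerm * σ * Fin.revPerm) *
            starInv β) * Φ.D * β⁻¹ := by rw [← hs']; group
        calc (permGL n F σ)⁻¹ * (u''⁻¹ * u) * permGL n F σ
            = (permGL n F σ)⁻¹ * u''⁻¹ * (u * permGL n F σ) := by group
          _ = _ := by
            rw [hx, map_mul (permGL n F) σ⁻¹ (Fin.revPerm * σ * Fin.revPerm), map_inv]
            simp only [u'']
            group
      rw [h4]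
      exact mul_mem (mul_mem (mul_mem (mul_mem hγ hτ) (Φ.starInv_tri hβ)) Φ.D_mem) (inv_mem hβ)
    have h5 := eq_one_of_rev hσ (mul_mem (inv_mem hu') hu) key
    have h6 : u'' = u := inv_mul_eq_one.mp h5
    calc starInv u = Φ.D * u'' * Φ.D⁻¹ := by simp only [u'']; group
      _ = _ := by rw [h6]
  have hpres := Φ.polar_of_starInv hpolar
  -- the difference of the two forms is additive
  let δ : (Fin n → F) → F := fun x => Φ.Q ((u : Matrix (Fin n) (Fin n) F) *ᵥ x) - Φ.Q x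
  have hadd : ∀ x y, δ (x + y) = δ x + δ y := fun x y => by
    have h := hpres x y
    simp only [polar, ← Matrix.mulVec_add] at h
    simp only [δ]
    linear_combination h
  have hsmul : ∀ (t : F) x, δ (t • x) = t * t * δ x := fun t x => by
    simp only [δ, Matrix.mulVec_smul, QuadraticMap.map_smul, smul_eq_mul]
    ring
  have hbasis : ∀ k, δ (Pi.single k 1) = 0 := by
    intro k
    set ek : Fin n → F := Pi.single k 1
    have hek : ∀ i, ek i ≠ 0 → i = k := fun i hi => by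
      by_contra hne
      simp [ek, hne] at hi
    rcases lt_trichotomy (Φ.c k) (Fin.rev (Φ.c k)) with hlow | hmid | hhigh
    · have h0 : ∀ i, ek i ≠ 0 → Φ.c i < Fin.rev (Φ.c i) := fun i hi => by rw [hek i hi]; exact hlow
      show Φ.Q _ - Φ.Q ek = 0
      rw [Φ.low ek h0, Φ.low _ (Φ.low_mulVec (uniC_le hu) h0), sub_zero]
    · have hv : ∀ i, ((u : Matrix (Fin n) (Fin n) F) *ᵥ ek - ek) i ≠ 0 → Φ.c i < Fin.rev (Φ.c i) := by
        intro i hi
        rw [Pi.sub_apply, show ((u : Matrix (Fin n) (Fin n) F) *ᵥ ek) i = (u : Matrix (Fin n) (Fin n) F) i k by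
          simp [ek], show ek i = (1 : Matrix (Fin n) (Fin n) F) i k by
          simp [ek, Pi.single_apply, Matrix.one_apply]] at hi
        rcases lt_trichotomy (Φ.c i) (Φ.c k) with h | h | h
        · exact (h.trans_eq hmid).trans (Fin.rev_lt_rev.mpr h)
        · exact absurd (by rw [hu.2 i k h, sub_self]) hi
        · refine absurd ?_ hi
          rw [hu.1 h, Matrix.one_apply_ne (fun e => h.ne' (congrArg Φ.c e)), sub_zero]
      set v := (u : Matrix (Fin n) (Fin n) F) *ᵥ ek - ek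
      have huek : (u : Matrix (Fin n) (Fin n) F) *ᵥ ek = v + ek := by simp [v]
      have hp0 : polar (⇑Φ.Q) v ek = 0 := by
        rw [Φ.polar_eq]
        refine Finset.sum_eq_zero fun i _ => ?_
        by_cases hi : ((Φ.D : Matrix (Fin n) (Fin n) F) *ᵥ ek) i = 0
        · rw [hi, mul_zero]
        · have hci : Φ.c i = Φ.c k := Φ.D_block i k (by simpa [ek] using hi)
          refine mul_eq_zero_of_left (by_contra fun h => ?_) _
          have := hv _ h
          rw [Φ.c_rev, Fin.rev_rev, hci, ← hmid] at this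
          exact lt_irrefl _ this
      show Φ.Q _ - Φ.Q ek = 0
      rw [huek, show Φ.Q (v + ek) = Φ.Q v + Φ.Q ek + polar (⇑Φ.Q) v ek by simp [polar], Φ.low v hv, hp0]
      ring
    · have hν : ∀ x : Fin n → F, (∀ i, x i ≠ 0 → Φ.c i < Fin.rev (Φ.c i)) →
          δ (((permGL n F σ * β : GL (Fin n) F) : Matrix (Fin n) (Fin n) F) *ᵥ x) = 0 := by
        intro x hx
        show Φ.Q _ - Φ.Q _ = 0
        rw [Matrix.mulVec_mulVec, ← Units.val_mul, ← mul_assoc, hg, Units.val_mul,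
          ← Matrix.mulVec_mulVec, hσdef, Φ.lift_iso _ revPerm_mem, Φ.low x hx,
          Φ.low _ (Φ.low_mulVec hβ hx), sub_zero]
      have e : ek = ((permGL n F σ * β : GL (Fin n) F) : Matrix (Fin n) (Fin n) F) *ᵥ
          (((β⁻¹ : GL (Fin n) F) : Matrix (Fin n) (Fin n) F) *ᵥ Pi.single (σ⁻¹ k) 1) := by
        rw [Matrix.mulVec_mulVec, ← Units.val_mul, mul_inv_cancel_right]
        funext i
        simp [ek, permGL_apply, Pi.single_apply, show σ (σ⁻¹ k) = k from σ.apply_symm_apply k,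
          eq_comm]
      rw [e]
      refine hν _ fun i hi => Φ.low_mulVec (inv_mem hβ) (fun l hl => ?_) i hi
      have : l = σ⁻¹ k := by
        by_contra hne
        exact hl (Pi.single_eq_of_ne hne 1)
      rw [this, hinv, Fin.rev_rev]
      exact hhigh
  intro x
  have h0 : δ x = 0 := by
    have e : x = ∑ k, x k • (Pi.single k (1 : F) : Fin n → F) := by
      funext i
      simp [Finset.sum_apply, Pi.single_apply]
    have hz : δ 0 = 0 := by simp [δ]
    rw [e]
    induction (Finset.univ : Finset (Fin n)) using Finset.induction_on with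
    | empty => rw [Finset.sum_empty]; exact hz
    | insert a t hat ih => rw [Finset.sum_insert hat, hadd, hsmul, hbasis, ih, mul_zero, add_zero]
  exact sub_eq_zero.mp h0

end OrthModel

end CfsgLib.SteinbergChar
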