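import Cfsg.Agent.Lib.OrthCrit.Forms
import Cfsg.Agent.Lib.OrthCrit.MaxSingular

/-!
Parity and membership of `Ω` for orthogonal groups generated by reflections, and isometries of
prime power order in dimension at most two.
-/

set_option autoImplicit false

namespace CfsgLib.SteinbergChar

open QuadraticMap Module Cfsg CfsgLib.OrthCrit
open CfsgLib.Classical.Quad (NDPolar Orth refl)

variable {F : Type*} [Field F] {ι : Type} [Fintype ι] [DecidableEq ι] {Q : QuadraticForm F (ι → F)}

section Gen

variable (hnd : NDPolar Q) (hgen : Subgroup.closure (CfsgLib.Orth.reflSet Q) = ⊤)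
include hnd hgen

theorem parity_mul' (g g' : ↥(isometryGroup F ⇑Q)) : parity (g * g') = parity g + parity g' := by
  rw [parity, map_mul]
  exact CfsgLib.Orth.moved_mul_parity hnd hgen _ _

/-- The parity as a homomorphism. -/
noncomputable def parityHom' : ↥(isometryGroup F ⇑Q) →* Multiplicative (ZMod 2) where
  toFun g := Multiplicative.ofAdd (parity g)
  map_one' := by rw [parity_one]; rfl
  map_mul' g g' := by rw [parity_mul' hnd hgen, ofAdd_add]

theorem parity_of_mem_Omega' {g : ↥(isometryGroup F ⇑Q)} (hg : g ∈ Omega F ⇑Q) : parity g = 0 := by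
  have := MonoidHom.mem_ker.mp (Abelianization.commutator_subset_ker (parityHom' hnd hgen) hg)
  rwa [show parityHom' hnd hgen g = Multiplicative.ofAdd (parity g) from rfl, ofAdd_eq_one] at this

/-- Membership of `Ω`, uniformly in the characteristic. -/
theorem mem_Omega' [Fintype F] (hn : 2 ≤ Fintype.card ι) {g : ↥(isometryGroup F ⇑Q)}
    (hp : parity g = 0) (ht : (2 : F) ≠ 0 → OrthSpinor.theta (Q := Q) 1 g = 1) :
    g ∈ Omega F ⇑Q := by
  by_cases h2 : (2 : F) = 0
  · have := charP_two_of h2
    have : Nonempty ι := Fintype.card_pos_iff.mp (by omega)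
    have hmap : (Omega F ⇑Q).map (toOrth Q).toMonoidHom = commutator (Orth Q) := by
      rw [Omega, commutator_def, commutator_def, Subgroup.map_commutator,
        Subgroup.map_top_of_surjective _ (MulEquiv.surjective _)]
    have hmem : toOrth Q g ∈ commutator (Orth Q) := by
      rw [CfsgLib.Orth.mem_commutator_iff hnd hgen (exists_Q_ne_zero hnd)]
      exact (ZMod.natCast_eq_zero_iff_even).mp hp
    rw [← hmap] at hmem
    obtain ⟨x, hx, he⟩ := hmem
    rwa [← (toOrth Q).injective he]
  · exact (mem_Omega_iff_odd hnd h2 hn g).mpr ⟨hp, ht h2⟩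

/-- Adjusting an isometry of even parity into `Ω`. -/
theorem exists_mul_mem_Omega' [Fintype F] (hn : 2 ≤ Fintype.card ι)
    (H : Subgroup ↥(isometryGroup F ⇑Q)) {g : ↥(isometryGroup F ⇑Q)} (hg : parity g = 0)
    (hflip : (2 : F) ≠ 0 → ∃ t ∈ H, parity t = 0 ∧ OrthSpinor.theta (Q := Q) 1 t = -1) :
    ∃ x ∈ H, g * x ∈ Omega F ⇑Q := by
  by_cases hθ : (2 : F) ≠ 0 → OrthSpinor.theta (Q := Q) 1 g = 1
  · exact ⟨1, one_mem _, by rw [mul_one]; exact mem_Omega' hnd hgen hn hg hθ⟩
  · push Not at hθ
    obtain ⟨h2, hθ⟩ := hθ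
    obtain ⟨t, htH, htp, htθ⟩ := hflip h2
    refine ⟨t, htH, mem_Omega' hnd hgen hn (by rw [parity_mul' hnd hgen, hg, htp, add_zero]) fun _ => ?_⟩
    rw [map_mul, htθ, (Int.units_eq_one_or _).resolve_left hθ]
    decide

end Gen

/-- An isometry of prime power order and even parity in dimension at most two is trivial. -/
theorem eq_one_of_ppow (p : ℕ) [Fact p.Prime] [CharP F p] (hι : Fintype.card ι ≤ 2)
    {g : ↥(isometryGroup F ⇑Q)} (hp : parity g = 0) {k : ℕ} (hk : g ^ (p ^ k) = 1) : g = 1 := by
  rcases isEmpty_or_nonempty ι with he | hne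
  · exact OrthSpinor.ext_act Q fun x => Subsingleton.elim _ _
  set M : Matrix ι ι F := ((g : GL ι F) : Matrix ι ι F)
  have hM : M ^ (p ^ k) = 1 := by
    have h := congrArg (fun x : ↥(isometryGroup F ⇑Q) => ((x : GL ι F) : Matrix ι ι F)) hk
    simpa using h
  have hnil : (M - 1) ^ (p ^ k) = 0 := by
    rw [sub_pow_char_pow_of_commute p k (Commute.one_right M), hM, one_pow, sub_self]
  set N := CfsgLib.Orth.subOne (toOrth Q g) with hN
  have hNM : ∀ x, N x = (M - 1).mulVec x := fun x => by
    rw [hN, CfsgLib.Orth.subOne_apply, toOrth_apply, Matrix.sub_mulVec, Matrix.one_mulVec]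
    rfl
  have hlt : finrank F (LinearMap.range N) < Fintype.card ι := by
    by_contra hle
    rw [not_lt, ← finrank_fintype_fun_eq_card F] at hle
    have htop : LinearMap.range N = ⊤ :=
      Submodule.eq_top_of_finrank_eq (le_antisymm (Submodule.finrank_le _) hle)
    have hsurj : Function.Surjective (M - 1).mulVec := fun y => by
      obtain ⟨x, hx⟩ := LinearMap.range_eq_top.mp htop y
      exact ⟨x, by rw [← hNM, hx]⟩
    have hu := (Matrix.mulVec_surjective_iff_isUnit.mp hsurj).pow (p ^ k)
    rw [hnil] at hu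
    exact not_isUnit_zero hu
  have heven : Even (finrank F (LinearMap.range N)) := ZMod.natCast_eq_zero_iff_even.mp hp
  have h0 : finrank F (LinearMap.range N) = 0 := by
    obtain ⟨r, hr⟩ := heven
    omega
  rw [Submodule.finrank_eq_zero, LinearMap.range_eq_bot] at h0
  refine OrthSpinor.ext_act Q fun x => ?_
  have h1 := LinearMap.congr_fun h0 x
  rw [hN, CfsgLib.Orth.subOne_apply, LinearMap.zero_apply, sub_eq_zero, toOrth_apply] at h1
  rw [h1, OrthSpinor.act_one]

end CfsgLib.SteinbergChar
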