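import Cfsg.Agent.Lib.SteinbergChar.OrthStd

/-!
Any two Sylow two-subgroups of a split orthogonal group over two elements meet nontrivially.
-/

set_option autoImplicit false

open Matrix Finset CfsgLib.GLFlags QuadraticMap Cfsg CfsgLib.OrthCrit

namespace CfsgLib.SteinbergChar

namespace OrthFrame

variable {n N : ℕ} {F : Type*} [Field F] {Φ : OrthModel n N F} {G : Type*} [Group G]
  (A : OrthFrame Φ G)

theorem cellOf_smul {u : G} (hu : A.f u ∈ triGroup Φ.c) (x : G ⧸ A.B) :
    A.cellOf (u • x) = A.cellOf x := by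
  obtain ⟨g, rfl⟩ := QuotientGroup.mk_surjective x
  rw [MulAction.Quotient.smul_mk]
  refine A.cellOf_eq (A.cellOf_mem _) ?_
  rw [smul_eq_mul, map_mul]
  exact (A.inCell_cellOf g).mul_left hu

/-- Points with a free orbit under the radical lie over the longest cell, up to the thin index. -/
theorem free_points {m : ℕ} (hm : 2 * m + 2 ≤ N) {s : G} (hs : A.cellOf (QuotientGroup.mk
      (A.perm Fin.revPerm * s)) = Fin.revPerm * symRefl hm)
    (hnorm : ∀ b ∈ A.B, s⁻¹ * b * s ∈ A.B) (hs2 : s * s = 1)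
    (hthin : ∀ g, A.rel ⟨m, hm⟩ (QuotientGroup.mk g) (QuotientGroup.mk (g * s)) ∧
      (QuotientGroup.mk (g * s) : G ⧸ A.B) ≠ QuotientGroup.mk g)
    (hthick : ∀ i : {a : ℕ // 2 * a + 2 ≤ N}, i.1 ≠ m → ∀ x, ∃ y₁ y₂, y₁ ≠ y₂ ∧ y₁ ≠ x ∧ y₂ ≠ x ∧
      A.rel i x y₁ ∧ A.rel i x y₂)
    (hBU : A.B ≤ A.U) (g : G) (hfree : ∀ u ∈ A.U, g⁻¹ * u * g ∈ A.B → u = 1) :
    ∃ u ∈ A.U, ∃ b ∈ A.B, g = u * A.perm Fin.revPerm * b ∨ g = u * A.perm Fin.revPerm * s * b := by
  let T : G ⧸ A.B → Prop := fun x =>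
    ∃ u ∈ A.U, u • A.pt Fin.revPerm = x ∨
      u • (QuotientGroup.mk (A.perm Fin.revPerm * s) : G ⧸ A.B) = x
  suffices h : ∀ (r : ℕ) (x : G ⧸ A.B), ∑ k : Fin N, (k : ℕ) * (A.cellOf x k : ℕ) = r →
      (∀ u ∈ A.U, u • x = x → u = 1) → T x by
    obtain ⟨u, hu, he⟩ := h _ (QuotientGroup.mk g) rfl fun u hu he => by
      refine hfree u hu ?_
      rw [MulAction.Quotient.smul_mk, smul_eq_mul, QuotientGroup.eq] at he
      have := inv_mem he
      rwa [_root_.mul_inv_rev, inv_inv, ← mul_assoc] at this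
    rcases he with he | he
    · rw [pt, MulAction.Quotient.smul_mk, smul_eq_mul, QuotientGroup.eq] at he
      exact ⟨u, hu, _, he, Or.inl (by group)⟩
    · rw [MulAction.Quotient.smul_mk, smul_eq_mul, QuotientGroup.eq] at he
      exact ⟨u, hu, _, he, Or.inr (by group)⟩
  intro r
  induction r using Nat.strong_induction_on with
  | _ r ih =>
    intro x hr hx
    by_cases htop : ∃ u ∈ A.U, u • A.pt Fin.revPerm = x
    · obtain ⟨u, hu, he⟩ := htop
      exact ⟨u, hu, Or.inl he⟩
    obtain ⟨i, hi⟩ := A.descent_cell htop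
    -- the neighbours of lower rank have free orbits
    have hlow : ∀ y, A.rel i x y → y ≠ x → T y := fun y hy hne => by
      refine ih _ (hr ▸ (hi y hy hne).2) y rfl fun u hu he => hx u hu ?_
      by_contra hne'
      have h1 : A.rel i x (u • x) := by
        have h2 := A.rel_smul i u hy
        rw [he] at h2
        exact (A.rel_equiv i).trans hy ((A.rel_equiv i).symm h2)
      have h3 := (hi _ h1 hne').2
      rw [A.cellOf_smul (uniC_le hu)] at h3
      exact lt_irrefl _ h3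
    by_cases him : i.1 = m
    · obtain rfl : i = ⟨m, hm⟩ := Subtype.ext him
      obtain ⟨g', rfl⟩ := QuotientGroup.mk_surjective x
      obtain ⟨hr', hne⟩ := hthin g'
      obtain ⟨u, hu, he⟩ := hlow _ hr' hne
      have key : ∀ a : G, u • (QuotientGroup.mk a : G ⧸ A.B) = QuotientGroup.mk (g' * s) →
          u • (QuotientGroup.mk (a * s) : G ⧸ A.B) = QuotientGroup.mk g' := by
        intro a ha
        rw [MulAction.Quotient.smul_mk, smul_eq_mul, QuotientGroup.eq] at ha ⊢
        have h4 := hnorm _ ha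
        convert h4 using 1
        have hsi : s⁻¹ = s := inv_eq_of_mul_eq_one_right hs2
        calc (u * (a * s))⁻¹ * g' = s⁻¹ * ((u * a)⁻¹ * g') * 1 := by group
          _ = s⁻¹ * ((u * a)⁻¹ * g') * (s * s) := by rw [hs2]
          _ = s⁻¹ * ((u * a)⁻¹ * (g' * s)) * s := by group
      rcases he with he | he
      · exact ⟨u, hu, Or.inr (key _ he)⟩
      · refine ⟨u, hu, Or.inl ?_⟩
        have := key _ he
        rwa [mul_assoc, hs2, mul_one] at this
    obtain ⟨y₁, y₂, h12, h1, h2, hr1, hr2⟩ := hthick i him x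
    exfalso
    obtain ⟨u₁, hu₁, he₁⟩ := hlow y₁ hr1 h1
    obtain ⟨u₂, hu₂, he₂⟩ := hlow y₂ hr2 h2
    have hcell : A.cellOf y₁ = A.cellOf y₂ := (hi y₁ hr1 h1).1.trans (hi y₂ hr2 h2).1.symm
    have hctop : A.cellOf (A.pt Fin.revPerm) ≠
        A.cellOf (QuotientGroup.mk (A.perm Fin.revPerm * s)) := by
      rw [hs, A.cellOf_pt revPerm_mem]
      intro h
      exact symRefl_ne hm (mul_eq_left.mp h.symm)
    obtain ⟨z, hz1, hz2⟩ : ∃ z : G ⧸ A.B, u₁ • z = y₁ ∧ u₂ • z = y₂ := by
      rcases he₁ with a | a <;> rcases he₂ with b | b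
      · exact ⟨_, a, b⟩
      · rw [← a, ← b, A.cellOf_smul (uniC_le hu₁), A.cellOf_smul (uniC_le hu₂)] at hcell
        exact absurd hcell hctop
      · rw [← a, ← b, A.cellOf_smul (uniC_le hu₁), A.cellOf_smul (uniC_le hu₂)] at hcell
        exact absurd hcell.symm hctop
      · exact ⟨_, a, b⟩
    set u := u₂ * u₁⁻¹ with hudef
    have hu : u ∈ A.U := mul_mem hu₂ (inv_mem hu₁)
    have huy : u • y₁ = y₂ := by rw [← hz1, ← hz2, hudef, mul_smul, inv_smul_smul]
    refine h12 ?_
    rw [← huy]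
    rw [hx u hu ?_, one_smul]
    by_contra hne
    have h5 : A.rel i x (u • x) := by
      have h6 := A.rel_smul i u hr1
      rw [huy] at h6
      exact (A.rel_equiv i).trans hr2 ((A.rel_equiv i).symm h6)
    have h7 := (hi _ h5 hne).2
    rw [A.cellOf_smul (uniC_le hu)] at h7
    exact lt_irrefl _ h7

end OrthFrame

namespace OrthStd

set_option maxHeartbeats 1600000 in
/-- A two-subgroup meeting all of its conjugates. -/
theorem exists_meeting_subgroup {F : Type*} [Field F] [Fintype F] (hF : Fintype.card F = 2) {m : ℕ}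
    (hm : 3 ≤ m) :
    ∃ P : Subgroup ↥(isometryGroup F ⇑(form m 0 (0 : QuadraticForm F (Fin 0 → F)))),
      IsPGroup 2 P ∧ ∀ g, ∃ t ∈ P, t ≠ 1 ∧ g⁻¹ * t * g ∈ P := by
  classical
  have hnd0 : CfsgLib.Classical.Quad.NDPolar (0 : QuadraticForm F (Fin 0 → F)) :=
    fun x _ => Subsingleton.elim _ _
  have han0 : ∀ y : Fin 0 → F, (0 : QuadraticForm F (Fin 0 → F)) y = 0 → y = 0 :=
    fun y _ => Subsingleton.elim _ _
  set Φ := model m 0 hnd0 han0 with hΦ
  suffices h : ∃ P : Subgroup ↥(isometryGroup F ⇑Φ.Q),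
      IsPGroup 2 P ∧ ∀ g, ∃ t ∈ P, t ≠ 1 ∧ g⁻¹ * t * g ∈ P from h
  have hnd := Φ.ndPolar
  have hgen : Subgroup.closure (CfsgLib.Orth.reflSet Φ.Q) = ⊤ :=
    CfsgLib.OrthCrit.closure_reflSet hnd (Or.inr (by rw [Fintype.card_fin]; omega))
  have hreg : Regular F (Fin (2 * m + 0) ⊕ Φ.Mid) :=
    Or.inr (by rw [Fintype.card_sum, Fintype.card_fin, hΦ, card_mid]; omega)
  have hmb : 2 * (m - 1) + 2 ≤ 2 * m + min 0 1 := by omega
  have hN : 2 * m + min 0 1 = 2 * (m - 1) + 2 := by omega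
  set A := Φ.frame
  set s := Φ.swp (m - 1) hmb with hsdef
  have hnomid : ∀ k, Fin.rev (Φ.c k) ≠ Φ.c k := fun k h => by
    rw [Fin.ext_iff, Fin.val_rev] at h
    have := (Φ.c k).2
    omega
  have hcinj : Function.Injective Φ.c := fun a b h => Φ.single a b h (hnomid a)
  have hlift : ∀ v w, v ∈ pairedPerms _ → w ∈ pairedPerms _ →
      Φ.lift (v * w) = Φ.lift v * Φ.lift w := fun v w hv hw => Equiv.ext fun k => hcinj (by
    rw [Equiv.Perm.mul_apply, Φ.lift_c _ (mul_mem hv hw), Φ.lift_c _ hv, Φ.lift_c _ hw,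
      Equiv.Perm.mul_apply])
  have hs2 : s * s = 1 := Subtype.ext (by
    show permGL _ F (Φ.lift (symRefl hmb)) * permGL _ F (Φ.lift (symRefl hmb)) = 1
    rw [← map_mul, ← hlift _ _ (symRefl_mem hmb) (symRefl_mem hmb),
      show symRefl hmb * symRefl hmb = 1 from Equiv.ext fun x => symReflFun_involutive hmb x,
      show Φ.lift 1 = 1 from Equiv.ext fun k => hcinj (by
        rw [Φ.lift_c _ (one_mem _), Equiv.Perm.one_apply, Equiv.Perm.one_apply]), map_one])
  have hmid0 : ∀ g ∈ A.B, parity g = 0 := fun g hg => by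
    rw [show g = (⟨g, hg⟩ : ↥A.B).1 from rfl, Φ.parity_midHom hreg,
      show Φ.midHom ⟨g, hg⟩ = 1 from OrthSpinor.ext_act _ fun x => funext fun j =>
        absurd j.2 (hnomid j.1), parity_one]
  have hsB : s ∉ A.B := fun h => by
    have h1 := perm_preserves (F := F) (show permGL _ F (Φ.lift (symRefl hmb)) ∈ triGroup Φ.c from h)
    refine symRefl_ne hmb (Equiv.ext fun a => ?_)
    obtain ⟨k, rfl⟩ := Φ.surj a
    rw [← Φ.lift_c _ (symRefl_mem hmb), h1, Equiv.Perm.one_apply]
  have hsb : Φ.frame.f s ∈ triGroup (fun l => symBlock (m - 1) (Φ.c l)) := by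
    intro i j hij
    show (permGL _ F (Φ.lift (symRefl hmb)) : Matrix _ _ F) i j = 0
    rw [permGL_apply, if_neg]
    intro e
    simp only [← e] at hij
    rw [Φ.lift_c _ (symRefl_mem hmb), symRefl_pres] at hij
    exact lt_irrefl _ hij
  have hps : parity s = 1 := by
    by_contra h
    have h0 : parity s = 0 := by revert h; generalize parity s = z; revert z; decide
    have hv : ∃ v, Φ.Q v ≠ 0 := by
      have : Nonempty (Fin (2 * m + 0)) := ⟨⟨0, by omega⟩⟩
      exact exists_Q_ne_zero hnd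
    -- all elements stabilising the thin block would be even
    obtain ⟨k, hk⟩ := Φ.surj ⟨m - 1, by omega⟩
    set w : Fin (2 * m + 0) → F := Pi.single k 1 + Pi.single (Fin.rev k) 1
    have hpol : polar (⇑Φ.Q) (Pi.single k 1) (Pi.single (Fin.rev k) 1) ≠ 0 := by
      obtain ⟨i, hi⟩ := Φ.exists_polar_ne (y := Pi.single (Fin.rev k) 1) (by simp)
      have := Φ.c_of_polar hi
      rw [Φ.c_rev] at this
      rwa [hcinj (Fin.rev_injective this).symm] at hi
    have hQw : Φ.Q w ≠ 0 := by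
      rw [show Φ.Q w = polar (⇑Φ.Q) (Pi.single k 1) (Pi.single (Fin.rev k) 1) by
        rw [QuadraticMap.map_add (⇑Φ.Q), Φ.Q_single (hnomid _), Φ.Q_single (hnomid _), zero_add,
          zero_add]]
      exact hpol
    have hrb : Φ.frame.f (OrthSpinor.reflection hQw) ∈ triGroup (fun l => symBlock (m - 1) (Φ.c l)) := by
      intro i j hij
      show ((OrthSpinor.reflection hQw : ↥(isometryGroup F ⇑Φ.Q)) : GL (Fin (2 * m + 0)) F).val i j = 0
      rw [Φ.entry_eq, OrthSpinor.act_reflection, Pi.sub_apply,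
        Pi.single_eq_of_ne (fun h => hij.ne' (by rw [h])), zero_sub, neg_eq_zero, Pi.smul_apply,
        smul_eq_mul]
      have hbk : symBlock (m - 1) (Φ.c (Fin.rev k)) = symBlock (m - 1) (Φ.c k) := by
        rw [Φ.c_rev, hk]
        simp only [symBlock, Fin.val_rev]
        split_ifs <;> omega
      by_cases hi : i = k ∨ i = Fin.rev k
      · refine mul_eq_zero_of_left (mul_eq_zero_of_right _ ?_) _
        by_contra h
        have hj : j = k ∨ j = Fin.rev k := by
          by_contra hc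
          push Not at hc
          refine h ?_
          rw [polar_add_left]
          have e1 : polar (⇑Φ.Q) (Pi.single k 1) (Pi.single j 1) = 0 := by
            by_contra h1
            have := Φ.c_of_polar h1
            rw [← Φ.c_rev] at this
            exact hc.2 (hcinj this)
          have e2 : polar (⇑Φ.Q) (Pi.single (Fin.rev k) 1) (Pi.single j 1) = 0 := by
            by_contra h1
            have := Φ.c_of_polar h1
            rw [← Φ.c_rev, Fin.rev_rev] at this
            exact hc.1 (hcinj this)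
          rw [e1, e2, add_zero]
        refine hij.ne ?_
        rcases hi with rfl | rfl <;> rcases hj with rfl | rfl <;> simp [hbk]
      · push Not at hi
        simp [w, hi.1, hi.2]
    rcases Φ.mem_or_swp hmb hN hrb with hB | hB
    · have := hmid0 _ hB
      rw [parity_reflection hnd] at this
      exact absurd this (by decide)
    · have h2 := hmid0 _ hB
      have hsi : s⁻¹ = s := inv_eq_of_mul_eq_one_right hs2
      rw [hsi, parity_mul' hnd hgen, h0, parity_reflection hnd] at h2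
      exact absurd h2 (by decide)
  have hsinv : s⁻¹ = s := inv_eq_of_mul_eq_one_right hs2
  -- the thin parabolic
  let P : Subgroup ↥(isometryGroup F ⇑Φ.Q) :=
    (triGroup (fun l => symBlock (m - 1) (Φ.c l))).comap A.f
  have hBP : A.B ≤ P := fun b hb => OrthFrame.tri_le ⟨m - 1, hmb⟩ hb
  have hsP : s ∈ P := hsb
  have hPB : ∀ g ∈ P, parity g = 0 → g ∈ A.B := fun g hg hp => by
    rcases Φ.mem_or_swp hmb hN (g := g) hg with h | h
    · exact h
    · have h2 := hmid0 _ h
      rw [parity_mul' hnd hgen, ← hsdef, hsinv, hps, hp, add_zero] at h2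
      exact absurd h2 one_ne_zero
  have hnorm : ∀ b ∈ A.B, s⁻¹ * b * s ∈ A.B := fun b hb =>
    hPB _ (mul_mem (mul_mem (inv_mem hsP) (hBP hb)) hsP) (by
      rw [parity_mul' hnd hgen, parity_mul' hnd hgen, hmid0 b hb, hsinv, hps]; decide)
  have hBU : A.B ≤ A.U := fun b hb => ⟨hb, fun i j hij => by
    obtain rfl := hcinj hij
    rw [Matrix.one_apply_eq]
    have hu : IsUnit (Φ.diagEntry i (hnomid i) ⟨A.f b, hb⟩) :=
      (Group.isUnit (⟨A.f b, hb⟩ : ↥(triGroup (F := F) Φ.c))).map _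
    have h01 : ∀ x : F, x ≠ 0 → x = 1 := fun x hx => by
      have h2 := FiniteField.pow_card_sub_one_eq_one x hx
      rwa [hF, pow_one] at h2
    exact h01 _ hu.ne_zero⟩
  have hPgroup : IsPGroup 2 P := by
    have : CharP F 2 := by
      let e : ZMod 2 ≃+* F := ZMod.ringEquivOfPrime F Nat.prime_two hF
      exact charP_of_injective_ringHom e.injective 2
    intro g
    have hg2 : g.1 * g.1 ∈ A.B := hPB _ (mul_mem g.2 g.2) (by
      rw [parity_mul' hnd hgen]; exact CharTwo.add_self_eq_zero _)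
    have hUp : IsPGroup 2 (uniC Φ.c : Subgroup (GL (Fin (2 * m + 0)) F)) :=
      ((AutPSL.isPGroup_uniTri (F := F) (n := 2 * m + 0) 2).map _).to_le (uniC_le_uni Φ.mono)
    obtain ⟨k, hk⟩ := hUp ⟨A.f (g.1 * g.1), hBU hg2⟩
    refine ⟨k + 1, Subtype.ext (A.inj ?_)⟩
    have h := congrArg Subtype.val hk
    rw [SubmonoidClass.coe_pow, OneMemClass.coe_one] at h
    rw [SubmonoidClass.coe_pow, OneMemClass.coe_one, map_pow, map_one, pow_succ', pow_mul, pow_two,
      ← map_mul, h]
  refine ⟨P, hPgroup, fun g => ?_⟩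
  by_cases hfree : ∀ u ∈ A.U, g⁻¹ * u * g ∈ A.B → u = 1
  swap
  · push Not at hfree
    obtain ⟨u, hu, hug, hu1⟩ := hfree
    exact ⟨u, hBP (show u ∈ A.B from uniC_le hu), hu1, hBP hug⟩
  set n0 := A.perm Fin.revPerm
  have hn0 : A.f n0 = permGL _ F (Φ.lift Fin.revPerm) := A.f_perm revPerm_mem
  have hrs : Fin.revPerm * symRefl hmb = symRefl hmb * Fin.revPerm := Equiv.ext fun x => by
    simp only [Equiv.Perm.mul_apply, Fin.revPerm_apply]
    exact (symRefl_mem hmb x).symm
  have hcomm : n0⁻¹ * s * n0 = s := by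
    rw [mul_assoc, inv_mul_eq_iff_eq_mul]
    refine A.inj ?_
    rw [map_mul, map_mul, hn0, show A.f s = permGL _ F (Φ.lift (symRefl hmb)) from rfl, ← map_mul,
      ← map_mul, ← hlift _ _ (symRefl_mem hmb) revPerm_mem, ← hlift _ _ revPerm_mem (symRefl_mem hmb),
      hrs]
  have hthick : ∀ i : {a : ℕ // 2 * a + 2 ≤ 2 * m + min 0 1}, i.1 ≠ m - 1 → ∀ x, ∃ y₁ y₂,
      y₁ ≠ y₂ ∧ y₁ ≠ x ∧ y₂ ≠ x ∧ A.rel i x y₁ ∧ A.rel i x y₂ := by
    intro i hi x
    obtain ⟨g', rfl⟩ := QuotientGroup.mk_surjective x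
    have hia : 2 * i.1 + 3 < 2 * m + min 0 1 := by have := i.2; omega
    set nn := A.perm (symRefl i.2)
    have hfn : A.f nn = permGL _ F (Φ.lift (symRefl i.2)) := A.f_perm (symRefl_mem i.2)
    let a : Fin (2 * m + min 0 1) := ⟨i.1, by omega⟩
    let b : Fin (2 * m + min 0 1) := ⟨i.1 + 1, by omega⟩
    obtain ⟨r, hr, ⟨p1, p2, hp1, hp2, hne⟩, -⟩ := Φ.exists_root (a := a) (b := b)
      (Fin.lt_def.mpr (Nat.lt_succ_self _)) (Fin.lt_def.mpr (by
        rw [Fin.val_rev]; simp only [a, b]; omega))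
    have hnn : A.f nn ∈ triGroup (fun l => symBlock i.1 (Φ.c l)) := by
      rw [hfn]
      intro k l hkl
      rw [permGL_apply, if_neg]
      intro e
      simp only [← e] at hkl
      rw [Φ.lift_c _ (symRefl_mem i.2), symRefl_pres] at hkl
      exact lt_irrefl _ hkl
    have hnB : nn ∉ A.B := fun h => by
      have h1 := perm_preserves (F := F) (show permGL _ F (Φ.lift (symRefl i.2)) ∈ triGroup Φ.c from
        hfn ▸ h)
      refine symRefl_ne i.2 (Equiv.ext fun c => ?_)
      obtain ⟨k, rfl⟩ := Φ.surj c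
      rw [← Φ.lift_c _ (symRefl_mem i.2), h1, Equiv.Perm.one_apply]
    have hrB : r ∈ A.B := uniC_le hr
    refine ⟨QuotientGroup.mk (g' * nn), QuotientGroup.mk (g' * (r * nn)), ?_, ?_, ?_, ?_, ?_⟩
    · intro he
      rw [QuotientGroup.eq] at he
      have h2 : (permGL (2 * m + 0) F (Φ.lift (symRefl i.2)))⁻¹ * A.f r *
          permGL (2 * m + 0) F (Φ.lift (symRefl i.2)) ∈ triGroup Φ.c := by
        rw [← hfn, ← map_inv, ← map_mul, ← map_mul]
        have e : (g' * nn)⁻¹ * (g' * (r * nn)) = nn⁻¹ * r * nn := by group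
        rw [e] at he
        exact he
      set σ := Φ.lift (symRefl i.2)
      have hσ : ∀ k, Φ.c (σ⁻¹ k) = symRefl i.2 (Φ.c k) := fun k => by
        have h3 := Φ.lift_c _ (symRefl_mem i.2) (σ⁻¹ k)
        rw [show σ (σ⁻¹ k) = k from σ.apply_symm_apply k] at h3
        rw [h3]
        exact (symReflFun_involutive i.2 _).symm
      have hlt : Φ.c (σ⁻¹ p2) < Φ.c (σ⁻¹ p1) := by
        rw [hσ, hσ, hp1, hp2, Fin.lt_def, symRefl_val, symRefl_val,
          if_neg (show ¬ (2 * m + min 0 1 ≤ 2 * i.1 + 3) by omega),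
          if_neg (show ¬ (2 * m + min 0 1 ≤ 2 * i.1 + 3) by omega)]
        simp only [a, b]
        split_ifs <;> omega
      have h4 := h2 hlt
      rw [mul_assoc, ← map_inv, Units.val_mul, permGL_mul, Units.val_mul, mul_permGL] at h4
      refine hne ?_
      show (A.f r : Matrix _ _ F) p1 p2 = 0
      simpa using h4
    · intro he
      rw [eq_comm, QuotientGroup.eq, inv_mul_cancel_left] at he
      exact hnB he
    · intro he
      rw [eq_comm, QuotientGroup.eq, inv_mul_cancel_left] at he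
      have := mul_mem (inv_mem hrB) he
      rw [inv_mul_cancel_left] at this
      exact hnB this
    · rw [OrthFrame.rel_mk, ← map_inv, ← map_mul, inv_mul_cancel_left]
      exact hnn
    · rw [OrthFrame.rel_mk, ← map_inv, ← map_mul, inv_mul_cancel_left, map_mul]
      exact mul_mem (OrthFrame.tri_le i hrB) hnn
  have hscell : A.cellOf (QuotientGroup.mk (A.perm Fin.revPerm * s)) = Fin.revPerm * symRefl hmb :=
    A.cellOf_eq (mul_mem revPerm_mem (symRefl_mem hmb)) ⟨1, one_mem _, 1, one_mem _, by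
      rw [one_mul, mul_one, map_mul, hn0, hlift _ _ revPerm_mem (symRefl_mem hmb), map_mul]
      rfl⟩
  have hthin : ∀ g, A.rel ⟨m - 1, hmb⟩ (QuotientGroup.mk g) (QuotientGroup.mk (g * s)) ∧
      (QuotientGroup.mk (g * s) : _ ⧸ A.B) ≠ QuotientGroup.mk g := fun g' => ⟨by
    rw [OrthFrame.rel_mk, ← map_inv, ← map_mul, inv_mul_cancel_left]
    exact hsb, fun he => by
    rw [eq_comm, QuotientGroup.eq, inv_mul_cancel_left] at he
    exact hsB he⟩
  obtain ⟨u, hu, b, hb, he⟩ := A.free_points hmb hscell hnorm hs2 hthin hthick hBU g hfree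
  have huP : u ∈ P := hBP (show u ∈ A.B from uniC_le hu)
  refine ⟨u * s * u⁻¹, mul_mem (mul_mem huP hsP) (inv_mem huP), ?_, ?_⟩
  · intro h1
    rw [conj_eq_one_iff] at h1
    exact hsB (h1 ▸ one_mem _)
  · have hres : g⁻¹ * (u * s * u⁻¹) * g = b⁻¹ * s * b := by
      rcases he with rfl | rfl
      · calc (u * n0 * b)⁻¹ * (u * s * u⁻¹) * (u * n0 * b)
            = b⁻¹ * (n0⁻¹ * s * n0) * b := by group
          _ = b⁻¹ * s * b := by rw [hcomm]
      · calc (u * n0 * s * b)⁻¹ * (u * s * u⁻¹) * (u * n0 * s * b)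
            = b⁻¹ * s⁻¹ * (n0⁻¹ * s * n0) * s * b := by group
          _ = b⁻¹ * s * b := by rw [hcomm]; group
    rw [hres]
    exact mul_mem (mul_mem (inv_mem (hBP hb)) hsP) (hBP hb)

end OrthStd

end CfsgLib.SteinbergChar
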