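import Cfsg.Agent.Lib.SteinbergChar.OrthInstance
import Cfsg.Agent.Lib.SteinbergChar.OrthParity

/-!
Root elements, ordering of the blocks, and the middle block of the isometry group of adapted
coordinates.
-/

set_option autoImplicit false

open Matrix Finset CfsgLib.GLFlags QuadraticMap Cfsg CfsgLib.OrthCrit
open CfsgLib.Classical.Quad (NDPolar Orth refl siegel)

namespace CfsgLib.SteinbergChar

theorem mulVec_eq_zero_of {m : Type} [Fintype m] {F : Type*} [Field F] {A : Matrix m m F}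
    {x : m → F} {i : m} (h : ∀ l, A i l * x l = 0) : (A *ᵥ x) i = 0 :=
  Finset.sum_eq_zero fun l _ => h l

namespace OrthModel

variable {n N : ℕ} {F : Type*} [Field F] (Φ : OrthModel n N F)

/-- The tautological frame. -/
def frame : OrthFrame Φ ↥(isometryGroup F ⇑Φ.Q) where
  f := (isometryGroup F ⇑Φ.Q).subtype
  inj := Subtype.val_injective
  iso g x := g.2 x x
  range g hg := ⟨⟨g, fun u _ => hg u⟩, rfl⟩

@[simp] theorem frame_f (g : ↥(isometryGroup F ⇑Φ.Q)) : Φ.frame.f g = (g : GL (Fin n) F) := rfl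

theorem mem_B {g : ↥(isometryGroup F ⇑Φ.Q)} :
    g ∈ Φ.frame.B ↔ ((g : GL (Fin n) F) : Matrix (Fin n) (Fin n) F).BlockTriangular Φ.c := Iff.rfl

theorem entry_eq (g : ↥(isometryGroup F ⇑Φ.Q)) (i j : Fin n) :
    ((g : GL (Fin n) F) : Matrix (Fin n) (Fin n) F) i j =
      OrthSpinor.act Φ.Q g (Pi.single j 1) i := by
  rw [OrthSpinor.act, Matrix.mulVec_single_one, Matrix.col_apply]

theorem polar_single (i : Fin n) (y : Fin n → F) :
    polar (⇑Φ.Q) (Pi.single i 1) y = ((Φ.D : Matrix (Fin n) (Fin n) F) *ᵥ y) (Fin.rev i) := by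
  rw [Φ.polar_eq, Finset.sum_eq_single (Fin.rev i)
    (fun k _ hk => by rw [Pi.single_eq_of_ne (fun h => hk (by rw [← h, Fin.rev_rev])), zero_mul])
    (by simp), Fin.rev_rev, Pi.single_eq_same, one_mul]

theorem polar_basis (i j : Fin n) :
    polar (⇑Φ.Q) (Pi.single i 1) (Pi.single j 1) = (Φ.D : Matrix (Fin n) (Fin n) F) (Fin.rev i) j := by
  rw [polar_single, Matrix.mulVec_single_one, Matrix.col_apply]

theorem c_of_polar {i j : Fin n} (h : polar (⇑Φ.Q) (Pi.single i 1) (Pi.single j 1) ≠ 0) :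
    Φ.c j = Fin.rev (Φ.c i) := by
  rw [polar_basis] at h
  rw [← Φ.D_block _ _ h, Φ.c_rev]

theorem exists_polar_ne {y : Fin n → F} (hy : y ≠ 0) :
    ∃ i, polar (⇑Φ.Q) (Pi.single i 1) y ≠ 0 := by
  by_contra! h
  refine hy (funext fun k => ?_)
  have h0 : (Φ.D : Matrix (Fin n) (Fin n) F) *ᵥ y = 0 := funext fun i => by
    have := h (Fin.rev i)
    rwa [polar_single, Fin.rev_rev] at this
  have h1 := congrArg (fun z => ((Φ.D⁻¹ : GL (Fin n) F) : Matrix (Fin n) (Fin n) F) *ᵥ z) h0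
  rw [Matrix.mulVec_mulVec, Units.inv_mul, Matrix.one_mulVec, Matrix.mulVec_zero] at h1
  exact congrFun h1 k

theorem ndPolar : NDPolar Φ.Q := fun x hx => by
  by_contra h
  obtain ⟨i, hi⟩ := Φ.exists_polar_ne h
  exact hi (by rw [polar_comm]; exact hx _)

theorem Q_single {k : Fin n} (hk : Fin.rev (Φ.c k) ≠ Φ.c k) : Φ.Q (Pi.single k 1) = 0 := by
  have hlow : ∀ {i : Fin n}, Φ.c i < Fin.rev (Φ.c i) → Φ.Q (Pi.single i 1) = 0 := fun {i} hi =>
    Φ.low _ fun l hl => by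
      rcases eq_or_ne l i with rfl | h
      · exact hi
      · simp [h] at hl
  rcases lt_or_gt_of_ne hk with h | h
  · have hσ := Φ.lift_c _ revPerm_mem k
    rw [← Φ.lift_iso _ revPerm_mem, Matrix.mulVec_single_one,
      show (permGL n F (Φ.lift Fin.revPerm) : Matrix (Fin n) (Fin n) F).col k =
        Pi.single (Φ.lift Fin.revPerm k) 1 from funext fun i => by
        simp [Matrix.col_apply, permGL_apply, Pi.single_apply, eq_comm]]
    refine hlow ?_
    rw [hσ, Fin.revPerm_apply, Fin.rev_rev]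
    exact h
  · exact hlow h

theorem Q_single_ne {k : Fin n} (hk : Fin.rev (Φ.c k) = Φ.c k) : Φ.Q (Pi.single k 1) ≠ 0 := by
  intro h
  have := Φ.aniso _ (fun l hl => by
    rcases eq_or_ne l k with rfl | hne
    · exact hk.ge
    · simp [hne] at hl) h k (by simp)
  rw [hk] at this
  exact lt_irrefl _ this

/-- A root element for a pair of blocks. -/
theorem exists_root {a b : Fin N} (hab : a < b) (hb : b < Fin.rev a) :
    ∃ r : ↥(isometryGroup F ⇑Φ.Q), r ∈ Φ.frame.U ∧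
      (∃ i j, Φ.c i = a ∧ Φ.c j = b ∧ ((r : GL (Fin n) F) : Matrix (Fin n) (Fin n) F) i j ≠ 0) ∧
      ∀ i j, a ≤ Φ.c i → Φ.c j ≤ b → ¬ (Φ.c i = a ∧ Φ.c j = b) →
        ((r : GL (Fin n) F) : Matrix (Fin n) (Fin n) F) i j = (1 : Matrix (Fin n) (Fin n) F) i j := by
  obtain ⟨ka, hka⟩ := Φ.surj a
  obtain ⟨kb, hkb⟩ := Φ.surj (Fin.rev b)
  have ha : a < Fin.rev a := hab.trans hb
  have hu : Φ.Q (Pi.single ka 1) = 0 := Φ.Q_single (by rw [hka]; exact ha.ne')
  have hw : polar (⇑Φ.Q) (Pi.single ka 1) (Pi.single kb 1) = 0 := by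
    by_contra h
    have := Φ.c_of_polar h
    rw [hka, hkb] at this
    exact hab.ne' (Fin.rev_injective this)
  set r := (toOrth Φ.Q).symm (siegel Φ.Q (Pi.single ka 1) (Pi.single kb 1) hu hw)
  have hE : ∀ i j, ((r : GL (Fin n) F) : Matrix (Fin n) (Fin n) F) i j =
      (1 : Matrix (Fin n) (Fin n) F) i j +
        polar (⇑Φ.Q) (Pi.single j 1) (Pi.single ka 1) * (Pi.single kb (1 : F) : Fin n → F) i +
        (-(polar (⇑Φ.Q) (Pi.single j 1) (Pi.single kb 1)) - Φ.Q (Pi.single kb 1) *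
          polar (⇑Φ.Q) (Pi.single j 1) (Pi.single ka 1)) * (Pi.single ka (1 : F) : Fin n → F) i := by
    intro i j
    rw [entry_eq, toOrth_symm_act, CfsgLib.Classical.Quad.siegel_apply]
    simp [Pi.single_apply, Matrix.one_apply]
  have hpa : ∀ j, polar (⇑Φ.Q) (Pi.single j 1) (Pi.single ka 1) ≠ 0 → Φ.c j = Fin.rev a := by
    intro j hj
    have := Φ.c_of_polar hj
    rw [hka] at this
    rw [this, Fin.rev_rev]
  have hpb : ∀ j, polar (⇑Φ.Q) (Pi.single j 1) (Pi.single kb 1) ≠ 0 → Φ.c j = b := by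
    intro j hj
    have := Φ.c_of_polar hj
    rw [hkb] at this
    exact (Fin.rev_injective this).symm
  have key : ∀ i j, ((r : GL (Fin n) F) : Matrix (Fin n) (Fin n) F) i j ≠
      (1 : Matrix (Fin n) (Fin n) F) i j →
      (Φ.c j = Fin.rev a ∧ (Φ.c i = Fin.rev b ∨ Φ.c i = a)) ∨ (Φ.c i = a ∧ Φ.c j = b) := by
    intro i j hij
    rw [hE] at hij
    by_cases hp : polar (⇑Φ.Q) (Pi.single j 1) (Pi.single ka 1) = 0
    · by_cases hq : i = ka ∧ polar (⇑Φ.Q) (Pi.single j 1) (Pi.single kb 1) ≠ 0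
      · exact Or.inr ⟨hq.1 ▸ hka, hpb j hq.2⟩
      · refine absurd ?_ hij
        rw [hp]
        rcases not_and_or.mp hq with h | h
        · simp [h]
        · simp [not_not.mp h]
    · refine Or.inl ⟨hpa j hp, ?_⟩
      by_cases h1 : i = kb
      · exact Or.inl (h1 ▸ hkb)
      by_cases h2 : i = ka
      · exact Or.inr (h2 ▸ hka)
      simp [h1, h2] at hij
  refine ⟨r, ⟨fun i j hij => ?_, fun i j hij => ?_⟩, ?_, fun i j hi hj hn => ?_⟩
  · by_contra hne
    have hne' : ((r : GL (Fin n) F) : Matrix (Fin n) (Fin n) F) i j ≠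
        (1 : Matrix (Fin n) (Fin n) F) i j := by
      rwa [Matrix.one_apply_ne (fun h => hij.ne' (congrArg Φ.c h))]
    rcases key i j hne' with ⟨h1, h2 | h2⟩ | ⟨h1, h2⟩ <;> rw [h1, h2] at hij
    · exact hij.not_ge (Fin.rev_le_rev.mpr hab.le)
    · exact hij.not_gt ha
    · exact hij.not_gt hab
  · by_contra hne
    rcases key i j hne with ⟨h1, h2 | h2⟩ | ⟨h1, h2⟩ <;>
      rw [show (Φ.frame.f r : Matrix (Fin n) (Fin n) F) = _ from rfl] at * <;>
      rw [h1, h2] at hij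
    · exact hab.ne' (Fin.rev_injective hij)
    · exact ha.ne hij
    · exact hab.ne hij
  · obtain ⟨j, hj⟩ := Φ.exists_polar_ne (y := Pi.single kb 1) (by simp)
    refine ⟨ka, j, hka, hpb j hj, ?_⟩
    have hp : polar (⇑Φ.Q) (Pi.single j 1) (Pi.single ka 1) = 0 := by
      by_contra h
      exact hb.ne ((hpb j hj).symm.trans (hpa j h))
    rw [hE, hp, Matrix.one_apply_ne (fun h => hab.ne (by rw [← hka, ← hpb j hj, h]))]
    simpa using hj
  · by_contra hne
    rcases key i j hne with ⟨h1, -⟩ | h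
    · rw [h1] at hj
      exact hb.not_ge hj
    · exact hn h

/-- The cell of a fixed point of the radical is increasing along every root. -/
theorem lt_of_fix {g : ↥(isometryGroup F ⇑Φ.Q)}
    (hfix : ∀ u ∈ Φ.frame.U, Φ.frame.f (g⁻¹ * u * g) ∈ triGroup Φ.c) {a b : Fin N} (hab : a < b)
    (hb : b < Fin.rev a) :
    (Φ.frame.cellOf (QuotientGroup.mk g))⁻¹ a < (Φ.frame.cellOf (QuotientGroup.mk g))⁻¹ b := by
  obtain ⟨r, hr, hne, hsmall⟩ := Φ.exists_root hab hb
  exact Φ.frame.lt_of_fixed hfix hab hr (fun x => r.2 x x) hne hsmall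

/-- The blocks fixed by the reversal. -/
abbrev Mid : Type := {k : Fin n // Fin.rev (Φ.c k) = Φ.c k}

theorem c_mid_eq {k l : Fin n} (hk : Fin.rev (Φ.c k) = Φ.c k) (hl : Fin.rev (Φ.c l) = Φ.c l) :
    Φ.c k = Φ.c l := by
  rw [Fin.ext_iff, Fin.val_rev] at hk hl
  have := (Φ.c k).2
  have := (Φ.c l).2
  exact Fin.ext (by omega)

/-- Extension by zero from the middle block. -/
def ext : (Φ.Mid → F) →ₗ[F] (Fin n → F) where
  toFun y k := if h : Fin.rev (Φ.c k) = Φ.c k then y ⟨k, h⟩ else 0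
  map_add' y z := funext fun k => by by_cases h : Fin.rev (Φ.c k) = Φ.c k <;> simp [h]
  map_smul' a y := funext fun k => by by_cases h : Fin.rev (Φ.c k) = Φ.c k <;> simp [h]

theorem ext_apply_mid (y : Φ.Mid → F) (j : Φ.Mid) : Φ.ext y j.1 = y j := by simp [ext, j.2]

theorem ext_apply_of_ne (y : Φ.Mid → F) {k : Fin n} (h : Fin.rev (Φ.c k) ≠ Φ.c k) :
    Φ.ext y k = 0 := by simp [ext, h]

/-- The negative of the form on the middle block. -/
noncomputable def midForm : QuadraticForm F (Φ.Mid → F) := -(Φ.Q.comp Φ.ext)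

theorem midForm_apply (y : Φ.Mid → F) : Φ.midForm y = -Φ.Q (Φ.ext y) := rfl

theorem polar_midForm (y z : Φ.Mid → F) :
    polar (⇑Φ.midForm) y z = -polar (⇑Φ.Q) (Φ.ext y) (Φ.ext z) := by
  simp only [polar, midForm_apply, map_add]
  ring

theorem ndPolar_midForm : NDPolar Φ.midForm := by
  intro y hy
  by_contra hne
  have h0 : Φ.ext y ≠ 0 := fun h => hne (funext fun j => by
    rw [← Φ.ext_apply_mid y j, h]; rfl)
  obtain ⟨i, hi⟩ := Φ.exists_polar_ne h0
  by_cases hm : Fin.rev (Φ.c i) = Φ.c i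
  · have h1 := hy (Pi.single ⟨i, hm⟩ 1)
    have he : Φ.ext (Pi.single (⟨i, hm⟩ : Φ.Mid) 1) = Pi.single i 1 := funext fun k => by
      rcases eq_or_ne k i with rfl | hk
      · simp [ext, hm]
      · by_cases h : Fin.rev (Φ.c k) = Φ.c k
        · simp [ext, h, hk, Subtype.ext_iff]
        · simp [ext, h, hk]
    rw [polar_midForm, he, neg_eq_zero, polar_comm] at h1
    exact hi h1
  · rw [polar_single] at hi
    obtain ⟨l, hl, hnz⟩ : ∃ l, (Φ.D : Matrix (Fin n) (Fin n) F) (Fin.rev i) l ≠ 0 ∧ Φ.ext y l ≠ 0 := by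
      by_contra! h
      refine hi (mulVec_eq_zero_of fun l => ?_)
      by_cases hz : (Φ.D : Matrix (Fin n) (Fin n) F) (Fin.rev i) l = 0
      · rw [hz, zero_mul]
      · rw [h l hz, mul_zero]
    have hc := Φ.D_block _ _ hl
    rw [Φ.c_rev] at hc
    refine hnz (Φ.ext_apply_of_ne y fun h => hm ?_)
    rw [← hc, Fin.rev_rev] at h
    exact h.symm

theorem Q_add_ext {l : Fin n → F} (hl : ∀ k, l k ≠ 0 → Φ.c k < Fin.rev (Φ.c k)) (z : Φ.Mid → F) :
    Φ.Q (l + Φ.ext z) = Φ.Q (Φ.ext z) := by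
  have h0 : polar (⇑Φ.Q) l (Φ.ext z) = 0 := by
    rw [Φ.polar_eq]
    refine Finset.sum_eq_zero fun i _ => ?_
    by_cases hi : l (Fin.rev i) = 0
    · rw [hi, zero_mul]
    refine mul_eq_zero_of_right _ (mulVec_eq_zero_of fun k => ?_)
    by_cases hD : (Φ.D : Matrix (Fin n) (Fin n) F) i k = 0
    · rw [hD, zero_mul]
    have h1 := hl _ hi
    rw [Φ.c_rev, Fin.rev_rev, Φ.D_block _ _ hD] at h1
    rw [Φ.ext_apply_of_ne z h1.ne, mul_zero]
  rw [QuadraticMap.map_add (⇑Φ.Q), Φ.low l hl, h0, zero_add, add_zero]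

/-- The matrix on the middle block. -/
def midMat : ↥Φ.frame.B →* Matrix Φ.Mid Φ.Mid F where
  toFun g := ((g.1 : GL (Fin n) F) : Matrix (Fin n) (Fin n) F).submatrix Subtype.val Subtype.val
  map_one' := by simp [Matrix.submatrix_one _ Subtype.val_injective]
  map_mul' g h := by
    ext i j
    have hg := Φ.mem_B.mp g.2
    have hh := Φ.mem_B.mp h.2
    rw [Matrix.mul_apply, Matrix.submatrix_apply, Subgroup.coe_mul, Subgroup.coe_mul, Units.val_mul,
      block_mul_apply hg hh (Φ.c_mid_eq i.2 j.2)]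
    refine Finset.sum_subtype _ (fun k => ?_) (fun k =>
      ((g.1 : GL (Fin n) F) : Matrix (Fin n) (Fin n) F) i.1 k *
        ((h.1 : GL (Fin n) F) : Matrix (Fin n) (Fin n) F) k j.1)
    simp only [Finset.mem_filter, Finset.mem_univ, true_and]
    exact ⟨fun hk => hk ▸ i.2, fun hk => Φ.c_mid_eq hk i.2⟩

theorem act_ext {g : ↥(isometryGroup F ⇑Φ.Q)} (hg : g ∈ Φ.frame.B) (y : Φ.Mid → F) :
    ∃ l : Fin n → F, (∀ k, l k ≠ 0 → Φ.c k < Fin.rev (Φ.c k)) ∧
      OrthSpinor.act Φ.Q g (Φ.ext y) = l + Φ.ext (Φ.midMat ⟨g, hg⟩ *ᵥ y) := by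
  refine ⟨OrthSpinor.act Φ.Q g (Φ.ext y) - Φ.ext (Φ.midMat ⟨g, hg⟩ *ᵥ y), fun k hk => ?_, by abel⟩
  rw [Pi.sub_apply] at hk
  rcases lt_trichotomy (Φ.c k) (Fin.rev (Φ.c k)) with h | h | h
  · exact h
  · refine absurd ?_ hk
    rw [show k = (⟨k, h.symm⟩ : Φ.Mid).1 from rfl, Φ.ext_apply_mid, sub_eq_zero]
    simp only [OrthSpinor.act, Matrix.mulVec, dotProduct]
    rw [← Finset.sum_subset (Finset.subset_univ (univ.filter fun l => Fin.rev (Φ.c l) = Φ.c l))]
    · rw [Finset.sum_subtype (p := fun l => Fin.rev (Φ.c l) = Φ.c l) _ (fun l => by simp)]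
      exact Finset.sum_congr rfl fun j _ => by rw [Φ.ext_apply_mid]; rfl
    · intro l _ hl
      rw [Finset.mem_filter, not_and] at hl
      rw [Φ.ext_apply_of_ne y (hl (Finset.mem_univ _)), mul_zero]
  · refine absurd ?_ hk
    rw [Φ.ext_apply_of_ne _ h.ne, sub_zero]
    refine mulVec_eq_zero_of fun l => ?_
    by_cases hl : Fin.rev (Φ.c l) = Φ.c l
    · rw [show ((g : GL (Fin n) F) : Matrix (Fin n) (Fin n) F) k l = 0 from hg (show Φ.c l < Φ.c k by
        rw [Fin.ext_iff, Fin.val_rev] at hl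
        rw [Fin.lt_def, Fin.val_rev] at h
        rw [Fin.lt_def]
        have := (Φ.c l).2
        omega), zero_mul]
    · rw [Φ.ext_apply_of_ne y hl, mul_zero]

theorem midMat_iso (g : ↥Φ.frame.B) (y : Φ.Mid → F) :
    Φ.midForm (Φ.midMat g *ᵥ y) = Φ.midForm y := by
  obtain ⟨l, hl, he⟩ := Φ.act_ext g.2 y
  have := congrArg Φ.Q he
  rw [OrthSpinor.Q_act, Φ.Q_add_ext hl] at this
  rw [midForm_apply, midForm_apply, this]

/-- The middle block of an isometry stabilising the base flag. -/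
noncomputable def midHom : ↥Φ.frame.B →* ↥(isometryGroup F ⇑Φ.midForm) :=
  Φ.midMat.toHomUnits.codRestrict _ fun g u _ => Φ.midMat_iso g u

theorem act_midHom (g : ↥Φ.frame.B) (y : Φ.Mid → F) :
    OrthSpinor.act Φ.midForm (Φ.midHom g) y = Φ.midMat g *ᵥ y := rfl

/-- The parity is read on the middle block. -/
theorem parity_midHom [Fintype F] (hreg : Regular F (Fin n ⊕ Φ.Mid)) (g : ↥Φ.frame.B) :
    parity g.1 = parity (Φ.midHom g) := by
  let S := sumForm Φ.Q Φ.midForm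
  let NH := {k : Fin n // Φ.c k ≤ Fin.rev (Φ.c k)}
  let W : Submodule F (Fin n ⊕ Φ.Mid → F) :=
    { carrier := {z | (∀ k, Fin.rev (Φ.c k) < Φ.c k → z (Sum.inl k) = 0) ∧
        ∀ j : Φ.Mid, z (Sum.inl j.1) = z (Sum.inr j)}
      add_mem' := fun {a b} ha hb => ⟨fun k hk => by simp [ha.1 k hk, hb.1 k hk],
        fun j => by simp [ha.2 j, hb.2 j]⟩
      zero_mem' := ⟨fun _ _ => rfl, fun _ => rfl⟩
      smul_mem' := fun a z hz => ⟨fun k hk => by simp [hz.1 k hk], fun j => by simp [hz.2 j]⟩ }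
  have hsplit : ∀ z ∈ W, ∃ l : Fin n → F, (∀ k, l k ≠ 0 → Φ.c k < Fin.rev (Φ.c k)) ∧
      z ∘ Sum.inl = l + Φ.ext (z ∘ Sum.inr) := by
    intro z hz
    refine ⟨z ∘ Sum.inl - Φ.ext (z ∘ Sum.inr), fun k hk => ?_, by abel⟩
    rw [Pi.sub_apply] at hk
    rcases lt_trichotomy (Φ.c k) (Fin.rev (Φ.c k)) with h | h | h
    · exact h
    · refine absurd ?_ hk
      rw [show k = (⟨k, h.symm⟩ : Φ.Mid).1 from rfl, Φ.ext_apply_mid, sub_eq_zero]
      exact hz.2 ⟨k, h.symm⟩
    · exact absurd (by rw [Φ.ext_apply_of_ne _ h.ne, sub_zero]; exact hz.1 k h) hk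
  have hW : ∀ z ∈ W, S z = 0 := fun z hz => by
    obtain ⟨l, hl, he⟩ := hsplit z hz
    show sumForm Φ.Q Φ.midForm z = 0
    rw [sumForm_apply, he, Φ.Q_add_ext hl, midForm_apply]
    ring
  -- dimensions
  let eW : W ≃ₗ[F] (NH → F) :=
    { toFun := fun z k => z.1 (Sum.inl k.1)
      map_add' := fun _ _ => rfl
      map_smul' := fun _ _ => rfl
      invFun := fun x => ⟨Sum.elim (fun k => if h : Φ.c k ≤ Fin.rev (Φ.c k) then x ⟨k, h⟩ else 0)
        (fun j => x ⟨j.1, j.2.ge⟩), fun k hk => by simp [not_le.mpr hk], fun j => by simp [j.2]⟩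
      left_inv := fun z => by
        apply Subtype.ext
        funext k
        rcases k with k | j
        · by_cases h : Φ.c k ≤ Fin.rev (Φ.c k)
          · simp [h]
          · simp [h, z.2.1 k (not_le.mp h)]
        · simp [z.2.2 j]
      right_inv := fun x => funext fun k => by simp [k.2] }
  let e : (Fin n ⊕ Φ.Mid) ≃ NH ⊕ NH :=
    { toFun := Sum.elim (fun k => if h : Φ.c k ≤ Fin.rev (Φ.c k) then Sum.inl ⟨k, h⟩
          else Sum.inr ⟨Fin.rev k, by rw [Φ.c_rev, Fin.rev_rev]; exact le_of_not_ge h⟩)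
        fun j => Sum.inr ⟨j.1, j.2.ge⟩
      invFun := Sum.elim (fun x => Sum.inl x.1)
        fun x => if h : Fin.rev (Φ.c x.1) = Φ.c x.1 then Sum.inr ⟨x.1, h⟩ else Sum.inl (Fin.rev x.1)
      left_inv := fun k => by
        rcases k with k | j
        · by_cases h : Φ.c k ≤ Fin.rev (Φ.c k)
          · simp [h]
          · have h' : ¬ Φ.c k = Fin.rev (Φ.c k) := fun e => h e.le
            simp [h, Φ.c_rev, h']
        · simp [j.2]
      right_inv := fun k => by
        rcases k with x | x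
        · simp [x.2]
        · by_cases h : Fin.rev (Φ.c x.1) = Φ.c x.1
          · simp [h]
          · have h' : ¬ Fin.rev (Φ.c x.1) ≤ Φ.c x.1 := fun e => h (le_antisymm e x.2)
            simp [h, Φ.c_rev, h'] }
  have hcard : Fintype.card (Fin n ⊕ Φ.Mid) = 2 * Fintype.card NH := by
    rw [Fintype.card_congr e, Fintype.card_sum]
    ring
  have hdim : Module.finrank F W = Fintype.card NH := by
    rw [eW.finrank_eq, Module.finrank_fintype_fun_eq_card]
  have hstab : diagHom (g.1, Φ.midHom g) ∈ stab S W := by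
    refine mem_stab_of_forall fun z hz => ?_
    obtain ⟨l, hl, he⟩ := hsplit z hz
    obtain ⟨l', hl', he'⟩ := Φ.act_ext g.2 (z ∘ Sum.inr)
    rw [act_diagHom, he, OrthSpinor.act_add, he', act_midHom]
    have hl2 : ∀ k, ¬ Φ.c k < Fin.rev (Φ.c k) → OrthSpinor.act Φ.Q g.1 l k + l' k = 0 := by
      intro k hk
      have h1 : OrthSpinor.act Φ.Q g.1 l k = 0 := by
        by_contra h
        exact hk (Φ.low_mulVec (Φ.mem_B.mp g.2) hl k h)
      have h2 : l' k = 0 := by
        by_contra h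
        exact hk (hl' k h)
      rw [h1, h2, add_zero]
    refine ⟨fun k hk => ?_, fun j => ?_⟩
    · simp only [Sum.elim_inl, Pi.add_apply]
      rw [← add_assoc, hl2 k hk.le.not_gt, Φ.ext_apply_of_ne _ hk.ne, add_zero]
    · simp only [Sum.elim_inl, Sum.elim_inr, Pi.add_apply]
      rw [← add_assoc, hl2 j.1 (fun h => h.ne j.2.symm), Φ.ext_apply_mid, zero_add]
  have hpar := (even_sub_finrank_inf_map (ndPolar_sumForm Φ.ndPolar Φ.ndPolar_midForm) hreg hW hdim
    hcard (diagHom (g.1, Φ.midHom g))).mp (by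
      rw [show W.map _ = W from hstab, inf_idem, hdim, Nat.sub_self]
      exact Even.zero)
  rw [parity_diagHom] at hpar
  exact CharTwo.add_eq_zero.mp hpar

end OrthModel

end CfsgLib.SteinbergChar
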