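import Cfsg.Agent.Lib.SteinbergChar.OrthGroup

/-!
Adapted coordinates for a hyperbolic form plus an anisotropic kernel, and the transport of the
isometry group to these coordinates.
-/

set_option autoImplicit false

open Matrix Finset CfsgLib.GLFlags QuadraticMap Cfsg CfsgLib.OrthCrit
open CfsgLib.Classical.Quad (NDPolar Orth refl)

namespace CfsgLib.SteinbergChar

namespace OrthStd

variable (m d : ℕ)

/-- The blocks. -/
def blk (k : Fin (2 * m + d)) : Fin (2 * m + min d 1) :=
  if _ : (k : ℕ) < m then ⟨k, by omega⟩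
  else if _ : (k : ℕ) < m + d then ⟨m, by omega⟩
  else ⟨k + min d 1 - d, by omega⟩

theorem blk_val (k : Fin (2 * m + d)) : (blk m d k : ℕ) =
    if (k : ℕ) < m then (k : ℕ) else if (k : ℕ) < m + d then m else (k : ℕ) + min d 1 - d := by
  unfold blk
  split_ifs <;> rfl

/-- A position in a block. -/
def pos (j : Fin (2 * m + min d 1)) : Fin (2 * m + d) :=
  if _ : (j : ℕ) < m then ⟨j, by omega⟩
  else if _ : (j : ℕ) < m + min d 1 then ⟨m, by omega⟩
  else ⟨j + d - min d 1, by omega⟩

theorem pos_val (j : Fin (2 * m + min d 1)) : (pos m d j : ℕ) =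
    if (j : ℕ) < m then (j : ℕ) else if (j : ℕ) < m + min d 1 then m else (j : ℕ) + d - min d 1 := by
  unfold pos
  split_ifs <;> rfl

theorem blk_pos (j : Fin (2 * m + min d 1)) : blk m d (pos m d j) = j := by
  apply Fin.ext
  rw [blk_val, pos_val]
  split_ifs <;> omega

theorem blk_mono : Monotone (blk m d) := fun i j hij => by
  rw [Fin.le_def, blk_val, blk_val]
  rw [Fin.le_def] at hij
  split_ifs <;> omega

theorem blk_rev (k : Fin (2 * m + d)) : blk m d (Fin.rev k) = Fin.rev (blk m d k) := by
  apply Fin.ext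
  have := k.2
  rw [Fin.val_rev, blk_val, blk_val, Fin.val_rev]
  split_ifs <;> omega

theorem blk_mid_iff (k : Fin (2 * m + d)) :
    Fin.rev (blk m d k) = blk m d k ↔ m ≤ (k : ℕ) ∧ (k : ℕ) < m + d := by
  have := k.2
  rw [Fin.ext_iff, Fin.val_rev, blk_val]
  split_ifs <;> omega

theorem blk_low_iff (k : Fin (2 * m + d)) :
    blk m d k < Fin.rev (blk m d k) ↔ (k : ℕ) < m := by
  have := k.2
  rw [Fin.lt_def, Fin.val_rev, blk_val]
  split_ifs <;> omega

theorem blk_single (k l : Fin (2 * m + d)) (h : blk m d k = blk m d l)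
    (hk : Fin.rev (blk m d k) ≠ blk m d k) : k = l := by
  rw [ne_eq, blk_mid_iff] at hk
  rw [Fin.ext_iff, blk_val, blk_val] at h
  have := k.2
  have := l.2
  apply Fin.ext
  split_ifs at h <;> omega

theorem pos_rev {j : Fin (2 * m + min d 1)} (hj : Fin.rev j ≠ j) :
    pos m d (Fin.rev j) = Fin.rev (pos m d j) :=
  blk_single m d _ _ (by rw [blk_pos, blk_rev, blk_pos])
    (by rw [blk_pos]; exact fun h => hj (Fin.rev_injective h))

/-- The standard indices in adapted coordinates. -/
def idxFun : (Fin m ⊕ Fin m) ⊕ Fin d → Fin (2 * m + d)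
  | .inl (.inl i) => ⟨i, by omega⟩
  | .inl (.inr i) => Fin.rev ⟨i, by omega⟩
  | .inr a => ⟨m + a, by omega⟩

/-- The inverse of `idxFun`. -/
def idxInv (k : Fin (2 * m + d)) : (Fin m ⊕ Fin m) ⊕ Fin d :=
  if h1 : (k : ℕ) < m then Sum.inl (Sum.inl ⟨k, h1⟩)
  else if h2 : (k : ℕ) < m + d then Sum.inr ⟨(k : ℕ) - m, by omega⟩
  else Sum.inl (Sum.inr ⟨2 * m + d - ((k : ℕ) + 1), by omega⟩)

theorem idxFun_inj : Function.Injective (idxFun m d) := by
  intro s t h
  rw [Fin.ext_iff] at h
  rcases s with (i | i) | a <;> rcases t with (j | j) | b <;>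
    simp only [idxFun, Fin.val_rev] at h <;>
    first
    | (exfalso; omega)
    | (congr 2; exact Fin.ext (by omega))
    | (congr 1; exact Fin.ext (by omega))

theorem idxFun_idxInv (k : Fin (2 * m + d)) : idxFun m d (idxInv m d k) = k := by
  have := k.2
  unfold idxInv
  split_ifs <;> apply Fin.ext <;> simp only [idxFun, Fin.val_rev] <;> omega

/-- The standard index types and the adapted coordinates. -/
def idx : (Fin m ⊕ Fin m) ⊕ Fin d ≃ Fin (2 * m + d) where
  toFun := idxFun m d
  invFun := idxInv m d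
  left_inv _ := idxFun_inj m d (idxFun_idxInv m d _)
  right_inv := idxFun_idxInv m d

theorem idx_inl_inl (i : Fin m) : (idx m d (Sum.inl (Sum.inl i)) : ℕ) = i := rfl

theorem idx_inl_inr (i : Fin m) :
    idx m d (Sum.inl (Sum.inr i)) = Fin.rev (idx m d (Sum.inl (Sum.inl i))) := rfl

theorem idx_inr (a : Fin d) : (idx m d (Sum.inr a) : ℕ) = m + a := rfl

theorem idx_rev_inr (a : Fin d) : Fin.rev (idx m d (Sum.inr a)) = idx m d (Sum.inr (Fin.rev a)) := by
  apply Fin.ext
  have := a.2
  rw [Fin.val_rev, idx_inr, idx_inr, Fin.val_rev]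
  omega

/-- The lift of a block permutation. -/
def liftFun (w : Equiv.Perm (Fin (2 * m + min d 1))) (k : Fin (2 * m + d)) : Fin (2 * m + d) :=
  if Fin.rev (blk m d k) = blk m d k then k else pos m d (w (blk m d k))

theorem blk_liftFun {w : Equiv.Perm (Fin (2 * m + min d 1))} (hw : w ∈ pairedPerms _)
    (k : Fin (2 * m + d)) : blk m d (liftFun m d w k) = w (blk m d k) := by
  unfold liftFun
  split_ifs with h
  · have h' : Fin.rev (w (blk m d k)) = w (blk m d k) := by rw [← hw, h]
    rw [Fin.ext_iff, Fin.val_rev] at h h'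
    have := (blk m d k).2
    have := (w (blk m d k)).2
    exact Fin.ext (by omega)
  · rw [blk_pos]

theorem liftFun_inv {w : Equiv.Perm (Fin (2 * m + min d 1))} (hw : w ∈ pairedPerms _)
    (k : Fin (2 * m + d)) : liftFun m d w⁻¹ (liftFun m d w k) = k := by
  by_cases h : Fin.rev (blk m d k) = blk m d k
  · simp [liftFun, h]
  · have h' : Fin.rev (w (blk m d k)) ≠ w (blk m d k) := fun e => h (w.injective (by rw [hw, e]))
    rw [show liftFun m d w k = pos m d (w (blk m d k)) from if_neg h, liftFun, blk_pos, if_neg h',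
      show w⁻¹ (w (blk m d k)) = blk m d k from w.symm_apply_apply _]
    exact blk_single m d _ _ (blk_pos m d _) (by rw [blk_pos]; exact h)

theorem liftFun_rev {w : Equiv.Perm (Fin (2 * m + min d 1))} (hw : w ∈ pairedPerms _)
    (k : Fin (2 * m + d)) (h : Fin.rev (blk m d k) ≠ blk m d k) :
    liftFun m d w (Fin.rev k) = Fin.rev (liftFun m d w k) := by
  have h' : ¬ Fin.rev (blk m d (Fin.rev k)) = blk m d (Fin.rev k) := by
    rw [blk_rev, Fin.rev_rev]; exact Ne.symm h
  rw [liftFun, if_neg h', liftFun, if_neg h, blk_rev, hw, pos_rev]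
  exact fun e => h (w.injective (by rw [hw, e]))

/-- The lift. -/
def lift (w : Equiv.Perm (Fin (2 * m + min d 1))) : Equiv.Perm (Fin (2 * m + d)) :=
  if hw : ∀ x, w (Fin.rev x) = Fin.rev (w x) then
    { toFun := liftFun m d w
      invFun := liftFun m d w⁻¹
      left_inv := fun k => liftFun_inv m d hw k
      right_inv := fun k => by simpa using liftFun_inv m d ((pairedPerms _).inv_mem hw) k }
  else 1

theorem lift_apply {w : Equiv.Perm (Fin (2 * m + min d 1))} (hw : w ∈ pairedPerms _)
    (k : Fin (2 * m + d)) : lift m d w k = liftFun m d w k := by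
  rw [lift, dif_pos (mem_pairedPerms.mp hw)]; rfl

theorem lift_inv_apply {w : Equiv.Perm (Fin (2 * m + min d 1))} (hw : w ∈ pairedPerms _)
    (k : Fin (2 * m + d)) : (lift m d w)⁻¹ k = liftFun m d w⁻¹ k := by
  rw [lift, dif_pos (mem_pairedPerms.mp hw)]; rfl

variable {F : Type*} [Field F] (μ : QuadraticForm F (Fin d → F))

/-- The standard form in adapted coordinates. -/
noncomputable def form : QuadraticForm F (Fin (2 * m + d) → F) :=
  (sumForm (plusForm m F) μ).comp (LinearMap.funLeft F F (idx m d))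

theorem form_apply (x : Fin (2 * m + d) → F) :
    form m d μ x = (∑ i : Fin m, x (idx m d (.inl (.inl i))) * x (idx m d (.inl (.inr i)))) +
      μ (fun a => x (idx m d (.inr a))) := rfl

theorem polar_form (x y : Fin (2 * m + d) → F) :
    polar (⇑(form m d μ)) x y = (∑ i : Fin m,
      (x (idx m d (.inl (.inl i))) * y (idx m d (.inl (.inr i))) +
        x (idx m d (.inl (.inr i))) * y (idx m d (.inl (.inl i))))) +
      polar (⇑μ) (fun a => x (idx m d (.inr a))) (fun a => y (idx m d (.inr a))) := by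
  have h : polar (⇑(form m d μ)) x y =
      polar (⇑(sumForm (plusForm m F) μ)) (x ∘ idx m d) (y ∘ idx m d) := rfl
  rw [h, polar_sumForm, polar_plusForm]
  rfl

/-- The rows of the polar form of the kernel, reversed. -/
def kerMat : Matrix (Fin d) (Fin d) F :=
  Matrix.of fun a b => polar (⇑μ) (Pi.single (Fin.rev a) 1) (Pi.single b 1)

theorem kerMat_mulVec (y : Fin d → F) (a : Fin d) :
    (kerMat d μ *ᵥ y) a = polar (⇑μ) (Pi.single (Fin.rev a) 1) y := by
  conv_rhs => rw [pi_eq_sum_univ' y, ← polarBilin_apply_apply, map_sum]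
  simp only [Matrix.mulVec, dotProduct]
  exact Finset.sum_congr rfl fun b _ => by simp [kerMat, mul_comm]

theorem polar_kerMat (u y : Fin d → F) :
    polar (⇑μ) u y = ∑ a, u (Fin.rev a) * (kerMat d μ *ᵥ y) a := by
  conv_lhs => rw [pi_eq_sum_univ' u, ← polarBilin_apply_apply, map_sum, LinearMap.sum_apply,
    ← Equiv.sum_comp Fin.revPerm]
  refine Finset.sum_congr rfl fun a _ => ?_
  rw [kerMat_mulVec]
  simp

variable {μ}

theorem kerMat_det (hnd : NDPolar μ) : (kerMat d μ).det ≠ 0 := by
  rw [← isUnit_iff_ne_zero, ← Matrix.isUnit_iff_isUnit_det, ← Matrix.mulVec_injective_iff_isUnit]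
  intro y y' h
  rw [← sub_eq_zero]
  refine hnd _ fun z => ?_
  rw [polar_comm, polar_kerMat, Matrix.mulVec_sub, h]
  simp

/-- The matrix `D`. -/
noncomputable def dMat : Matrix (Fin (2 * m + d)) (Fin (2 * m + d)) F :=
  Matrix.reindex (idx m d) (idx m d) (Matrix.fromBlocks 1 0 0 (kerMat d μ))

theorem dMat_apply (s t : (Fin m ⊕ Fin m) ⊕ Fin d) :
    dMat m d (μ := μ) (idx m d s) (idx m d t) = Matrix.fromBlocks 1 0 0 (kerMat d μ) s t := by
  simp [dMat]

/-- The model. -/
noncomputable def model (hnd : NDPolar μ) (han : ∀ y, μ y = 0 → y = 0) :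
    OrthModel (2 * m + d) (2 * m + min d 1) F where
  Q := form m d μ
  c := blk m d
  mono := blk_mono m d
  surj j := ⟨pos m d j, blk_pos m d j⟩
  c_rev := blk_rev m d
  single := blk_single m d
  D := Matrix.GeneralLinearGroup.mkOfDetNeZero (dMat m d (μ := μ)) (by
    rw [dMat, Matrix.det_reindex_self, Matrix.det_fromBlocks_zero₂₁, Matrix.det_one, one_mul]
    exact kerMat_det d hnd)
  D_block i j h := by
    replace h : dMat m d (μ := μ) i j ≠ 0 := h
    obtain ⟨s, rfl⟩ := (idx m d).surjective i
    obtain ⟨t, rfl⟩ := (idx m d).surjective j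
    rw [dMat_apply] at h
    rcases s with s | a <;> rcases t with t | b
    · have : s = t := by
        by_contra hne
        exact h (by simp [hne])
      rw [this]
    · simp at h
    · simp at h
    · apply Fin.ext
      rw [blk_val, blk_val, idx_inr, idx_inr]
      have := a.2
      have := b.2
      split_ifs <;> omega
  polar_eq x y := by
    show polar (⇑(form m d μ)) x y = ∑ i, x (Fin.rev i) * (dMat m d (μ := μ) *ᵥ y) i
    rw [← Equiv.sum_comp (idx m d), Fintype.sum_sum_type, Fintype.sum_sum_type, polar_form,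
      ← Finset.sum_add_distrib]
    have hD : ∀ s, (dMat m d (μ := μ) *ᵥ y) (idx m d s) =
        (Matrix.fromBlocks 1 0 0 (kerMat d μ) *ᵥ (y ∘ idx m d)) s := fun s => by
      simp only [Matrix.mulVec, dotProduct]
      rw [← Equiv.sum_comp (idx m d)]
      exact Finset.sum_congr rfl fun t _ => by rw [dMat_apply]; rfl
    have hI : ∀ s : Fin m ⊕ Fin m, (dMat m d (μ := μ) *ᵥ y) (idx m d (.inl s)) =
        y (idx m d (.inl s)) := fun s => by
      rw [hD, Matrix.fromBlocks_mulVec]
      simp
    congr 1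
    · refine Finset.sum_congr rfl fun i _ => ?_
      rw [hI, hI, idx_inl_inr, Fin.rev_rev]
      ring
    · rw [polar_kerMat]
      refine Finset.sum_congr rfl fun a _ => ?_
      rw [idx_rev_inr, hD, Matrix.fromBlocks_mulVec]
      simp [Function.comp_def]
  low x hx := by
    have h0 : ∀ k : Fin (2 * m + d), m ≤ (k : ℕ) → x k = 0 := fun k hk => by
      by_contra h
      exact absurd ((blk_low_iff m d k).mp (hx k h)) (not_lt.mpr hk)
    rw [form_apply, Finset.sum_eq_zero fun i _ => by
      rw [h0 (idx m d (.inl (.inr i))) (by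
        rw [idx_inl_inr, Fin.val_rev, idx_inl_inl]; have := i.2; omega), mul_zero],
      show (fun a => x (idx m d (.inr a))) = 0 from funext fun a => h0 _ (by
        rw [idx_inr]; omega), QuadraticMap.map_zero, zero_add]
  aniso x hx hQ k hk := by
    have h0 : ∀ k : Fin (2 * m + d), m + d ≤ (k : ℕ) → x k = 0 := fun k hk' => by
      by_contra h
      have := hx k h
      rw [Fin.le_def, Fin.val_rev, blk_val, if_neg (by omega), if_neg (by omega)] at this
      have := k.2
      omega
    rw [form_apply, Finset.sum_eq_zero fun i _ => by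
      rw [h0 (idx m d (.inl (.inr i))) (by
        rw [idx_inl_inr, Fin.val_rev, idx_inl_inl]; have := i.2; omega), mul_zero], zero_add] at hQ
    rw [blk_low_iff]
    by_contra hkm
    refine hk ?_
    by_cases hk2 : (k : ℕ) < m + d
    · have := congrFun (han _ hQ) ⟨(k : ℕ) - m, by omega⟩
      rwa [show idx m d (.inr ⟨(k : ℕ) - m, by omega⟩) = k from Fin.ext (by
        rw [idx_inr]; simp only; omega)] at this
    · exact h0 k (not_lt.mp hk2)
  lift := lift m d
  lift_c w hw k := by rw [lift_apply m d hw, blk_liftFun m d hw]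
  lift_mono w hw k l hkl hlt := by
    have hk : Fin.rev (blk m d k) = blk m d k := by
      by_contra h
      exact hlt.ne (blk_single m d k l hkl h)
    rw [lift_apply m d hw, lift_apply m d hw, liftFun, if_pos hk, liftFun, if_pos (hkl ▸ hk)]
    exact hlt
  lift_iso w hw x := by
    have hP : ∀ k, ((permGL (2 * m + d) F (lift m d w) : Matrix _ _ F) *ᵥ x) k =
        x (liftFun m d w⁻¹ k) := fun k => by
      simp only [Matrix.mulVec, dotProduct]
      rw [Finset.sum_eq_single ((lift m d w)⁻¹ k)]
      · rw [permGL_apply, if_pos (by exact (lift m d w).apply_symm_apply k), one_mul,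
          lift_inv_apply m d hw]
      · intro l _ hl
        rw [permGL_apply, if_neg (fun h => hl (by
          rw [← h]; exact ((lift m d w).symm_apply_apply l).symm)), zero_mul]
      · simp
    rw [form_apply, form_apply]
    congr 1
    · have hw' := (pairedPerms _).inv_mem hw
      have hnm : ∀ i : Fin m, Fin.rev (blk m d (idx m d (.inl (.inl i)))) ≠
          blk m d (idx m d (.inl (.inl i))) := fun i => by
        rw [ne_eq, blk_mid_iff, idx_inl_inl]; have := i.2; omega
      have hout : ∀ i : Fin m, ¬ (m ≤ (liftFun m d w⁻¹ (idx m d (.inl (.inl i))) : ℕ) ∧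
          (liftFun m d w⁻¹ (idx m d (.inl (.inl i))) : ℕ) < m + d) := fun i h => by
        rw [← blk_mid_iff, blk_liftFun m d hw', ← hw'] at h
        exact hnm i (w⁻¹.injective h)
      let f : Fin m → Fin m := fun i =>
        if h : (liftFun m d w⁻¹ (idx m d (.inl (.inl i))) : ℕ) < m then ⟨_, h⟩
        else ⟨2 * m + d - ((liftFun m d w⁻¹ (idx m d (.inl (.inl i))) : ℕ) + 1), by
          have := hout i; omega⟩
      have hf : ∀ i, idx m d (.inl (.inl (f i))) = liftFun m d w⁻¹ (idx m d (.inl (.inl i))) ∨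
          Fin.rev (idx m d (.inl (.inl (f i)))) = liftFun m d w⁻¹ (idx m d (.inl (.inl i))) := by
        intro i
        by_cases h : (liftFun m d w⁻¹ (idx m d (.inl (.inl i))) : ℕ) < m
        · exact Or.inl (Fin.ext (by rw [idx_inl_inl]; simp [f, h]))
        · refine Or.inr (Fin.ext ?_)
          have := hout i
          rw [Fin.val_rev, idx_inl_inl]
          simp only [f, h, dite_false]
          omega
      have hinj : Function.Injective f := by
        intro i j hij
        have hcancel : ∀ a b, liftFun m d w⁻¹ a = liftFun m d w⁻¹ b → a = b := fun a b h => by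
          have h2 := congrArg (liftFun m d w⁻¹⁻¹) h
          rwa [liftFun_inv m d hw', liftFun_inv m d hw'] at h2
        have hne : ∀ a b : Fin m, Fin.rev (idx m d (.inl (.inl a))) ≠ idx m d (.inl (.inl b)) :=
          fun a b h => by
            rw [Fin.ext_iff, Fin.val_rev, idx_inl_inl, idx_inl_inl] at h
            have := a.2; have := b.2; omega
        rcases hf i with h1 | h1 <;> rcases hf j with h2 | h2 <;> rw [hij] at h1
        · exact Sum.inl_injective (Sum.inl_injective ((idx m d).injective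
            (hcancel _ _ (h1.symm.trans h2))))
        · exfalso
          rw [h1, ← liftFun_rev m d hw' _ (hnm i)] at h2
          exact hne _ _ (hcancel _ _ h2)
        · exfalso
          rw [h2, ← liftFun_rev m d hw' _ (hnm j)] at h1
          exact hne _ _ (hcancel _ _ h1)
        · exact Sum.inl_injective (Sum.inl_injective ((idx m d).injective
            (hcancel _ _ (h1.symm.trans h2))))
      refine Fintype.sum_bijective f ⟨hinj, Finite.surjective_of_injective hinj⟩ _ _ fun i => ?_
      rw [hP, hP, idx_inl_inr, liftFun_rev m d hw' _ (hnm i), idx_inl_inr]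
      rcases hf i with h | h <;> rw [← h]
      rw [Fin.rev_rev, mul_comm]
    · refine congrArg μ (funext fun a => ?_)
      rw [hP, liftFun, if_pos ((blk_mid_iff m d _).mpr (by
        rw [idx_inr]; have := a.2; omega))]

theorem card_mid (hnd : NDPolar μ) (han : ∀ y, μ y = 0 → y = 0) :
    Fintype.card (model m d hnd han).Mid = d := by
  let e : Fin d ≃ (model m d hnd han).Mid :=
    { toFun := fun a => ⟨idx m d (.inr a), (blk_mid_iff m d _).mpr (by
        rw [idx_inr]; have := a.2; omega)⟩
      invFun := fun k => ⟨(k.1 : ℕ) - m, by have := (blk_mid_iff m d k.1).mp k.2; omega⟩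
      left_inv := fun a => by
        apply Fin.ext
        show (idx m d (.inr a) : ℕ) - m = a
        rw [idx_inr]; omega
      right_inv := fun k => by
        apply Subtype.ext
        apply Fin.ext
        show m + ((k.1 : ℕ) - m) = k.1
        have := (blk_mid_iff m d k.1).mp k.2
        omega }
  rw [← Fintype.card_congr e, Fintype.card_fin]

/-- Generation by reflections, with the exception of the split form of dimension four over two elements. -/
theorem closure_reflSet [Fintype F] (hnd : NDPolar μ) (han : ∀ y, μ y = 0 → y = 0) (hm : 1 ≤ m)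
    (h : Fintype.card F ≠ 2 ∨ 2 * m + d ≠ 4 ∨ 1 ≤ d) :
    Subgroup.closure (CfsgLib.Orth.reflSet (form m d μ)) = ⊤ := by
  by_cases hr : Fintype.card F ≠ 2 ∨ 2 * m + d ≠ 4
  · exact CfsgLib.OrthCrit.closure_reflSet (model m d hnd han).ndPolar
      (regular_of_card (Fintype.card_fin _) hr)
  push Not at hr
  have hd : 1 ≤ d := by omega
  obtain rfl : m = 1 := by omega
  refine CfsgLib.Orth.closure_refl_of (model 1 d hnd han).ndPolar (Or.inr (Or.inr fun W hW => ?_))
  by_contra! hs
  set lo := idx 1 d (.inl (.inl 0))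
  set hi := idx 1 d (.inl (.inr 0))
  let φ : ↥W →ₗ[F] F := (LinearMap.proj lo).comp W.subtype
  obtain ⟨w, hw, hw0⟩ : ∃ w ∈ LinearMap.ker φ, w ≠ 0 := by
    refine Submodule.exists_mem_ne_zero_of_ne_bot fun hb => ?_
    have h1 := LinearMap.finrank_range_add_finrank_ker φ
    rw [hb, finrank_bot, hW] at h1
    have h2 := Submodule.finrank_le (LinearMap.range φ)
    rw [Module.finrank_self] at h2
    omega
  have hwlo : w.1 lo = 0 := hw
  have hmid : ∀ y ∈ W, y lo = 0 → ∀ a, y (idx 1 d (.inr a)) = 0 := fun y hy h0 a => by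
    have h1 := hs y hy
    rw [form_apply, Fin.sum_univ_one, show y (idx 1 d (.inl (.inl 0))) = 0 from h0, zero_mul,
      zero_add] at h1
    exact congrFun (han _ h1) a
  have hwhi : w.1 hi ≠ 0 := fun h0 => hw0 (Subtype.ext (funext fun k => by
    obtain ⟨s, rfl⟩ := (idx 1 d).surjective k
    rcases s with (i | i) | a
    · rw [Subsingleton.elim i 0]; exact hwlo
    · rw [Subsingleton.elim i 0]; exact h0
    · exact hmid _ w.2 hwlo a))
  have hall : ∀ y ∈ W, y = (y hi / w.1 hi) • w.1 := by
    intro y hy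
    have hp : polar (⇑(form 1 d μ)) y w.1 = 0 := by
      simp only [polar, hs _ (W.add_mem hy w.2), hs _ hy, hs _ w.2, sub_zero]
    rw [polar_form, Fin.sum_univ_one, show (fun a => w.1 (idx 1 d (.inr a))) = 0 from
      funext (hmid _ w.2 hwlo), show w.1 (idx 1 d (.inl (.inl 0))) = 0 from hwlo, mul_zero, add_zero,
      show polar (⇑μ) (fun a => y (idx 1 d (.inr a))) 0 = 0 by simp [polar], add_zero] at hp
    have hylo : y lo = 0 := (mul_eq_zero.mp hp).resolve_right hwhi
    funext k
    obtain ⟨s, rfl⟩ := (idx 1 d).surjective k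
    rcases s with (i | i) | a
    · rw [Subsingleton.elim i 0, Pi.smul_apply]
      show y lo = _ • w.1 lo
      rw [hylo, hwlo, smul_zero]
    · rw [Subsingleton.elim i 0, Pi.smul_apply, smul_eq_mul]
      exact (div_mul_cancel₀ _ hwhi).symm
    · rw [Pi.smul_apply, hmid _ hy hylo, hmid _ w.2 hwlo, smul_zero]
  have hle : W ≤ F ∙ w.1 := fun y hy =>
    Submodule.mem_span_singleton.mpr ⟨_, (hall y hy).symm⟩
  have h3 := Submodule.finrank_mono hle
  rw [finrank_span_singleton (fun h => hw0 (Subtype.ext h)), hW] at h3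
  omega

end OrthStd

/-- Change of coordinates between isometry groups. -/
def isoCongr {F : Type*} [Field F] {ι κ : Type} [Fintype ι] [DecidableEq ι] [Fintype κ] [DecidableEq κ]
    (e : ι ≃ κ) (Qf : (ι → F) → F) (Qg : (κ → F) → F) (h : ∀ x, Qg x = Qf (x ∘ e)) :
    isometryGroup F Qg →* isometryGroup F Qf :=
  ((Units.map (Matrix.reindexAlgEquiv F F e.symm).toMulEquiv.toMonoidHom).comp
    (isometryGroup F Qg).subtype).codRestrict _ fun g u _ => by
      show Qf ((((g : GL κ F) : Matrix κ κ F).submatrix e e) *ᵥ u) = Qf u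
      rw [Matrix.submatrix_mulVec_equiv, ← h]
      refine (g.2 _ (u ∘ e.symm)).trans ?_
      show Qg (u ∘ e.symm) = Qf u
      rw [h, Function.comp_assoc, Equiv.symm_comp_self, Function.comp_id]

/-- The Steinberg character of the projective commutator subgroup, from adapted coordinates. -/
theorem exists_pomega_character {F : Type*} [Field F] [Fintype F] (p : ℕ) [Fact p.Prime] [CharP F p]
    {ι : Type} [Fintype ι] [DecidableEq ι] (Qf : (ι → F) → F) (m d : ℕ) (hm : 1 ≤ m) (hd : d ≤ 2)
    (μ : QuadraticForm F (Fin d → F)) (hnd : NDPolar μ) (han : ∀ y, μ y = 0 → y = 0)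
    (hex : Fintype.card F ≠ 2 ∨ m + d ≠ 2 ∨ 1 ≤ d ∧ 2 * (m + d) ≠ 4)
    (e : ι ≃ Fin (2 * m + d)) (he : ∀ x, OrthStd.form m d μ x = Qf (x ∘ e)) :
    ∃ χ : POmega F Qf → ℂ, Cfsg.IsIrrCharacter (POmega F Qf) χ ∧ ∀ P : Sylow p (POmega F Qf),
      χ 1 = (Nat.card P : ℂ) ∧ ∀ x : POmega F Qf, x ∈ P → x ≠ 1 → χ x = 0 := by
  set Φ := OrthStd.model m d hnd han
  let f : ↥(isometryGroup F ⇑Φ.Q) →* ↥(isometryGroup F Qf) := isoCongr e Qf _ he
  let f' : ↥(isometryGroup F Qf) →* ↥(isometryGroup F ⇑Φ.Q) := isoCongr e.symm _ Qf fun x => by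
    rw [show Φ.Q (x ∘ e.symm) = OrthStd.form m d μ (x ∘ e.symm) from rfl, he, Function.comp_assoc, Equiv.symm_comp_self, Function.comp_id]
  let E : ↥(isometryGroup F ⇑Φ.Q) ≃* ↥(isometryGroup F Qf) := f.toMulEquiv f'
    (MonoidHom.ext fun g => Subtype.ext (Units.ext (Matrix.ext fun i j => by
      simp [f, f', isoCongr])))
    (MonoidHom.ext fun g => Subtype.ext (Units.ext (Matrix.ext fun i j => by
      simp [f, f', isoCongr])))
  have hmap : (Omega F ⇑Φ.Q).map E.toMonoidHom = Omega F Qf := by
    rw [Omega, Omega, commutator_def, commutator_def, Subgroup.map_commutator,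
      Subgroup.map_top_of_surjective E.toMonoidHom E.surjective]
  let r : ↥(Omega F ⇑Φ.Q) ≃* ↥(Omega F Qf) :=
    (E.subgroupMap (Omega F ⇑Φ.Q)).trans (MulEquiv.subgroupCongr hmap)
  refine Φ.exists_omega_character p (by omega) (OrthStd.closure_reflSet m d hnd han hm ?_) ?_
    (by rw [OrthStd.card_mid]; exact hd)
    ((QuotientGroup.mk' (Subgroup.center ↥(Omega F Qf))).comp r.toMonoidHom)
    ((QuotientGroup.mk'_surjective _).comp r.surjective) ?_
  · rcases hex with h | h | ⟨h, -⟩
    · exact Or.inl h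
    · by_cases hd1 : 1 ≤ d
      · exact Or.inr (Or.inr hd1)
      · exact Or.inr (Or.inl (by omega))
    · exact Or.inr (Or.inr h)
  · refine regular_of_card (n := 2 * (m + d)) ?_ (hex.imp_right ?_)
    · rw [Fintype.card_sum, Fintype.card_fin, OrthStd.card_mid]; ring
    · omega
  · intro z hz
    rw [MonoidHom.mem_ker, MonoidHom.comp_apply, QuotientGroup.mk'_apply, QuotientGroup.eq_one_iff,
      Subgroup.mem_center_iff] at hz
    refine Subgroup.mem_center_iff.mpr fun g => r.injective ?_
    rw [map_mul, map_mul]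
    exact hz (r g)

end CfsgLib.SteinbergChar
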