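import Cfsg.Agent.Lib.SteinbergChar.Twisted
import Mathlib.LinearAlgebra.SymplecticGroup

/-!
The symplectic group as the isometry group of an antidiagonal alternating form.
-/

set_option autoImplicit false

open Matrix Finset

namespace CfsgLib.SteinbergChar

variable (m : ℕ) (F : Type*) [Field F]

/-- The antidiagonal alternating form. -/
def symplForm : AntiForm (m + m) F where
  σ := RingHom.id F
  σσ _ := rfl
  c k := if (k : ℕ) < m then -1 else 1
  c_ne k := by split_ifs <;> simp
  e := -1
  c_rev k := by
    have := k.2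
    simp only [Fin.val_rev, RingHom.id_apply]
    split_ifs <;> first | (exfalso; omega) | simp
  skew := ⟨1, one_ne_zero, by simp⟩
  odd h := absurd h (by simp [Nat.not_odd_iff_even])

/-- The reindexing of the symplectic basis. -/
def symplEquiv : Fin m ⊕ Fin m ≃ Fin (m + m) :=
  (Equiv.sumCongr (Equiv.refl (Fin m)) Fin.revPerm).trans finSumFinEquiv

theorem symplEquiv_inl (i : Fin m) : (symplEquiv m (Sum.inl i) : ℕ) = i := by simp [symplEquiv]

theorem symplEquiv_inr (i : Fin m) : (symplEquiv m (Sum.inr i) : ℕ) = m + (m - ((i : ℕ) + 1)) := by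
  simp [symplEquiv, Fin.val_rev, add_comm]

theorem symplEquiv_J :
    (Matrix.of fun i j => if j = Fin.rev i then (symplForm m F).c i else 0) =
      Matrix.reindexAlgEquiv F F (symplEquiv m) (Matrix.J (Fin m) F) := by
  ext i j
  obtain ⟨i, rfl⟩ := (symplEquiv m).surjective i
  obtain ⟨j, rfl⟩ := (symplEquiv m).surjective j
  rw [Matrix.reindexAlgEquiv_apply, Matrix.reindex_apply, Matrix.submatrix_apply,
    Equiv.symm_apply_apply, Equiv.symm_apply_apply, Matrix.of_apply]
  rcases i with i | i <;> rcases j with j | j <;>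
    simp only [symplForm, Matrix.J, Matrix.fromBlocks_apply₁₁, Matrix.fromBlocks_apply₁₂,
      Matrix.fromBlocks_apply₂₁, Matrix.fromBlocks_apply₂₂, Matrix.zero_apply, Matrix.neg_apply,
      Matrix.one_apply, Fin.ext_iff, Fin.val_rev, symplEquiv_inl, symplEquiv_inr]
  all_goals
    have := i.2; have := j.2
    split_ifs <;> first | rfl | (exfalso; omega) | simp

/-- The symplectic group in antidiagonal coordinates. -/
noncomputable def symplHom : Matrix.symplecticGroup (Fin m) F →* GL (Fin (m + m)) F :=
  MonoidHom.toHomUnits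
    { toFun := fun g => Matrix.reindexAlgEquiv F F (symplEquiv m) (g : Matrix _ _ F)
      map_one' := map_one _
      map_mul' := fun a b => map_mul (Matrix.reindexAlgEquiv F F (symplEquiv m)) (a : Matrix _ _ F) b }

theorem symplHom_coe (g : Matrix.symplecticGroup (Fin m) F) :
    (symplHom m F g : Matrix (Fin (m + m)) (Fin (m + m)) F) =
      Matrix.reindexAlgEquiv F F (symplEquiv m) (g : Matrix _ _ F) := rfl

theorem reindex_transpose (A : Matrix (Fin m ⊕ Fin m) (Fin m ⊕ Fin m) F) :
    (Matrix.reindexAlgEquiv F F (symplEquiv m) A)ᵀ = Matrix.reindexAlgEquiv F F (symplEquiv m) Aᵀ := rfl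

/-- The isometry data of the symplectic group. -/
noncomputable def symplData : IsometryGroupData (symplForm m F) (Matrix.symplecticGroup (Fin m) F) where
  f := symplHom m F
  inj a b h := Subtype.ext ((Matrix.reindexAlgEquiv F F (symplEquiv m)).injective (congrArg Units.val h))
  fixed g := by
    refine AntiForm.twist_eq_self _ ?_
    rw [symplEquiv_J, symplHom_coe]
    show (Matrix.map _ (RingHom.id F))ᵀ * _ * _ = _
    rw [RingHom.coe_id, Matrix.map_id, reindex_transpose, ← map_mul, ← map_mul,
      SymplecticGroup.mem_iff'.mp g.2]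
  range_det g hg _ := by
    have h := (symplForm m F).isometry_of_twist hg
    rw [symplEquiv_J] at h
    change (Matrix.map _ (RingHom.id F))ᵀ * _ * _ = _ at h
    rw [RingHom.coe_id, Matrix.map_id] at h
    obtain ⟨A, hA⟩ := (Matrix.reindexAlgEquiv F F (symplEquiv m)).surjective (g : Matrix _ _ F)
    rw [← hA, reindex_transpose, ← map_mul, ← map_mul] at h
    exact ⟨⟨A, SymplecticGroup.mem_iff'.mpr ((Matrix.reindexAlgEquiv F F (symplEquiv m)).injective h)⟩,
      Units.ext hA⟩
  adjust g hg := by
    have h := (symplForm m F).isometry_of_twist hg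
    rw [symplEquiv_J] at h
    change (Matrix.map _ (RingHom.id F))ᵀ * _ * _ = _ at h
    rw [RingHom.coe_id, Matrix.map_id] at h
    obtain ⟨A, hA⟩ := (Matrix.reindexAlgEquiv F F (symplEquiv m)).surjective (g : Matrix _ _ F)
    rw [← hA, reindex_transpose, ← map_mul, ← map_mul] at h
    refine ⟨1, one_mem _,
      ⟨A, SymplecticGroup.mem_iff'.mpr ((Matrix.reindexAlgEquiv F F (symplEquiv m)).injective h)⟩, ?_⟩
    rw [mul_one]
    exact Units.ext hA

end CfsgLib.SteinbergChar
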