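import Cfsg.Agent.Lib.SteinbergChar.Linear
import Cfsg.Agent.Lib.SteinbergChar.Paired

/-!
The Steinberg character of the isometry group of an antidiagonal form.
-/

set_option autoImplicit false

open Matrix Finset CfsgLib.GLFlags

namespace CfsgLib.SteinbergChar

variable {n : ℕ} {F : Type*} [Field F]

/-- An antidiagonal sesquilinear form, given by its field automorphism and its entries. -/
structure AntiForm (n : ℕ) (F : Type*) [Field F] where
  σ : F →+* F
  σσ : ∀ a, σ (σ a) = a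
  c : Fin n → F
  c_ne : ∀ i, c i ≠ 0
  e : F
  c_rev : ∀ i, c (Fin.rev i) = e * σ (c i)
  skew : ∃ v : F, v ≠ 0 ∧ σ v = -(e * v)
  odd : Odd n → (∀ i, c i = 1) ∧ ∃ z : F, z + σ z = 1

namespace AntiForm

variable (Φ : AntiForm n F)

/-- The matrix of the twisting automorphism. -/
def twistMat (g : GL (Fin n) F) : Matrix (Fin n) (Fin n) F :=
  Matrix.of fun i j => (Φ.c (Fin.rev i))⁻¹ *
    Φ.σ (((g⁻¹ : GL (Fin n) F) : Matrix (Fin n) (Fin n) F) (Fin.rev j) (Fin.rev i)) * Φ.c (Fin.rev j)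

theorem twistMat_mul (g h : GL (Fin n) F) : Φ.twistMat (g * h) = Φ.twistMat g * Φ.twistMat h := by
  ext i j
  simp only [twistMat, Matrix.mul_apply, Matrix.of_apply, _root_.mul_inv_rev, Units.val_mul, map_sum,
    Finset.sum_mul, Finset.mul_sum]
  rw [← Equiv.sum_comp Fin.revPerm]
  refine Finset.sum_congr rfl fun k _ => ?_
  simp only [Fin.revPerm_apply, map_mul]
  have := Φ.c_ne (Fin.rev k)
  field_simp

theorem twistMat_one : Φ.twistMat 1 = 1 := by
  ext i j
  simp only [twistMat, Matrix.of_apply, inv_one, Units.val_one]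
  by_cases h : i = j
  · subst h
    rw [Matrix.one_apply_eq, Matrix.one_apply_eq, map_one, mul_one, inv_mul_cancel₀ (Φ.c_ne _)]
  · rw [Matrix.one_apply_ne h, Matrix.one_apply_ne (fun h' => h (Fin.rev_injective h').symm), map_zero,
      mul_zero, zero_mul]

/-- The twisting automorphism of `GL n`. -/
def twist : GL (Fin n) F →* GL (Fin n) F where
  toFun g := ⟨Φ.twistMat g, Φ.twistMat g⁻¹,
    by rw [← twistMat_mul, mul_inv_cancel, twistMat_one],
    by rw [← twistMat_mul, inv_mul_cancel, twistMat_one]⟩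
  map_one' := Units.ext Φ.twistMat_one
  map_mul' g h := Units.ext (Φ.twistMat_mul g h)

theorem twist_apply (g : GL (Fin n) F) (i j : Fin n) :
    (Φ.twist g : Matrix (Fin n) (Fin n) F) i j = (Φ.c (Fin.rev i))⁻¹ *
      Φ.σ (((g⁻¹ : GL (Fin n) F) : Matrix (Fin n) (Fin n) F) (Fin.rev j) (Fin.rev i)) *
      Φ.c (Fin.rev j) := rfl

/-- Isometries of the form are fixed by the twist. -/
theorem twist_eq_self {g : GL (Fin n) F}
    (h : ((g : Matrix (Fin n) (Fin n) F).map Φ.σ)ᵀ *
      (Matrix.of fun i j => if j = Fin.rev i then Φ.c i else 0) * (g : Matrix (Fin n) (Fin n) F) =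
      Matrix.of fun i j => if j = Fin.rev i then Φ.c i else 0) :
    Φ.twist g = g := by
  set J : Matrix (Fin n) (Fin n) F := Matrix.of fun i j => if j = Fin.rev i then Φ.c i else 0
  have h1 : ((g : Matrix (Fin n) (Fin n) F).map Φ.σ)ᵀ * J =
      J * ((g⁻¹ : GL (Fin n) F) : Matrix (Fin n) (Fin n) F) := by
    conv_rhs => rw [← h]
    rw [Matrix.mul_assoc, Units.mul_inv, Matrix.mul_one]
  have h2 : ∀ i j, Φ.σ ((g : Matrix (Fin n) (Fin n) F) (Fin.rev j) i) * Φ.c (Fin.rev j) =
      Φ.c i * ((g⁻¹ : GL (Fin n) F) : Matrix (Fin n) (Fin n) F) (Fin.rev i) j := by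
    intro i j
    have := congrFun (congrFun h1 i) j
    rw [Matrix.mul_apply, Matrix.mul_apply,
      Finset.sum_eq_single (Fin.rev j) (fun x _ hx => by
        rw [show J x j = 0 from if_neg fun hj => hx (by rw [hj, Fin.rev_rev]), mul_zero])
        (by simp),
      Finset.sum_eq_single (Fin.rev i) (fun x _ hx => by
        rw [show J i x = 0 from if_neg hx, zero_mul]) (by simp)] at this
    simpa [J] using this
  have h3 : Φ.twist g⁻¹ = g⁻¹ := by
    refine Units.ext (Matrix.ext fun i j => ?_)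
    rw [twist_apply, inv_inv, mul_assoc, h2 (Fin.rev i) j, inv_mul_cancel_left₀ (Φ.c_ne _), Fin.rev_rev]
  rw [map_inv] at h3
  exact inv_injective h3

/-- Fixed elements are isometries. -/
theorem isometry_of_twist {g : GL (Fin n) F} (h : Φ.twist g = g) :
    ((g : Matrix (Fin n) (Fin n) F).map Φ.σ)ᵀ *
      (Matrix.of fun i j => if j = Fin.rev i then Φ.c i else 0) * (g : Matrix (Fin n) (Fin n) F) =
      Matrix.of fun i j => if j = Fin.rev i then Φ.c i else 0 := by
  set J : Matrix (Fin n) (Fin n) F := Matrix.of fun i j => if j = Fin.rev i then Φ.c i else 0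
  suffices h1 : ((g : Matrix (Fin n) (Fin n) F).map Φ.σ)ᵀ * J =
      J * ((g⁻¹ : GL (Fin n) F) : Matrix (Fin n) (Fin n) F) by
    rw [h1, Matrix.mul_assoc, Units.inv_mul, Matrix.mul_one]
  ext i j
  rw [Matrix.mul_apply, Matrix.mul_apply,
    Finset.sum_eq_single (Fin.rev j) (fun x _ hx => by
      rw [show J x j = 0 from if_neg fun hj => hx (by rw [hj, Fin.rev_rev]), mul_zero])
      (by simp),
    Finset.sum_eq_single (Fin.rev i) (fun x _ hx => by
      rw [show J i x = 0 from if_neg hx, zero_mul]) (by simp)]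
  have h3 : Φ.twist g⁻¹ = g⁻¹ := by rw [map_inv, h]
  have h4 : (Φ.twist g⁻¹ : Matrix (Fin n) (Fin n) F) (Fin.rev i) j =
      ((g⁻¹ : GL (Fin n) F) : Matrix (Fin n) (Fin n) F) (Fin.rev i) j := by rw [h3]
  rw [twist_apply, inv_inv, Fin.rev_rev] at h4
  rw [← h4]
  have := Φ.c_ne i
  simp [J]
  field_simp

theorem twist_bor {g : GL (Fin n) F} (hg : g ∈ bor n F) : Φ.twist g ∈ bor n F := by
  intro i j hij
  rw [twist_apply, (inv_mem hg : g⁻¹ ∈ bor n F) (show id (Fin.rev i) < id (Fin.rev j) from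
    Fin.rev_lt_rev.mpr hij)]
  simp

theorem twist_uni [Finite F] {g : GL (Fin n) F} (hg : g ∈ uni n F) : Φ.twist g ∈ uni n F := by
  refine mem_uni.mpr ⟨Φ.twist_bor (uni_le_bor hg), fun i => ?_⟩
  rw [twist_apply, (mem_uni.mp (inv_mem hg)).2, map_one, mul_one, inv_mul_cancel₀ (Φ.c_ne _)]

/-- The twist of a permutation matrix. -/
theorem twist_perm (w : Equiv.Perm (Fin n)) :
    ∃ dd : GL (Fin n) F, (dd : Matrix (Fin n) (Fin n) F) =
        Matrix.diagonal (fun j => (Φ.c (w (Fin.rev j)))⁻¹ * Φ.c (Fin.rev j)) ∧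
      Φ.twist (permGL n F w) = permGL n F (Fin.revPerm * w * Fin.revPerm) * dd := by
  refine ⟨Matrix.GeneralLinearGroup.mkOfDetNeZero
    (Matrix.diagonal fun j => (Φ.c (w (Fin.rev j)))⁻¹ * Φ.c (Fin.rev j)) ?_, rfl, ?_⟩
  · rw [Matrix.det_diagonal, Finset.prod_ne_zero_iff]
    exact fun j _ => mul_ne_zero (inv_ne_zero (Φ.c_ne _)) (Φ.c_ne _)
  refine Units.ext (Matrix.ext fun i j => ?_)
  rw [twist_apply, Units.val_mul, permGL_mul, ← map_inv, permGL_apply]
  show _ = Matrix.diagonal _ _ _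
  rw [Matrix.diagonal_apply]
  by_cases h : w (Fin.rev j) = Fin.rev i
  · rw [if_pos, if_pos, map_one, mul_one]
    · have h0 : ((Fin.revPerm * w * Fin.revPerm)⁻¹ : Equiv.Perm (Fin n)) i = j := by
        rw [Equiv.Perm.inv_eq_iff_eq]
        simp [h]
      rw [h0, h]
    · rw [Equiv.Perm.inv_eq_iff_eq]
      simp [h]
    · rw [Equiv.Perm.inv_eq_iff_eq]; exact h.symm
  · rw [if_neg, if_neg, map_zero, mul_zero, zero_mul]
    · rw [Equiv.Perm.inv_eq_iff_eq]
      simp only [Equiv.Perm.mul_apply, Fin.revPerm_apply]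
      exact fun he => h (by rw [he, Fin.rev_rev])
    · rw [Equiv.Perm.inv_eq_iff_eq]; exact fun he => h he.symm

theorem inCell_twist {g : GL (Fin n) F} {w : Equiv.Perm (Fin n)} (h : InCell g w) :
    InCell (Φ.twist g) (Fin.revPerm * w * Fin.revPerm) := by
  obtain ⟨p, hp, q, hq, rfl⟩ := h
  obtain ⟨dd, hdd, he⟩ := Φ.twist_perm w
  refine ⟨Φ.twist p, Φ.twist_bor hp, dd * Φ.twist q, mul_mem ?_ (Φ.twist_bor hq), ?_⟩
  · show (dd : Matrix (Fin n) (Fin n) F).BlockTriangular id
    rw [hdd]; exact Matrix.blockTriangular_diagonal _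
  · rw [map_mul, map_mul, he]; group

/-- A transvection. -/
noncomputable def tv {i j : Fin n} (hij : i ≠ j) (t : F) : GL (Fin n) F :=
  Matrix.SpecialLinearGroup.toGL (Matrix.SpecialLinearGroup.transvection hij t)

theorem tv_coe {i j : Fin n} (hij : i ≠ j) (t : F) :
    (tv hij t : Matrix (Fin n) (Fin n) F) = 1 + Matrix.single i j t :=
  Matrix.SpecialLinearGroup.transvection_coe hij t

theorem tv_det {i j : Fin n} (hij : i ≠ j) (t : F) :
    (tv hij t : Matrix (Fin n) (Fin n) F).det = 1 := (Matrix.SpecialLinearGroup.transvection hij t).2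

theorem tv_mem_uni [Finite F] {i j : Fin n} (hij : i < j) (t : F) : tv hij.ne t ∈ uni n F :=
  ⟨_, AutPSL.transvection_mem_uniTri hij t, rfl⟩

theorem tv_inv {i j : Fin n} (hij : i ≠ j) (t : F) : (tv hij t)⁻¹ = tv hij (-t) := by
  rw [tv, ← map_inv, Matrix.SpecialLinearGroup.transvection_inv]; rfl

theorem tv_add {i j : Fin n} (hij : i ≠ j) (s t : F) : tv hij (s + t) = tv hij s * tv hij t := by
  rw [tv, Matrix.SpecialLinearGroup.transvection_add, map_mul]; rfl

theorem twist_tv {i j : Fin n} (hij : i ≠ j) (t : F) :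
    Φ.twist (tv hij t) =
      tv (show Fin.rev j ≠ Fin.rev i from fun h => hij (Fin.rev_injective h).symm)
        (-(Φ.σ t * Φ.c i / Φ.c j)) := by
  refine Units.ext (Matrix.ext fun a b => ?_)
  rw [twist_apply, tv_inv, tv_coe, tv_coe, Matrix.add_apply, Matrix.add_apply, Matrix.single_apply,
    Matrix.single_apply, map_add]
  by_cases hab : a = b
  · subst hab
    rw [Matrix.one_apply_eq, Matrix.one_apply_eq, if_neg, if_neg, map_one, map_zero, add_zero,
      mul_one, inv_mul_cancel₀ (Φ.c_ne _)]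
    · rintro ⟨h1, h2⟩; exact hij (Fin.rev_injective (h2.trans h1.symm))
    · rintro ⟨h1, h2⟩; exact hij (h1.trans h2.symm)
  · rw [Matrix.one_apply_ne hab, Matrix.one_apply_ne (fun h => hab (Fin.rev_injective h).symm),
      map_zero, zero_add, zero_add]
    by_cases hc : i = Fin.rev b ∧ j = Fin.rev a
    · rw [if_pos hc, if_pos ⟨by rw [hc.2, Fin.rev_rev], by rw [hc.1, Fin.rev_rev]⟩, hc.1, hc.2,
        map_neg]
      ring
    · rw [if_neg hc, if_neg, map_zero, mul_zero, zero_mul]
      rintro ⟨h1, h2⟩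
      exact hc ⟨by rw [← h2, Fin.rev_rev], by rw [← h1, Fin.rev_rev]⟩

theorem tv_comm {i j k l : Fin n} (hij : i ≠ j) (hkl : k ≠ l) (h1 : j ≠ k) (h2 : l ≠ i) (s t : F) :
    tv hij s * tv hkl t = tv hkl t * tv hij s := by
  refine Units.ext ?_
  rw [Units.val_mul, Units.val_mul, tv_coe, tv_coe]
  simp [add_mul, mul_add, h1, h2]
  abel

end AntiForm

/-- A group realised as a group of isometries of an antidiagonal form. -/
structure IsometryGroupData (Φ : AntiForm n F) (H : Type*) [Group H] where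
  f : H →* GL (Fin n) F
  inj : Function.Injective f
  fixed : ∀ h, Φ.twist (f h) = f h
  range_det : ∀ g : GL (Fin n) F, Φ.twist g = g → (g : Matrix (Fin n) (Fin n) F).det = 1 →
    ∃ h, f h = g
  adjust : ∀ g : GL (Fin n) F, Φ.twist g = g → ∃ dd ∈ bor n F, ∃ h, f h = g * dd

namespace IsometryGroupData

variable {Φ : AntiForm n F} {H : Type*} [Group H] (A : IsometryGroupData Φ H)

open AntiForm

include A in
theorem exists_root [Finite F] {i j : Fin n} (hij : (j : ℕ) = (i : ℕ) + 1) :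
    ∃ u : H, A.f u ∈ uni n F ∧ (A.f u : Matrix (Fin n) (Fin n) F) i j ≠ 0 := by
  have hlt : i < j := Fin.lt_def.mpr (by omega)
  have finish : ∀ g : GL (Fin n) F, Φ.twist g = g → g ∈ uni n F →
      (g : Matrix (Fin n) (Fin n) F) i j ≠ 0 →
      ∃ u : H, A.f u ∈ uni n F ∧ (A.f u : Matrix (Fin n) (Fin n) F) i j ≠ 0 := by
    intro g hg hu hne
    have hdet : (g : Matrix (Fin n) (Fin n) F).det = 1 := by
      obtain ⟨s, -, rfl⟩ := hu
      exact s.2
    obtain ⟨h, rfl⟩ := A.range_det g hg hdet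
    exact ⟨h, hu, hne⟩
  -- the root elements through a middle point
  have middle : ∀ a m : Fin n, a < m → Fin.rev m = m →
      ∃ g : GL (Fin n) F, Φ.twist g = g ∧ g ∈ uni n F ∧ (g : Matrix (Fin n) (Fin n) F) a m = 1 ∧
        (g : Matrix (Fin n) (Fin n) F) m (Fin.rev a) = -1 := by
    intro a m ham hm
    have hodd : Odd n := by
      have h1 := congrArg Fin.val hm
      have h2 := m.2
      rw [Fin.val_rev] at h1
      exact ⟨(m : ℕ), by omega⟩
    obtain ⟨hc, z, hz⟩ := Φ.odd hodd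
    have hma : m < Fin.rev a := by
      have := Fin.rev_lt_rev.mpr ham
      rwa [hm] at this
    have haa : a < Fin.rev a := ham.trans hma
    have hT : Φ.twist (tv ham.ne (1 : F)) = tv hma.ne (-1 : F) := by
      rw [twist_tv]
      simp [hc, hm]
    have hT' : Φ.twist (tv hma.ne (-1 : F)) = tv ham.ne (1 : F) := by
      rw [twist_tv]
      simp [hc, hm]
    have hz' : Φ.twist (tv haa.ne z) = tv haa.ne (-(Φ.σ z)) := by
      rw [twist_tv]
      simp [hc]
    have hbr : tv ham.ne (1 : F) * tv hma.ne (-1 : F) =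
        tv hma.ne (-1 : F) * tv ham.ne (1 : F) * tv haa.ne (-1 : F) := by
      refine Units.ext ?_
      simp [tv_coe, add_mul, mul_add, ham.ne, ham.ne', hma.ne, hma.ne', haa.ne, haa.ne']
      abel
    refine ⟨tv ham.ne 1 * tv hma.ne (-1) * tv haa.ne z, ?_,
      mul_mem (mul_mem (tv_mem_uni ham 1) (tv_mem_uni hma _)) (tv_mem_uni haa z), ?_, ?_⟩
    · rw [map_mul, map_mul, hT, hT', hz', show -(Φ.σ z) = -1 + z by linear_combination -hz, tv_add,
        ← mul_assoc, ← hbr]
    · simp [tv_coe, add_mul, mul_add, Matrix.single_apply, ham.ne, ham.ne', hma.ne, hma.ne', haa.ne, haa.ne']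
    · simp [tv_coe, add_mul, mul_add, Matrix.single_apply, ham.ne, ham.ne', hma.ne, hma.ne', haa.ne, haa.ne']
  by_cases hj : Fin.rev j = j
  · obtain ⟨g, h1, h2, h3, -⟩ := middle i j hlt hj
    exact finish g h1 h2 (by rw [h3]; exact one_ne_zero)
  by_cases hi : Fin.rev i = i
  · obtain ⟨g, h1, h2, -, h4⟩ := middle (Fin.rev j) i (by
      have := Fin.rev_lt_rev.mpr hlt; rwa [hi] at this) hi
    rw [Fin.rev_rev] at h4
    exact finish g h1 h2 (by rw [h4]; exact neg_ne_zero.mpr one_ne_zero)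
  by_cases hc : Fin.rev j = i
  · obtain ⟨v, hv, hσv⟩ := Φ.skew
    have hci : Φ.c j = Φ.e * Φ.σ (Φ.c i) := by rw [← hc, ← Φ.c_rev, Fin.rev_rev]
    have he : Φ.e ≠ 0 := left_ne_zero_of_mul (hci ▸ Φ.c_ne j)
    have hσc : Φ.σ (Φ.c i) ≠ 0 := right_ne_zero_of_mul (hci ▸ Φ.c_ne j)
    have ht : -(Φ.σ (v / Φ.σ (Φ.c i)) * Φ.c i / Φ.c j) = v / Φ.σ (Φ.c i) := by
      rw [map_div₀, Φ.σσ, hσv, hci]
      have := Φ.c_ne i
      field_simp
      try ring
    refine finish (tv hlt.ne (v / Φ.σ (Φ.c i))) ?_ (tv_mem_uni hlt _) ?_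
    · rw [twist_tv]
      refine Units.ext ?_
      rw [tv_coe, tv_coe, ht, show Fin.rev i = j by rw [← hc, Fin.rev_rev], hc]
    · rw [tv_coe]
      simp [hlt.ne, hv, hσc]
  · have hlt' : Fin.rev j < Fin.rev i := Fin.rev_lt_rev.mpr hlt
    refine finish (tv hlt.ne (1 : F) * Φ.twist (tv hlt.ne (1 : F))) ?_
      (mul_mem (tv_mem_uni hlt _) (Φ.twist_uni (tv_mem_uni hlt _))) ?_
    · rw [map_mul, twist_tv, twist_tv,
        tv_comm hlt.ne hlt'.ne (fun h => hj h.symm) hi]
      congr 1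
      refine Units.ext ?_
      rw [tv_coe, tv_coe]
      simp only [Fin.rev_rev, map_neg, map_div₀, map_mul, map_one, one_mul, Φ.c_rev, Φ.σσ]
      congr 2
      have hci := Φ.c_rev i
      have hcj := Φ.c_rev j
      have he : Φ.e ≠ 0 := left_ne_zero_of_mul (hci ▸ Φ.c_ne (Fin.rev i))
      have := Φ.c_ne i
      have := Φ.c_ne j
      have : Φ.σ (Φ.c i) ≠ 0 := right_ne_zero_of_mul (hci ▸ Φ.c_ne (Fin.rev i))
      have : Φ.σ (Φ.c j) ≠ 0 := right_ne_zero_of_mul (hcj ▸ Φ.c_ne (Fin.rev j))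
      field_simp
    · rw [twist_tv]
      simp [tv_coe, add_mul, mul_add, Matrix.single_apply, hlt.ne, hlt.ne', hc, Ne.symm hj, hj]

include A in
theorem rep_perm {w : Equiv.Perm (Fin n)} (hw : w ∈ pairedPerms n) :
    ∃ h : H, ∃ β ∈ bor n F, A.f h = permGL n F w * β := by
  let r : Fin n → F := fun i => Φ.c i / Φ.c (w i)
  let d : Fin n → F := fun j => if Fin.rev j < j then r (Fin.rev j) else 1
  have hd : ∀ j, d j ≠ 0 := fun j => by
    simp only [d]
    split_ifs
    · exact div_ne_zero (Φ.c_ne _) (Φ.c_ne _)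
    · exact one_ne_zero
  have hσr : ∀ j, Φ.σ (r j) = r (Fin.rev j) := fun j => by
    have he : Φ.e ≠ 0 := left_ne_zero_of_mul (Φ.c_rev j ▸ Φ.c_ne (Fin.rev j))
    simp only [r, map_div₀, hw j, Φ.c_rev]
    rw [mul_div_mul_left _ _ he]
  have hd2 : ∀ j, (Φ.σ (d (Fin.rev j)))⁻¹ * ((Φ.c (w (Fin.rev j)))⁻¹ * Φ.c (Fin.rev j)) = d j := by
    intro j
    rw [inv_mul_eq_div (Φ.c (w (Fin.rev j))), show Φ.c (Fin.rev j) / Φ.c (w (Fin.rev j)) =
      r (Fin.rev j) from rfl]
    simp only [d, Fin.rev_rev]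
    rcases lt_trichotomy (Fin.rev j) j with h | h | h
    · rw [if_pos h, if_neg h.not_gt, map_one, inv_one, one_mul]
    · rw [if_neg h.not_lt, if_neg h.symm.not_lt, map_one, inv_one, one_mul]
      have : w j = j := by
        have hwj := hw j
        rw [h] at hwj
        have h1 := congrArg Fin.val h
        have h2 := congrArg Fin.val hwj
        rw [Fin.val_rev] at h1 h2
        exact Fin.ext (by omega)
      simp only [r, h, this]
      exact div_self (Φ.c_ne _)
    · rw [if_neg h.not_gt, if_pos h, hσr, inv_mul_cancel₀ (div_ne_zero (Φ.c_ne _) (Φ.c_ne _))]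
  let dd : GL (Fin n) F := Matrix.GeneralLinearGroup.mkOfDetNeZero (Matrix.diagonal d)
    (by rw [Matrix.det_diagonal, Finset.prod_ne_zero_iff]; exact fun j _ => hd j)
  have hdd : dd ∈ bor n F := by
    show (dd : Matrix (Fin n) (Fin n) F).BlockTriangular id
    exact Matrix.blockTriangular_diagonal d
  have hfix : Φ.twist (permGL n F w * dd) = permGL n F w * dd := by
    obtain ⟨δ, hδ, he⟩ := Φ.twist_perm w
    have hww : Fin.revPerm * w * Fin.revPerm = w := Equiv.ext fun x => by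
      simp [hw x]
    rw [map_mul, he, hww, mul_assoc]
    congr 1
    refine Units.ext ?_
    rw [Units.val_mul, hδ]
    have hi : ((dd⁻¹ : GL (Fin n) F) : Matrix (Fin n) (Fin n) F) = Matrix.diagonal fun j => (d j)⁻¹ := by
      rw [Matrix.coe_units_inv]
      refine Matrix.inv_eq_left_inv ?_
      show (Matrix.diagonal fun j => (d j)⁻¹) * Matrix.diagonal d = 1
      rw [Matrix.diagonal_mul_diagonal, ← Matrix.diagonal_one]
      exact congrArg _ (funext fun j => inv_mul_cancel₀ (hd j))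
    ext i j
    rw [Matrix.diagonal_mul, twist_apply, hi]
    show _ = Matrix.diagonal d i j
    by_cases hij : i = j
    · subst hij
      rw [Matrix.diagonal_apply_eq, Matrix.diagonal_apply_eq, map_inv₀, ← hd2 i]
      have := Φ.c_ne (Fin.rev i)
      field_simp
      try rfl
    · rw [Matrix.diagonal_apply_ne _ hij, Matrix.diagonal_apply_ne _
        (fun h => hij (Fin.rev_injective h).symm), map_zero]
      simp
  obtain ⟨t, ht, h, hh⟩ := A.adjust _ hfix
  exact ⟨h, dd * t, mul_mem hdd ht, by rw [hh, mul_assoc]⟩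

/-- The construction data of an isometry group. -/
noncomputable def datum [Finite F] : Datum n F H where
  f := A.f
  inj := A.inj
  W := pairedPerms n
  cell h w hc x := by
    have h' := Φ.inCell_twist hc
    rw [A.fixed] at h'
    have := hc.unique h'
    conv_lhs => rw [this]
    simp
  rep w hw := A.rep_perm hw
  rev_mem := revPerm_mem
  uniLift h hc := by
    obtain ⟨u, hu, hb⟩ := exists_uni_rev hc
    have htu : Φ.twist u ∈ uni n F := Φ.twist_uni hu
    have hb' := Φ.twist_bor hb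
    rw [map_mul, map_inv, map_mul, A.fixed] at hb'
    obtain ⟨δ, hδ, he⟩ := Φ.twist_perm Fin.revPerm
    have hδb : δ ∈ bor n F := by
      show (δ : Matrix (Fin n) (Fin n) F).BlockTriangular id
      rw [hδ]; exact Matrix.blockTriangular_diagonal _
    rw [he, show (Fin.revPerm * Fin.revPerm * Fin.revPerm : Equiv.Perm (Fin n)) = Fin.revPerm from
      Equiv.ext fun x => by simp] at hb'
    have h1 : (Φ.twist u * permGL n F Fin.revPerm)⁻¹ * A.f h ∈ bor n F := by
      have := mul_mem hδb hb'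
      simpa [mul_assoc] using this
    have h2 : (permGL n F Fin.revPerm)⁻¹ * (u⁻¹ * Φ.twist u) * permGL n F Fin.revPerm ∈ bor n F := by
      have := mul_mem hb (inv_mem h1)
      simpa [mul_assoc] using this
    have h3 : u⁻¹ * Φ.twist u = 1 := by
      have hx := mem_uni.mp (mul_mem (inv_mem hu) htu)
      refine Units.ext (Matrix.ext fun i j => ?_)
      rw [Units.val_one]
      rcases lt_trichotomy i j with hlt | heq | hgt
      · rw [Matrix.one_apply_ne hlt.ne]
        have := h2 (show id (Fin.rev j) < id (Fin.rev i) from Fin.rev_lt_rev.mpr hlt)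
        rw [mul_assoc, ← map_inv, Units.val_mul, permGL_mul, Units.val_mul, mul_permGL] at this
        simpa [Fin.revPerm] using this
      · subst heq
        rw [Matrix.one_apply_eq]
        exact hx.2 i
      · rw [Matrix.one_apply_ne hgt.ne']
        exact hx.1 hgt
    have hdet : (u : Matrix (Fin n) (Fin n) F).det = 1 := by
      obtain ⟨s, -, rfl⟩ := id hu
      exact s.2
    obtain ⟨x, hx⟩ := A.range_det u (inv_mul_eq_one.mp h3).symm hdet
    exact ⟨x, hx ▸ hu, hx ▸ hb⟩
  regular i j hij := A.exists_root hij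
  sgn := pairedSgn
  sgn_rev := pairedSgn_ne revPerm_mem
  I := {a : ℕ // 2 * a + 2 ≤ n}
  b a := symBlock a.1
  mono a := symBlock_mono a.1
  refl a := symRefl a.2
  refl_mem a := symRefl_mem a.2
  refl_pres a := symRefl_pres a.2
  refl_ne a := symRefl_ne a.2
  refl_only a _ hv hb := symRefl_only a.2 hv hb
  sgn_refl a _ hw := pairedSgn_refl a.2 hw
  desc _ hw hne := symBlock_desc hw hne

end IsometryGroupData

end CfsgLib.SteinbergChar
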