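import Cfsg.Agent.Lib.SteinbergChar.Twisted
import Cfsg.Agent.Lib.Classical.Herm.Field
import Cfsg.Agent.Lib.Forms.Classify
import Cfsg.Prelude.Def_Classical

/-!
The special unitary group as a group of isometries of an antidiagonal Hermitian form.
-/

set_option autoImplicit false

open Matrix Finset

namespace CfsgLib.SteinbergChar

variable {F : Type*} [Field F] [Fintype F] {q : ℕ}

/-- The antidiagonal Hermitian form. -/
noncomputable def unitForm (hF : Fintype.card F = q ^ 2) (n : ℕ) : AntiForm n F where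
  σ := Classical.Herm.qPow hF
  σσ := Classical.Herm.qPow_qPow hF
  c _ := 1
  c_ne _ := one_ne_zero
  e := 1
  c_rev _ := by rw [map_one, mul_one]
  skew := by
    obtain ⟨a, ha⟩ := Classical.Herm.exists_qPow_ne hF
    refine ⟨a - Classical.Herm.qPow hF a, sub_ne_zero.mpr (Ne.symm ha), ?_⟩
    rw [map_sub, Classical.Herm.qPow_qPow, one_mul, neg_sub]
  odd _ := by
    refine ⟨fun _ => rfl, ?_⟩
    obtain ⟨x, hx⟩ : ∃ x, x + Classical.Herm.qPow hF x ≠ 0 := by
      by_contra hc
      push Not at hc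
      obtain ⟨a, ha⟩ := Classical.Herm.exists_qPow_ne hF
      have h1 := hc 1
      rw [map_one] at h1
      exact ha (by linear_combination hc a - a * h1)
    refine ⟨x / (x + Classical.Herm.qPow hF x), ?_⟩
    rw [map_div₀, map_add, Classical.Herm.qPow_qPow, add_comm (Classical.Herm.qPow hF x) x, ← add_div,
      div_self hx]

/-- A change of coordinates carrying the antidiagonal form to the standard one. -/
theorem exists_basis_change (hF : Fintype.card F = q ^ 2) (n : ℕ) :
    ∃ Q : GL (Fin n) F,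
      ((Q : Matrix (Fin n) (Fin n) F).map (Classical.Herm.qPow hF))ᵀ *
        (Matrix.of fun i j => if j = Fin.rev i then (unitForm hF n).c i else 0) *
          (Q : Matrix (Fin n) (Fin n) F) = 1 := by
  classical
  set σ := Classical.Herm.qPow hF with hσ
  let B : (Fin n → F) →ₛₗ[σ] (Fin n → F) →ₗ[F] F :=
    LinearMap.mk₂'ₛₗ σ (RingHom.id F) (fun x y => ∑ i, σ (x i) * y (Fin.rev i))
      (fun x x' y => by simp [add_mul, Finset.sum_add_distrib])
      (fun c x y => by simp [Finset.mul_sum, mul_assoc])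
      (fun x y y' => by simp [mul_add, Finset.sum_add_distrib])
      (fun c x y => by simp [Finset.mul_sum, mul_left_comm])
  have hB : ∀ x y, B x y = ∑ i, σ (x i) * y (Fin.rev i) := fun x y => rfl
  have hS : B.IsSymm := ⟨fun x y => by
    rw [hB, hB, map_sum, ← Equiv.sum_comp Fin.revPerm]
    refine Finset.sum_congr rfl fun i _ => ?_
    simp only [Fin.revPerm_apply, Fin.rev_rev, map_mul]
    rw [show σ (σ (x (Fin.rev i))) = x (Fin.rev i) from Classical.Herm.qPow_qPow hF _, mul_comm]⟩
  have hne : σ ≠ RingHom.id F := fun h => by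
    obtain ⟨a, ha⟩ := Classical.Herm.exists_qPow_ne hF
    exact ha (by rw [← hσ, h]; rfl)
  obtain ⟨b, -, hb⟩ := Forms.exists_orthonormal_family B hne (Classical.Herm.qPow_qPow hF) hS n ⊤
    (by simp) (fun x _ hx => by
      funext i
      have := hx (Pi.single (Fin.rev i) 1) trivial
      rw [hB, Finset.sum_eq_single i (fun k _ hk => by
        simp [Pi.single_apply, Fin.rev_injective.ne hk]) (by simp)] at this
      simp only [Pi.single_eq_same, mul_one] at this
      exact σ.injective (by rw [this, Pi.zero_apply, map_zero]))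
  let Q : Matrix (Fin n) (Fin n) F := Matrix.of fun i j => b j i
  have hQ : (Q.map σ)ᵀ * (Matrix.of fun i j => if j = Fin.rev i then (unitForm hF n).c i else 0) * Q = 1 := by
    ext i j
    rw [Matrix.one_apply, ← hb i j, hB, Matrix.mul_assoc, Matrix.mul_apply]
    refine Finset.sum_congr rfl fun k _ => ?_
    rw [Matrix.mul_apply, Finset.sum_eq_single (Fin.rev k) (fun x _ hx => by simp [hx]) (by simp)]
    simp [Q, unitForm]
  have hdet : Q.det ≠ 0 := by
    intro h0
    have := congrArg Matrix.det hQ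
    rw [Matrix.det_mul, h0, mul_zero, Matrix.det_one] at this
    exact zero_ne_one this
  exact ⟨Matrix.GeneralLinearGroup.mkOfDetNeZero Q hdet, hQ⟩

/-- The isometry data of the special unitary group. -/
theorem exists_unitData (hF : Fintype.card F = q ^ 2) {n : ℕ} (hn : 2 ≤ n) :
    Nonempty (IsometryGroupData (unitForm hF n) (Cfsg.SU n F q)) := by
  classical
  obtain ⟨p, l, hp, hc, hq⟩ := Classical.Herm.exists_charP_pow hF
  have : Fact p.Prime := ⟨hp⟩
  obtain ⟨Q, hQ⟩ := exists_basis_change hF n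
  set σ := Classical.Herm.qPow hF with hσ
  set J : Matrix (Fin n) (Fin n) F :=
    Matrix.of fun i j => if j = Fin.rev i then (unitForm hF n).c i else 0
  -- conjugating by `Q` exchanges the two isometry conditions
  have key : ∀ A : GL (Fin n) F,
      (((Q * A * Q⁻¹ : GL (Fin n) F) : Matrix (Fin n) (Fin n) F).map σ)ᵀ * J *
          ((Q * A * Q⁻¹ : GL (Fin n) F) : Matrix (Fin n) (Fin n) F) = J ↔
        ((A : Matrix (Fin n) (Fin n) F).map σ)ᵀ * (A : Matrix (Fin n) (Fin n) F) = 1 := by
    intro A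
    have hinv : (((Q⁻¹ : GL (Fin n) F) : Matrix (Fin n) (Fin n) F).map σ)ᵀ *
        ((Q : Matrix (Fin n) (Fin n) F).map σ)ᵀ = 1 := by
      rw [← Matrix.transpose_mul, ← Matrix.map_mul, Units.mul_inv, Matrix.map_one _ (map_zero _) (map_one _),
        Matrix.transpose_one]
    have hinv' : ((Q : Matrix (Fin n) (Fin n) F).map σ)ᵀ *
        (((Q⁻¹ : GL (Fin n) F) : Matrix (Fin n) (Fin n) F).map σ)ᵀ = 1 := by
      rw [← Matrix.transpose_mul, ← Matrix.map_mul, Units.inv_mul, Matrix.map_one _ (map_zero _) (map_one _),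
        Matrix.transpose_one]
    have hJ : (((Q⁻¹ : GL (Fin n) F) : Matrix (Fin n) (Fin n) F).map σ)ᵀ *
        ((Q⁻¹ : GL (Fin n) F) : Matrix (Fin n) (Fin n) F) = J := by
      calc _ = (((Q⁻¹ : GL (Fin n) F) : Matrix (Fin n) (Fin n) F).map σ)ᵀ *
            (((Q : Matrix (Fin n) (Fin n) F).map σ)ᵀ * J * (Q : Matrix (Fin n) (Fin n) F)) *
            ((Q⁻¹ : GL (Fin n) F) : Matrix (Fin n) (Fin n) F) := by rw [hQ, Matrix.mul_one]
        _ = _ := by
          rw [← Matrix.mul_assoc, ← Matrix.mul_assoc, hinv, Matrix.one_mul, Matrix.mul_assoc,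
            Units.mul_inv, Matrix.mul_one]
    have e1 : (((Q * A * Q⁻¹ : GL (Fin n) F) : Matrix (Fin n) (Fin n) F).map σ)ᵀ * J *
          ((Q * A * Q⁻¹ : GL (Fin n) F) : Matrix (Fin n) (Fin n) F) =
        (((Q⁻¹ : GL (Fin n) F) : Matrix (Fin n) (Fin n) F).map σ)ᵀ *
          (((A : Matrix (Fin n) (Fin n) F).map σ)ᵀ *
            (((Q : Matrix (Fin n) (Fin n) F).map σ)ᵀ * J * (Q : Matrix (Fin n) (Fin n) F)) *
              (A : Matrix (Fin n) (Fin n) F)) *
          ((Q⁻¹ : GL (Fin n) F) : Matrix (Fin n) (Fin n) F) := by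
      simp only [Units.val_mul, Matrix.map_mul, Matrix.transpose_mul, Matrix.mul_assoc]
    rw [e1, hQ, Matrix.mul_one]
    constructor
    · intro h
      calc _ = ((Q : Matrix (Fin n) (Fin n) F).map σ)ᵀ *
            ((((Q⁻¹ : GL (Fin n) F) : Matrix (Fin n) (Fin n) F).map σ)ᵀ *
              (((A : Matrix (Fin n) (Fin n) F).map σ)ᵀ * (A : Matrix (Fin n) (Fin n) F)) *
              ((Q⁻¹ : GL (Fin n) F) : Matrix (Fin n) (Fin n) F)) * (Q : Matrix (Fin n) (Fin n) F) := by
            rw [← Matrix.mul_assoc _ _ ((Q⁻¹ : GL (Fin n) F) : Matrix (Fin n) (Fin n) F), ← Matrix.mul_assoc _ (((Q⁻¹ : GL (Fin n) F) : Matrix (Fin n) (Fin n) F).map σ)ᵀ,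
              hinv', Matrix.one_mul, Matrix.mul_assoc _ ((Q⁻¹ : GL (Fin n) F) : Matrix (Fin n) (Fin n) F),
              Units.inv_mul, Matrix.mul_one]
        _ = 1 := by rw [h, hQ]
    · intro h
      rw [h, Matrix.mul_one, hJ]
  have hmem : ∀ g : Matrix.SpecialLinearGroup (Fin n) F, g ∈ Cfsg.SU n F q ↔
      ((g : Matrix (Fin n) (Fin n) F).map σ)ᵀ * (g : Matrix (Fin n) (Fin n) F) = 1 := by
    intro g
    have hcomb : ∀ x y : Fin n → F, Cfsg.hermForm n F q x y = x ⬝ᵥ (fun i => σ (y i)) := fun x y => by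
      simp [Cfsg.hermForm, dotProduct, hσ]
    constructor
    · intro h
      ext j i
      have h1 : Cfsg.hermForm n F q ((g : Matrix (Fin n) (Fin n) F) *ᵥ Pi.single i 1)
          ((g : Matrix (Fin n) (Fin n) F) *ᵥ Pi.single j 1) =
          Cfsg.hermForm n F q (Pi.single i 1) (Pi.single j 1) := h _ _
      rw [hcomb, hcomb, single_dotProduct, one_mul, Matrix.mulVec_single_one, Matrix.mulVec_single_one] at h1
      rw [Matrix.mul_apply, Matrix.one_apply]
      simp only [dotProduct, Matrix.col_apply, Pi.single_apply, apply_ite σ, map_one, map_zero] at h1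
      simp only [Matrix.transpose_apply, Matrix.map_apply]
      rw [Finset.sum_congr rfl fun k _ => mul_comm _ _, h1]
      exact if_congr eq_comm rfl rfl
    · intro h u v
      show Cfsg.hermForm n F q ((g : Matrix (Fin n) (Fin n) F) *ᵥ u)
        ((g : Matrix (Fin n) (Fin n) F) *ᵥ v) = _
      have hmap : (fun i => σ (((g : Matrix (Fin n) (Fin n) F) *ᵥ v) i)) =
          (g : Matrix (Fin n) (Fin n) F).map σ *ᵥ fun i => σ (v i) := by
        funext i
        simp [Matrix.mulVec, dotProduct, map_sum]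
      rw [hcomb, hcomb, hmap, dotProduct_mulVec, ← Matrix.mulVec_transpose, Matrix.mulVec_mulVec, h,
        Matrix.one_mulVec]
  let f : Cfsg.SU n F q →* GL (Fin n) F :=
    (MulAut.conj Q).toMonoidHom.comp (Matrix.SpecialLinearGroup.toGL.comp (Cfsg.SU n F q).subtype)
  have hfix : ∀ h, (unitForm hF n).twist (f h) = f h := fun h =>
    AntiForm.twist_eq_self _ ((key _).mpr ((hmem _).mp h.2))
  have hrange : ∀ g : GL (Fin n) F, (unitForm hF n).twist g = g →
      (g : Matrix (Fin n) (Fin n) F).det = 1 → ∃ h, f h = g := by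
    intro g hg hdet
    have hd : ((Q⁻¹ * g * Q : GL (Fin n) F) : Matrix (Fin n) (Fin n) F).det = 1 := by
      rw [Units.val_mul, Units.val_mul, Matrix.det_mul, Matrix.det_mul, hdet, mul_one,
        ← Matrix.det_mul, Units.inv_mul, Matrix.det_one]
    have hi : (((Q⁻¹ * g * Q : GL (Fin n) F) : Matrix (Fin n) (Fin n) F).map σ)ᵀ *
        ((Q⁻¹ * g * Q : GL (Fin n) F) : Matrix (Fin n) (Fin n) F) = 1 := by
      rw [← key]
      have e : Q * (Q⁻¹ * g * Q) * Q⁻¹ = g := by group
      rw [e]
      exact (unitForm hF n).isometry_of_twist hg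
    refine ⟨⟨⟨_, hd⟩, (hmem _).mpr hi⟩, ?_⟩
    show Q * Matrix.SpecialLinearGroup.toGL (⟨_, hd⟩ : Matrix.SpecialLinearGroup (Fin n) F) * Q⁻¹ = g
    have : Matrix.SpecialLinearGroup.toGL
        (⟨_, hd⟩ : Matrix.SpecialLinearGroup (Fin n) F) = Q⁻¹ * g * Q := Units.ext rfl
    rw [this]
    group
  refine ⟨⟨f, fun a b h => ?_, hfix, hrange, fun g hg => ?_⟩⟩
  · exact Subtype.ext (Matrix.SpecialLinearGroup.toGL_injective ((MulAut.conj Q).injective h))
  · set δ := (g : Matrix (Fin n) (Fin n) F).det with hδ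
    have hδ0 : δ ≠ 0 := by
      rw [hδ]
      exact (Matrix.GeneralLinearGroup.det g).ne_zero
    have hnorm : σ δ * δ = 1 := by
      have h1 := congrArg Matrix.det ((unitForm hF n).isometry_of_twist hg)
      rw [Matrix.det_mul, Matrix.det_mul, Matrix.det_transpose] at h1
      have hJ0 : J.det ≠ 0 := by
        intro h0
        have := congrArg Matrix.det hQ
        rw [Matrix.det_mul, Matrix.det_mul, h0, mul_zero, zero_mul, Matrix.det_one] at this
        exact zero_ne_one this
      have h2 : ((g : Matrix (Fin n) (Fin n) F).map σ).det = σ δ := (σ.map_det _).symm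
      change ((g : Matrix (Fin n) (Fin n) F).map σ).det * J.det * δ = J.det at h1
      rw [h2, mul_right_comm] at h1
      exact (mul_eq_right₀ hJ0).mp h1
    obtain ⟨a, ha0, ha⟩ : ∃ a : F, a ≠ 0 ∧ δ * (a * (σ a)⁻¹) = 1 := by
      obtain ⟨y, hy⟩ : ∃ y, y + δ⁻¹ * σ y ≠ 0 := by
        by_contra hc
        push Not at hc
        obtain ⟨a, ha⟩ := Classical.Herm.exists_qPow_ne hF
        have h1 := hc 1
        rw [map_one, mul_one] at h1
        have h2 := hc a
        rw [show δ⁻¹ = -1 by linear_combination h1] at h2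
        exact ha (by linear_combination -h2)
      have hσδ : σ δ = δ⁻¹ := eq_inv_of_mul_eq_one_left hnorm
      have hσ2 : ∀ x, σ (σ x) = x := Classical.Herm.qPow_qPow hF
      have e : σ (y + δ⁻¹ * σ y) = δ * (y + δ⁻¹ * σ y) := by
        rw [map_add, map_mul, map_inv₀, hσδ, inv_inv, hσ2, mul_add, mul_inv_cancel_left₀ hδ0, add_comm]
      refine ⟨y + δ⁻¹ * σ y, hy, ?_⟩
      rw [e, mul_inv, mul_left_comm, mul_inv_cancel_left₀ hδ0, mul_inv_cancel₀ hy]
    let d : Fin n → F := fun i =>
      if (i : ℕ) = 0 then a else if (i : ℕ) + 1 = n then (σ a)⁻¹ else 1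
    have hσa : σ a ≠ 0 := (map_ne_zero σ).mpr ha0
    have hd : ∀ i, d i ≠ 0 := fun i => by
      simp only [d]
      split_ifs <;> simp [ha0, hσa]
    let dd : GL (Fin n) F := Matrix.GeneralLinearGroup.mkOfDetNeZero (Matrix.diagonal d)
      (by rw [Matrix.det_diagonal, Finset.prod_ne_zero_iff]; exact fun i _ => hd i)
    have hdet : (Matrix.diagonal d).det = a * (σ a)⁻¹ := by
      have h0 : (⟨0, by omega⟩ : Fin n) ≠ ⟨n - 1, by omega⟩ := by simp [Fin.ext_iff]; omega
      rw [Matrix.det_diagonal, ← Finset.prod_subset (Finset.subset_univ {⟨0, by omega⟩, ⟨n - 1, by omega⟩}),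
        Finset.prod_pair h0]
      · simp only [d]
        rw [if_pos trivial, if_neg (by omega), if_pos (by omega)]
      · intro x _ hx
        simp only [Finset.mem_insert, Finset.mem_singleton, not_or, Fin.ext_iff] at hx
        simp only [d]
        rw [if_neg hx.1, if_neg (by omega)]
    have hfd : (unitForm hF n).twist dd = dd := by
      refine AntiForm.twist_eq_self _ ?_
      show ((Matrix.diagonal d).map σ)ᵀ * J * Matrix.diagonal d = J
      rw [Matrix.diagonal_map (map_zero σ), Matrix.diagonal_transpose]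
      ext i j
      rw [Matrix.mul_diagonal, Matrix.diagonal_mul]
      by_cases hj : j = Fin.rev i
      · subst hj
        have hi := i.2
        simp only [J, Matrix.of_apply, if_true, Function.comp_apply, d, Fin.val_rev, unitForm, mul_one]
        have hσ2 : σ (σ a) = a := Classical.Herm.qPow_qPow hF a
        split_ifs <;> first | (exfalso; omega) | simp [map_inv₀, hσ2, ha0, hσa]
      · simp [J, hj]
    have hb : dd ∈ bor n F := by
      show (dd : Matrix (Fin n) (Fin n) F).BlockTriangular id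
      exact Matrix.blockTriangular_diagonal d
    refine ⟨dd, hb, hrange (g * dd) (by rw [map_mul, hg, hfd]) ?_⟩
    rw [Units.val_mul, Matrix.det_mul]
    show δ * (Matrix.diagonal d).det = 1
    rw [hdet, ha]

end CfsgLib.SteinbergChar
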